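import Cfsg.Agent.Lib.FlavellA.Inner

/-!
The quotient of the configuration by the centre.

Blueprint: `blueprint/FlavellA.md`, section 4.
-/

set_option autoImplicit false
set_option linter.unusedSectionVars false
set_option linter.style.haveILetI false

namespace CfsgLib.FlavellA

open Cfsg
open scoped commutatorElement Pointwise

universe u

variable {X : Type u} [Group X]

/-- `G` modulo its centre. -/
abbrev Bar (G : Subgroup X) := G ⧸ Subgroup.center G

/-- The quotient map. -/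
def toBar (G : Subgroup X) : G →* Bar G := QuotientGroup.mk' _

/-- The image of a subgroup in the quotient by the centre. -/
def img (G U : Subgroup X) : Subgroup (Bar G) := (U.subgroupOf G).map (toBar G)

theorem mem_center_subgroup {G : Subgroup X} {x : G} : x ∈ Subgroup.center G ↔ (x : X) ∈ zentr G := by
  rw [Subgroup.mem_center_iff]
  refine ⟨fun hx => ⟨x.2, Subgroup.mem_centralizer_iff.2 fun y hy => congrArg Subtype.val (hx ⟨y, hy⟩)⟩,
    fun hx y => Subtype.ext (mem_zentr_comm hx y.2)⟩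

theorem toBar_eq {G : Subgroup X} {x y : G} : toBar G x = toBar G y ↔ (x : X)⁻¹ * y ∈ zentr G := by
  rw [toBar, QuotientGroup.mk'_apply, QuotientGroup.mk'_apply, QuotientGroup.eq, mem_center_subgroup]
  rfl

theorem toBar_eq_one {G : Subgroup X} {x : G} : toBar G x = 1 ↔ (x : X) ∈ zentr G := by
  rw [toBar, QuotientGroup.mk'_apply, QuotientGroup.eq_one_iff, mem_center_subgroup]

theorem toBar_surjective (G : Subgroup X) : Function.Surjective (toBar G) := QuotientGroup.mk'_surjective _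

theorem toBar_comm {G : Subgroup X} {x y : G} :
    toBar G x * toBar G y = toBar G y * toBar G x ↔ ⁅(x : X), (y : X)⁆ ∈ zentr G := by
  rw [← commutatorElement_eq_one_iff_mul_comm, ← map_commutatorElement, toBar_eq_one]
  rfl

theorem mem_img {G U : Subgroup X} (hU : U ≤ G) {x : G} :
    toBar G x ∈ img G U ↔ ∃ u ∈ U, (x : X)⁻¹ * u ∈ zentr G := by
  constructor
  · rintro ⟨u, hu, e⟩
    exact ⟨u, Subgroup.mem_subgroupOf.1 hu, toBar_eq.1 e.symm⟩
  · rintro ⟨u, hu, e⟩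
    exact ⟨⟨u, hU hu⟩, hu, (toBar_eq.2 e).symm⟩

theorem toBar_mem_img {G U : Subgroup X} {x : G} (hx : (x : X) ∈ U) : toBar G x ∈ img G U := ⟨x, hx, rfl⟩

theorem mem_img_iff {G U : Subgroup X} (hU : U ≤ G) (hz : zentr G ≤ U) {x : G} :
    toBar G x ∈ img G U ↔ (x : X) ∈ U := by
  refine ⟨fun hx => ?_, toBar_mem_img⟩
  obtain ⟨u, hu, e⟩ := (mem_img hU).1 hx
  have := U.mul_mem hu (U.inv_mem (hz e))
  rwa [show u * ((x : X)⁻¹ * u)⁻¹ = (x : X) by group] at this

theorem card_img [Finite X] {G U : Subgroup X} (hU : U ≤ G) : Nat.card (img G U) = (zentr G).relIndex U := by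
  let f : U →* Bar G := (toBar G).comp (Subgroup.inclusion hU)
  have hr : f.range = img G U := by
    ext y
    constructor
    · rintro ⟨u, rfl⟩
      exact toBar_mem_img u.2
    · rintro ⟨u, hu, rfl⟩
      exact ⟨⟨u, hu⟩, rfl⟩
  have hk : f.ker = (zentr G).subgroupOf U := by
    ext u
    rw [MonoidHom.mem_ker, Subgroup.mem_subgroupOf]
    show toBar G _ = 1 ↔ _
    rw [toBar_eq_one]
    rfl
  rw [← hr, ← Subgroup.index_ker, hk]
  rfl

namespace Setup

variable [Finite X] {G R S D Z Zc M : Subgroup X} {p r n : ℕ} (h : Setup G R S D Z Zc p r n)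
include h

theorem two_zentr {c : X} (hc : c ∈ zentr G) {i : ℕ} (hi : c ^ 2 ^ i = 1) : c ∈ S := by
  haveI : Fact (Nat.Prime 2) := ⟨Nat.prime_two⟩
  have hS : S ≤ Subgroup.normalizer (Subgroup.zpowers c : Set X) := fun s hs =>
    CfsgLib.Comp.mem_normalizer_of_maps fun v hv => by
      obtain ⟨k, rfl⟩ := hv
      rw [conj_mem_zentr (h.S_le hs) (Subgroup.zpow_mem _ hc k)]
      exact ⟨k, rfl⟩
  obtain ⟨j, -, hj⟩ := (Nat.dvd_prime_pow Nat.prime_two).1 (orderOf_dvd_of_pow_eq_one hi)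
  have h2 : IsPGroup 2 (Subgroup.zpowers c) := IsPGroup.of_card (n := j) (by rw [Nat.card_zpowers, hj])
  have hV : IsPGroup 2 (S ⊔ Subgroup.zpowers c : Subgroup X) := h.S_two.to_sup_of_normal_right' h2 hS
  have heq := Subgroup.eq_of_le_of_card_ge (le_sup_left : S ≤ S ⊔ Subgroup.zpowers c)
    (Nat.le_of_dvd Nat.card_pos (h.S_max _ (sup_le h.S_le (Subgroup.zpowers_le.2 hc.1)) hV))
  exact heq.ge (Subgroup.mem_sup_right (Subgroup.mem_zpowers c))

/-- Two-elements congruent to elements of `S` lie in `S`. -/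
theorem mem_S_of_cong {x s : X} (hs : s ∈ S) (hx : x⁻¹ * s ∈ zentr G) {i : ℕ} (hi : x ^ 2 ^ i = 1) : x ∈ S := by
  set c := x⁻¹ * s with hc
  obtain ⟨j, hj⟩ := h.S_two ⟨s, hs⟩
  have hj' : s ^ 2 ^ j = 1 := congrArg Subtype.val hj
  have hxG : x ∈ G := by
    have := G.mul_mem (h.S_le hs) (G.inv_mem hx.1)
    rwa [hc, show s * (x⁻¹ * s)⁻¹ = x by group] at this
  have hcomm : Commute c x := (mem_zentr_comm hx hxG).symm
  have hs' : s = x * c := by rw [hc]; group
  have h1 : c ^ 2 ^ (i + j) = 1 := by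
    have e : s ^ 2 ^ (i + j) = 1 := by rw [pow_add, mul_comm, pow_mul, hj', one_pow]
    rw [hs', hcomm.symm.mul_pow, pow_add, pow_mul x, hi, one_pow, one_mul] at e
    rwa [pow_add]
  have := S.mul_mem hs (S.inv_mem (h.two_zentr hx h1))
  rwa [hs', mul_inv_cancel_right] at this

theorem exists_zentr_out : zentr G ≠ G := fun e => h.D_not_central (h.D_le_G.trans fun _ hx => (e.ge hx).2)

theorem zentr_le_M (hM : MaxData G R D Z Zc M) : zentr G ≤ M := fun c hc => hM.normD ⟨hc.1,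
  CfsgLib.Comp.mem_normalizer_of_maps fun d hd => by
    rw [show c * d * c⁻¹ = d by rw [← mem_zentr_comm hc (h.D_le_G hd), mul_inv_cancel_right]]
    exact hd⟩

theorem isSimple_bar : IsSimpleGroup (Bar G) := by
  have hnt : Nontrivial (Bar G) := by
    obtain ⟨x, hx, hxz⟩ : ∃ x ∈ G, x ∉ zentr G := by
      by_contra hall
      push Not at hall
      exact h.exists_zentr_out (le_antisymm (fun _ hx => hx.1) hall)
    exact nontrivial_of_ne (toBar G ⟨x, hx⟩) 1 fun e => hxz (toBar_eq_one.1 e)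
  refine { exists_pair_ne := hnt.exists_pair_ne, eq_bot_or_eq_top_of_normal := fun N hN => ?_ }
  haveI := hN
  set K := (N.comap (toBar G)).map G.subtype with hK
  have hKn : G ≤ Subgroup.normalizer (K : Set X) := fun g hg =>
    CfsgLib.Comp.mem_normalizer_of_maps fun v hv => by
      obtain ⟨w, hw, rfl⟩ := hv
      exact ⟨⟨g, hg⟩ * w * ⟨g, hg⟩⁻¹, by
        show toBar G _ ∈ N
        rw [map_mul, map_mul, map_inv]
        exact hN.conj_mem _ hw _, rfl⟩
  rcases h.simple K (Subgroup.map_subtype_le _) hKn with hc | he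
  · refine Or.inl (eq_bot_iff.2 fun y hy => ?_)
    obtain ⟨x, rfl⟩ := toBar_surjective G y
    exact Subgroup.mem_bot.2 (toBar_eq_one.2 ⟨x.2, hc ⟨x, hy, rfl⟩⟩)
  · refine Or.inr (eq_top_iff.2 fun y _ => ?_)
    obtain ⟨x, rfl⟩ := toBar_surjective G y
    obtain ⟨w, hw, e⟩ := he.ge x.2
    rw [← Subtype.ext e]
    exact hw

theorem commutator_bar : commutator (Bar G) = ⊤ := by
  refine eq_top_iff.2 fun y _ => ?_
  obtain ⟨x, rfl⟩ := toBar_surjective G y
  have hle : ⁅G, G⁆ ≤ ((commutator (Bar G)).comap (toBar G)).map G.subtype := by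
    rw [Subgroup.commutator_le]
    intro a ha b hb
    refine ⟨⁅(⟨a, ha⟩ : G), ⟨b, hb⟩⁆, ?_, rfl⟩
    show toBar G ⁅(⟨a, ha⟩ : G), ⟨b, hb⟩⁆ ∈ commutator (Bar G)
    rw [map_commutatorElement, commutator_def]
    exact Subgroup.commutator_mem_commutator (Subgroup.mem_top _) (Subgroup.mem_top _)
  rw [h.perfect] at hle
  obtain ⟨w, hw, e⟩ := hle x.2
  rw [← Subtype.ext e]
  exact hw

theorem D_inf_zentr : zentr G ⊓ D = Zc := le_antisymm
  (fun _ hx => h.mem_Zc (h.data.mem_Z hx.2 fun σ hσ => Subgroup.mem_centralizer_iff.1 (h.centR hx.1) σ hσ) hx.1)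
  (le_inf h.Zc_le_zentr (h.data.Zc_le.trans h.data.Z_le))

theorem card_img_Z : Nat.card (img G Z) = Zc.relIndex Z := by
  rw [card_img h.Z_le_G, ← Subgroup.inf_relIndex_right]
  congr 1
  refine le_antisymm ((inf_le_inf_left _ h.data.Z_le).trans h.D_inf_zentr.le) (le_inf h.Zc_le_zentr h.data.Zc_le)

theorem card_img_D : Nat.card (img G D) = Zc.relIndex Z * Z.relIndex D := by
  rw [card_img h.D_le_G, ← Subgroup.inf_relIndex_right, h.D_inf_zentr]
  exact (Subgroup.relIndex_mul_relIndex _ _ _ h.data.Zc_le h.data.Z_le).symm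

variable (hM : MaxData G R D Z Zc M)
include hM

/-- Two commuting conjugates of elements of `Z` in `M` move into `Z` together. -/
theorem pair_in_Z {a b : X} (ha : a ∈ M) (hb : b ∈ M) (ha2 : a * a = 1) (hb2 : b * b = 1)
    (hab : ⁅a, b⁆ ∈ zentr G) (haZ : ∃ g ∈ G, ∃ t ∈ Z, t ∉ Zc ∧ a = g * t * g⁻¹)
    (hbZ : ∃ g ∈ G, ∃ t ∈ Z, t ∉ Zc ∧ b = g * t * g⁻¹) :
    ∃ m ∈ M, m * a * m⁻¹ ∈ Z ∧ m * b * m⁻¹ ∈ Z := by
  have haG := hM.le ha
  have hbG := hM.le hb
  set c := ⁅a, b⁆ with hc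
  have hai : a⁻¹ = a := inv_eq_of_mul_eq_one_right ha2
  have hbi : b⁻¹ = b := inv_eq_of_mul_eq_one_right hb2
  have hcomm : Commute (a * b) (a * b) := Commute.refl _
  have habpow : (a * b) ^ 2 = c := by rw [pow_two, hc, commutatorElement_def, hai, hbi]; group
  have hc2 : c * c = 1 := by
    have e1 : a * b * a⁻¹ = c * b := by rw [hc, commutatorElement_def]; group
    have e2 : (c * b) * (c * b) = 1 := by
      rw [← e1, show a * b * a⁻¹ * (a * b * a⁻¹) = a * (b * b) * a⁻¹ by group, hb2]; group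
    rwa [mul_assoc, ← mul_assoc b, mem_zentr_comm hab hbG, mul_assoc c b b, hb2, mul_one] at e2
  have hab4 : (a * b) ^ 2 ^ 2 = 1 := by
    rw [show (2 : ℕ) ^ 2 = 2 * 2 by norm_num, pow_mul, habpow, pow_two, hc2]
  obtain ⟨j, -, hj⟩ := (Nat.dvd_prime_pow Nat.prime_two).1 (orderOf_dvd_of_pow_eq_one hab4)
  have hab2 : IsPGroup 2 (Subgroup.zpowers (a * b)) := IsPGroup.of_card (n := j) (by rw [Nat.card_zpowers, hj])
  have ha2' : IsPGroup 2 (Subgroup.zpowers a) := by
    obtain ⟨i, -, hi⟩ := (Nat.dvd_prime_pow Nat.prime_two).1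
      (orderOf_dvd_of_pow_eq_one (show a ^ 2 ^ 1 = 1 by rw [pow_one, pow_two, ha2]))
    exact IsPGroup.of_card (n := i) (by rw [Nat.card_zpowers, hi])
  have hnorm : Subgroup.zpowers a ≤ Subgroup.normalizer (Subgroup.zpowers (a * b) : Set X) := by
    refine Subgroup.zpowers_le.2 (CfsgLib.Comp.mem_normalizer_of_maps fun v hv => ?_)
    obtain ⟨k, rfl⟩ := hv
    refine ⟨-k, ?_⟩
    show (a * b) ^ (-k) = a * (a * b) ^ k * a⁻¹
    rw [← conj_zpow, zpow_neg, ← inv_zpow, mul_inv_rev, hai, hbi, ← mul_assoc, ha2, one_mul]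
  set P := Subgroup.zpowers a ⊔ Subgroup.zpowers (a * b) with hP
  have hP2 : IsPGroup 2 P := ha2'.to_sup_of_normal_right' hab2 hnorm
  obtain ⟨m, hm, hmS⟩ := h.conj_into_S hM
    (sup_le (Subgroup.zpowers_le.2 ha) (Subgroup.zpowers_le.2 (mul_mem ha hb))) hP2
  have haP : a ∈ P := Subgroup.mem_sup_left (Subgroup.mem_zpowers a)
  have hbP : b ∈ P := by
    have := P.mul_mem (P.inv_mem haP) (Subgroup.mem_sup_right (Subgroup.mem_zpowers (a * b)))
    rwa [inv_mul_cancel_left] at this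
  have key : ∀ x ∈ P, x ∈ M → (∃ g ∈ G, ∃ t ∈ Z, t ∉ Zc ∧ x = g * t * g⁻¹) → m * x * m⁻¹ ∈ Z := by
    rintro x hxP hxM ⟨g, hg, t, ht, htc, rfl⟩
    have hgM := h.moved_mem hM hg ht htc hxM
    have h1 := hmS _ hxP
    rw [show m * (g * t * g⁻¹) * m⁻¹ = m * g * t * (m * g)⁻¹ by group] at h1 ⊢
    exact h.fusion_M hM (mul_mem hm hgM) ht h1
  exact ⟨m, hm, key a haP ha haZ, key b hbP hb hbZ⟩

/-- An element of `Z` central in `S` modulo the centre. -/
theorem exists_central_point {t : X} (ht : t ∈ Z) (htc : t ∉ Zc) :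
    ∃ z ∈ Z, z ∉ Zc ∧ ∀ s ∈ S, ⁅s, z⁆ ∈ Zc := by
  haveI : Fact (Nat.Prime 2) := ⟨Nat.prime_two⟩
  haveI : IsMulCommutative Z := (h.ea le_rfl).1
  let c : S → (Z →* Z) := fun s => MonoidHom.mk'
    (fun z => (⟨(s : X) * z * (s : X)⁻¹, (Subgroup.mem_normalizer_iff.1 (h.S_le_normalizer_Z s.2) z).1 z.2⟩ : Z))
    (fun a b => Subtype.ext (by
      show (s : X) * ((a : X) * b) * (s : X)⁻¹ = (s : X) * a * (s : X)⁻¹ * ((s : X) * b * (s : X)⁻¹)
      group))
  have hc : ∀ s : S, Zc.subgroupOf Z ≤ (Zc.subgroupOf Z).comap (c s) := fun s z hz => by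
    rw [Subgroup.mem_comap, Subgroup.mem_subgroupOf]
    show (s : X) * (z : X) * (s : X)⁻¹ ∈ Zc
    rw [h.conj_Zc hM (h.S_le s.2) (Subgroup.mem_subgroupOf.1 hz)]
    exact hz
  letI : MulAction S (Z ⧸ Zc.subgroupOf Z) :=
    { smul := fun s => QuotientGroup.map _ _ (c s) (hc s)
      one_smul := fun q => QuotientGroup.induction_on q fun z =>
        congrArg QuotientGroup.mk (Subtype.ext (show (1 : X) * z * (1 : X)⁻¹ = z by group))
      mul_smul := fun a b q => QuotientGroup.induction_on q fun z =>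
        congrArg QuotientGroup.mk (Subtype.ext (show ((a : X) * b) * z * ((a : X) * b)⁻¹ =
          a * (b * z * (b : X)⁻¹) * (a : X)⁻¹ by group)) }
  have hdvd : 2 ∣ Nat.card (Z ⧸ Zc.subgroupOf Z) := by
    obtain ⟨k, hk⟩ := (h.data.two.to_le h.data.Z_le).index (Zc.subgroupOf Z)
    have hk' : Nat.card (Z ⧸ Zc.subgroupOf Z) = 2 ^ k := by rw [← Subgroup.index_eq_card, hk]
    rw [hk']
    refine dvd_pow_self 2 fun hk0 => htc ?_
    rw [hk0, pow_zero] at hk
    exact (Subgroup.relIndex_eq_one.1 hk) ht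
  have h1 : (1 : Z ⧸ Zc.subgroupOf Z) ∈ MulAction.fixedPoints S (Z ⧸ Zc.subgroupOf Z) := fun s =>
    map_one (QuotientGroup.map _ _ (c s) (hc s))
  obtain ⟨q, hq, hq1⟩ := h.S_two.exists_fixed_point_of_prime_dvd_card_of_fixed_point _ hdvd h1
  induction q using QuotientGroup.induction_on with
  | H z =>
    refine ⟨z, z.2, fun hzc => hq1 ((QuotientGroup.eq_one_iff (N := Zc.subgroupOf Z) z).2 (Subgroup.mem_subgroupOf.2 hzc)).symm, fun s hs => ?_⟩
    have e : (QuotientGroup.mk (c ⟨s, hs⟩ z) : Z ⧸ Zc.subgroupOf Z) = QuotientGroup.mk z := hq ⟨s, hs⟩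
    have e1 := (QuotientGroup.eq (s := Zc.subgroupOf Z)).1 e
    have e' : (s * (z : X) * s⁻¹)⁻¹ * z ∈ Zc := e1
    have e'' := inv_mem e'
    rw [mul_inv_rev, inv_inv] at e''
    rwa [h.data.central _ ((Subgroup.mem_normalizer_iff.1 (h.S_le_normalizer_Z hs) z).1 z.2) _
      (h.data.Z_le (inv_mem z.2))] at e''

end Setup

end CfsgLib.FlavellA
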