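import Cfsg.Agent.Lib.FlavellA.LZero
import Cfsg.Agent.Lib.Bender.Q.Main
import Cfsg.Agent.Lib.Bender.Q.Criterion
import Cfsg.Agent.Lib.Bender.GoodAll
import Cfsg.Agent.Lib.ZStar.Main

/-!
The conjugates of `Z` modulo the centre satisfy the criterion for strong embedding of `M`.

Blueprint: `blueprint/FlavellA.md`, section 4.
-/

set_option autoImplicit false
set_option linter.unusedSectionVars false
set_option linter.style.haveILetI false

namespace CfsgLib.FlavellA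

open Cfsg
open scoped commutatorElement Pointwise

universe u

variable {X : Type u} [Group X]

/-- The conjugates of the classes of `Z` outside `Zc`. -/
def conjSet (G Z Zc : Subgroup X) : Set (Bar G) :=
  {x | ∃ k t : G, (t : X) ∈ Z ∧ (t : X) ∉ Zc ∧ x = toBar G (k * t * k⁻¹)}

namespace Setup

variable [Finite X] {G R S D Z Zc M : Subgroup X} {p r n : ℕ} (h : Setup G R S D Z Zc p r n)
  (hM : MaxData G R D Z Zc M)
include h hM

omit hM in
theorem toBar_Z_ne {t : G} (ht : (t : X) ∈ Z) (htc : (t : X) ∉ Zc) : toBar G t ≠ 1 :=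
  fun e => htc (h.mem_Zc ht (toBar_eq_one.1 e))

omit hM in
theorem conjSet_inv {x : Bar G} (hx : x ∈ conjSet G Z Zc) : x ≠ 1 ∧ x * x = 1 := by
  obtain ⟨k, t, ht, htc, rfl⟩ := hx
  refine ⟨fun e => h.toBar_Z_ne ht htc ?_, ?_⟩
  · rwa [map_mul, map_mul, map_inv, mul_inv_eq_one, mul_eq_left] at e
  · have e : t * t = 1 := Subtype.ext (h.data.sq_one _ ht)
    rw [← map_mul, show k * t * k⁻¹ * (k * t * k⁻¹) = k * (t * t) * k⁻¹ by group, e, mul_one, mul_inv_cancel,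
      map_one]

omit h hM in
theorem conjSet_conj {x : Bar G} (hx : x ∈ conjSet G Z Zc) (g : Bar G) : g * x * g⁻¹ ∈ conjSet G Z Zc := by
  obtain ⟨g, rfl⟩ := toBar_surjective G g
  obtain ⟨k, t, ht, htc, rfl⟩ := hx
  refine ⟨g * k, t, ht, htc, ?_⟩
  simp only [map_mul, map_inv, mul_inv_rev]
  group

theorem mem_imgM {x : G} : toBar G x ∈ img G M ↔ (x : X) ∈ M := mem_img_iff hM.le (h.zentr_le_M hM)

/-- Members of `conjSet` in `M` come from conjugation in `M`. -/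
theorem conjSet_M {k t : G} (ht : (t : X) ∈ Z) (htc : (t : X) ∉ Zc) (hx : toBar G (k * t * k⁻¹) ∈ img G M) :
    (k : X) ∈ M :=
  h.moved_mem hM k.2 ht htc ((h.mem_imgM hM).1 hx)

theorem conjSet_fix {x g : Bar G} (hx : x ∈ conjSet G Z Zc) (hxM : x ∈ img G M) (hg : g * x * g⁻¹ ∈ img G M) :
    g ∈ img G M := by
  obtain ⟨g, rfl⟩ := toBar_surjective G g
  obtain ⟨k, t, ht, htc, rfl⟩ := hx
  rw [← map_inv, ← map_mul, ← map_mul, show g * (k * t * k⁻¹) * g⁻¹ = (g * k) * t * (g * k)⁻¹ by group] at hg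
  have h1 : ((g * k : G) : X) ∈ M := h.conjSet_M hM ht htc hg
  have h2 := M.mul_mem h1 (M.inv_mem (h.conjSet_M hM ht htc hxM))
  rw [show ((g * k : G) : X) * (k : X)⁻¹ = g by simp] at h2
  exact toBar_mem_img h2

/-- Two commuting members in `M` are moved into `Z` together. -/
theorem pair_prod {y z : Bar G} (hy : y ∈ conjSet G Z Zc) (hz : z ∈ conjSet G Z Zc) (hyM : y ∈ img G M)
    (hzM : z ∈ img G M) (hne : y ≠ z) (hyz : y * z = z * y) :
    ∃ m a b : G, (m : X) ∈ M ∧ ((a : X) ∈ Z ∧ (a : X) ∉ Zc) ∧ ((b : X) ∈ Z ∧ (b : X) ∉ Zc) ∧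
      (a : X) * b ∉ Zc ∧ y = toBar G (m⁻¹ * a * m) ∧ z = toBar G (m⁻¹ * b * m) := by
  obtain ⟨k, t, ht, htc, rfl⟩ := hy
  obtain ⟨l, s, hs, hsc, rfl⟩ := hz
  have hsq : ∀ {k t : G}, (t : X) ∈ Z → ((k * t * k⁻¹ : G) : X) * ((k * t * k⁻¹ : G) : X) = 1 := by
    intro k t ht
    show (k : X) * t * (k : X)⁻¹ * ((k : X) * t * (k : X)⁻¹) = 1
    rw [show (k : X) * t * (k : X)⁻¹ * ((k : X) * t * (k : X)⁻¹) = k * ((t : X) * t) * (k : X)⁻¹ by group,
      h.data.sq_one _ ht, mul_one, mul_inv_cancel]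
  obtain ⟨m, hm, ha, hb⟩ := h.pair_in_Z hM ((h.mem_imgM hM).1 hyM) ((h.mem_imgM hM).1 hzM) (hsq ht) (hsq hs)
    (toBar_comm.1 hyz) ⟨k, k.2, t, ht, htc, rfl⟩ ⟨l, l.2, s, hs, hsc, rfl⟩
  set m' : G := ⟨m, hM.le hm⟩
  refine ⟨m', m' * (k * t * k⁻¹) * m'⁻¹, m' * (l * s * l⁻¹) * m'⁻¹, hm, ⟨ha, ?_⟩, ⟨hb, ?_⟩, ?_,
    congrArg _ (by group), congrArg _ (by group)⟩
  · exact h.Z_conj_not (hM.le hm) (h.Z_conj_not k.2 htc)
  · exact h.Z_conj_not (hM.le hm) (h.Z_conj_not l.2 hsc)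
  · intro hc
    refine hne (toBar_eq.2 ?_)
    set u : X := ((k * t * k⁻¹ : G) : X) with hu
    set v : X := ((l * s * l⁻¹ : G) : X) with hv
    have hui : u⁻¹ = u := inv_eq_of_mul_eq_one_right (hsq ht)
    have hcc : m * u * m⁻¹ * (m * v * m⁻¹) ∈ zentr G := h.Zc_le_zentr hc
    have := conj_mem_zentr (G.inv_mem (hM.le hm)) hcc
    rw [show m⁻¹ * (m * u * m⁻¹ * (m * v * m⁻¹)) * m⁻¹⁻¹ = u * v by group] at this
    rw [hui, this]
    exact hcc

/-- The classes of `Z` outside the centre are at least three. -/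
theorem two_lt_relIndex : 2 < Zc.relIndex Z := by
  have hne1 : Zc.relIndex Z ≠ 1 := fun e => h.not_Z_le_Zc (Subgroup.relIndex_eq_one.1 e)
  have hne0 : Zc.relIndex Z ≠ 0 := Subgroup.index_ne_zero_of_finite
  suffices Zc.relIndex Z ≠ 2 by omega
  intro h2
  obtain ⟨z0, hz0, hz0c⟩ := SetLike.not_le_iff_exists.1 h.not_Z_le_Zc
  set t0 : G := ⟨z0, h.Z_le_G hz0⟩
  set u := toBar G t0 with hu
  have huS : u ∈ conjSet G Z Zc := ⟨1, t0, hz0, hz0c, by rw [one_mul, inv_one, mul_one]⟩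
  have huM : u ∈ img G M := (h.mem_imgM hM).2 (h.D_le_M hM (h.data.Z_le hz0))
  have hiso : IsIsolated u := by
    intro x hx
    by_contra hne
    set v := x * u * x⁻¹
    obtain ⟨w, hw⟩ := toBar_surjective G v
    have hvS : v ∈ conjSet G Z Zc := conjSet_conj huS x
    have hvM : v ∈ img G M := by
      rw [← hw, h.mem_imgM hM]
      refine hM.cent z0 hz0 hz0c (mem_cmod_singleton.2 ⟨w.2, (toBar_comm (x := w) (y := t0)).1 ?_⟩)
      rw [hw]; exact hx.eq.symm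
    obtain ⟨m, a, b, -, ⟨ha, hac⟩, ⟨hb, hbc⟩, hab, -, -⟩ := h.pair_prod hM huS hvS huM hvM (Ne.symm hne) hx.eq
    refine hab ?_
    have := (Subgroup.mul_mem_iff_of_index_two (H := Zc.subgroupOf Z) h2 (a := ⟨a, ha⟩) (b := ⟨b, hb⟩)).2
      (iff_of_false hac hbc)
    exact this
  have hu2 : orderOf u = 2 := CfsgLib.Involutions.orderOf_eq_two_iff'.2
    ⟨(h.conjSet_inv huS).2, (h.conjSet_inv huS).1⟩
  haveI := h.isSimple_bar
  have hcore : pPrimeCore 2 (Bar G) = ⊥ := by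
    haveI : (pPrimeCore 2 (Bar G)).Normal := inferInstance
    refine (inferInstance : (pPrimeCore 2 (Bar G)).Normal).eq_bot_or_eq_top.resolve_right fun e => ?_
    have h1 := CfsgLib.card_pPrimeCore_coprime (G := Bar G) 2
    rw [e, Subgroup.card_top] at h1
    have h3 : 2 ∣ Nat.card (Bar G) := hu2 ▸ orderOf_dvd_natCard u
    exact absurd (Nat.eq_one_of_dvd_coprimes h1 h3 dvd_rfl) (by norm_num)
  have hcen : u ∈ Subgroup.center (Bar G) := by
    rw [Subgroup.mem_center_iff]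
    intro g
    have := (CfsgLib.ZStar.inZStar hu2 hiso g)
    rw [hcore, Subgroup.mem_bot, mul_inv_eq_one, mul_inv_eq_iff_eq_mul] at this
    exact this
  rcases (inferInstance : (Subgroup.center (Bar G)).Normal).eq_bot_or_eq_top with e | e
  · exact (h.conjSet_inv huS).1 (Subgroup.mem_bot.1 (e.le hcen))
  · have h1 : (⊤ : Subgroup (Bar G)) ≤ ⊥ := by
      rw [← h.commutator_bar, commutator_def, Subgroup.commutator_le]
      intro a _ b _
      exact Subgroup.mem_bot.2 (commutatorElement_eq_one_iff_mul_comm.2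
        ((Subgroup.mem_center_iff.1 (e.ge (Subgroup.mem_top b))) a))
    exact (h.conjSet_inv huS).1 (Subgroup.mem_bot.1 (h1 (Subgroup.mem_top u)))

theorem crit : CfsgLib.Bender.Q.Crit (img G M) (conjSet G Z Zc) := by
  refine ⟨fun e => hM.ne (le_antisymm hM.le fun x hx => (h.mem_imgM hM).1 (e.ge (Subgroup.mem_top (toBar G ⟨x, hx⟩)))),
    fun z hz => h.conjSet_inv hz, fun z hz g => conjSet_conj hz g, ?_,
    fun z hz hzM g hg => h.conjSet_fix hM hz hzM hg, ?_, ?_⟩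
  · rintro _ ⟨k, t, ht, -, rfl⟩
    refine ⟨toBar G k, ?_⟩
    rw [← map_inv, ← map_mul, ← map_mul, show k⁻¹ * (k * t * k⁻¹) * k = t by group]
    exact toBar_mem_img (h.D_le_M hM (h.data.Z_le ht))
  · obtain ⟨P, hP⟩ := h.exists_sylow_bar
    obtain ⟨z0, hz0, hz0c⟩ := SetLike.not_le_iff_exists.1 h.not_Z_le_Zc
    obtain ⟨z, hz, hzc, hzS⟩ := h.exists_central_point hM hz0 hz0c
    refine ⟨P, ?_, toBar G ⟨z, h.Z_le_G hz⟩, ⟨1, ⟨z, h.Z_le_G hz⟩, hz, hzc, by rw [one_mul, inv_one, mul_one]⟩,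
      toBar_mem_img (h.D_le_M hM (h.data.Z_le hz)), fun x hx => ?_⟩
    · rw [hP]
      exact Subgroup.map_mono fun x hx => h.S_le_M hM hx
    · obtain ⟨s, hs, rfl⟩ := hP.le hx
      exact toBar_comm.2 (h.Zc_le_zentr (hzS s hs))
  · intro y hy z hz hyM hzM hne hyz
    obtain ⟨m, a, b, hm, ⟨ha, -⟩, ⟨hb, -⟩, hab, rfl, rfl⟩ := h.pair_prod hM hy hz hyM hzM hne hyz
    intro x hx
    obtain ⟨c, rfl⟩ := toBar_surjective G x
    have h1 := Subgroup.mem_centralizer_singleton_iff.1 hx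
    rw [← map_mul (toBar G) (m⁻¹ * a * m), show m⁻¹ * a * m * (m⁻¹ * b * m) = m⁻¹ * (a * b) * m by group] at h1
    have h2 : toBar G (m * c * m⁻¹) * toBar G (a * b) = toBar G (a * b) * toBar G (m * c * m⁻¹) := by
      have h3 := congrArg (fun v => toBar G m * v * (toBar G m)⁻¹) h1
      simp only [map_mul, map_inv] at h3 ⊢
      simpa [mul_assoc] using h3
    have h4 : ((m * c * m⁻¹ : G) : X) ∈ M :=
      hM.cent _ (Z.mul_mem ha hb) hab (mem_cmod_singleton.2 ⟨(m * c * m⁻¹).2, toBar_comm.1 h2⟩)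
    rw [h.mem_imgM hM]
    have h5 := M.mul_mem (M.mul_mem (M.inv_mem hm) h4) hm
    rwa [show (m : X)⁻¹ * ((m * c * m⁻¹ : G) : X) * m = c by simp [mul_assoc]] at h5

theorem stronglyEmbedded : Cfsg.IsStronglyEmbedded (img G M) :=
  haveI := h.isSimple_bar
  CfsgLib.Bender.Q.stronglyEmbedded_of_crit CfsgLib.Bender.Q.theoremQ (h.crit hM)

/-- The quotient has a four group. -/
theorem hasFour : CfsgLib.Bender.HasFour (Bar G) := by
  have hcard := h.card_img_Z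
  have h2 := h.two_lt_relIndex hM
  haveI : Nontrivial (img G Z) := Finite.one_lt_card_iff_nontrivial.1 (by omega)
  obtain ⟨⟨x, hx⟩, hx1⟩ := exists_ne (1 : img G Z)
  have h3 : ¬ (img G Z : Subgroup (Bar G)) ≤ Subgroup.zpowers x := fun hle => by
    have := Subgroup.card_le_of_le hle
    rw [Nat.card_zpowers] at this
    obtain ⟨t, ht, rfl⟩ := hx
    have hle2 : orderOf (toBar G t) ≤ 2 := orderOf_le_of_pow_eq_one two_pos (by
      rw [pow_two, ← map_mul, show t * t = 1 from Subtype.ext (h.data.sq_one _ ht), map_one])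
    omega
  obtain ⟨y, hy, hyx⟩ := SetLike.not_le_iff_exists.1 h3
  have hsq : ∀ v ∈ img G Z, v * v = 1 := by
    rintro _ ⟨t, ht, rfl⟩
    rw [← map_mul, show t * t = 1 from Subtype.ext (h.data.sq_one _ ht), map_one]
  have hcomm : x * y = y * x := by
    obtain ⟨t, ht, rfl⟩ := hx
    obtain ⟨s, hs, rfl⟩ := hy
    rw [← map_mul, ← map_mul]
    exact congrArg _ (Subtype.ext (h.data.central _ hs _ (h.data.Z_le ht)))
  refine ⟨x, y, fun e => hx1 (Subtype.ext e), fun e => hyx (e ▸ one_mem _),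
    fun e => hyx (e ▸ Subgroup.mem_zpowers x), hsq x hx, hsq y hy, hcomm⟩

end Setup

end CfsgLib.FlavellA
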