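import Cfsg.Agent.Lib.FlavellA.Forms
import Cfsg.Agent.Lib.Coprime

/-!
The 2-group `D = [S, R]` inside the ambient group: constituent hyperplanes, irreducibility, pairings and the
bound on subgroups with squares and commutators in the central part.

Blueprint: `blueprint/FlavellA.md`, section 0.
-/

set_option autoImplicit false
set_option linter.unusedSectionVars false
set_option linter.style.haveILetI false

namespace CfsgLib.FlavellA

open scoped commutatorElement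

universe u

variable {X : Type u} [Group X]

/-- The radical of the commutator pairing of `D` with values modulo `L`. -/
def rad (D L : Subgroup X) : Subgroup X := Subgroup.closure {x | x ∈ D ∧ ∀ y ∈ D, ⁅x, y⁆ ∈ L}

theorem rad_le (D L : Subgroup X) : rad D L ≤ D := (Subgroup.closure_le _).2 fun _ hx => hx.1

/-- A hyperplane of `Z` with extraspecial quotient. -/
structure IsCons (D Z Zc : Subgroup X) (n : ℕ) (L : Subgroup X) : Prop where
  le : L ≤ Z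
  ne : L ≠ Z
  two : ∀ a ∈ Z, ∀ b ∈ Z, a ∉ L → b ∉ L → a * b ∈ L
  avoid : L ⊓ Zc = ⊥
  index : (rad D L).relIndex D = 2 ^ (2 * n)
  sq : ∀ x ∈ rad D L, x * x ∈ L

/-- The structure of `D` used by the proof. -/
structure DData (R D Z Zc : Subgroup X) (r n : ℕ) : Prop where
  rprime : r.Prime
  r_eq : r = 2 ^ n + 1
  npos : 0 < n
  cardR : Nat.card R = r
  two : IsPGroup 2 D
  norm : R ≤ Subgroup.normalizer (D : Set X)
  fixed : Z = D ⊓ Subgroup.centralizer (R : Set X)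
  central : ∀ z ∈ Z, ∀ x ∈ D, x * z = z * x
  comm : ∀ x ∈ D, ∀ y ∈ D, ⁅x, y⁆ ∈ Z
  sq : ∀ x ∈ D, x * x ∈ Z
  sq_one : ∀ z ∈ Z, z * z = 1
  gen : ⁅D, R⁆ = D
  le_derived : Z ≤ ⁅D, D⁆
  Zc_le : Zc ≤ Z
  Zc_card : Nat.card Zc ≤ 2
  abel : ∀ U : Subgroup X, U ≤ D → R ≤ Subgroup.normalizer (U : Set X) →
    (∀ x ∈ U, ∀ y ∈ U, x * y = y * x) → U ≤ Z
  cons : ∀ z ∈ Z, z ≠ 1 → ∃ L, IsCons D Z Zc n L ∧ z ∉ L

theorem dvd_exponent {r n m : ℕ} (hr : r = 2 ^ n + 1) (hm : r ∣ 2 ^ m - 1) (hn : 0 < n) : 2 * n ∣ m := by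
  have h2n : r ∣ 2 ^ (2 * n) - 1 := by
    rw [hr, two_mul, pow_add]
    have e : 2 ^ n * 2 ^ n - 1 = (2 ^ n + 1) * (2 ^ n - 1) := by
      rw [← pow_two, ← one_pow 2, Nat.sq_sub_sq, one_pow]
    exact ⟨2 ^ n - 1, e⟩
  have h := Nat.dvd_gcd hm h2n
  rw [Nat.pow_sub_one_gcd_pow_sub_one] at h
  set g := Nat.gcd m (2 * n) with hg
  have hg2 : g ∣ 2 * n := Nat.gcd_dvd_right _ _
  rcases eq_or_ne g (2 * n) with he | he
  · exact he ▸ Nat.gcd_dvd_left _ _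
  exfalso
  have hgn : g ≤ n := by
    obtain ⟨c, hc⟩ := hg2
    rcases c with _ | _ | c
    · omega
    · exact absurd (by rw [hc, zero_add, mul_one]) he
    · have : g * 2 ≤ g * (c + 1 + 1) := Nat.mul_le_mul_left g (by omega)
      omega
  have hpos : 1 ≤ g := Nat.pos_of_ne_zero fun h0 => by
    have := Nat.eq_zero_of_gcd_eq_zero_right (hg ▸ h0 : Nat.gcd m (2 * n) = 0)
    omega
  have hlt : 2 ^ g - 1 < r := by
    have hle : (2 : ℕ) ^ g ≤ 2 ^ n := Nat.pow_le_pow_right two_pos hgn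
    have hp : 0 < (2 : ℕ) ^ g := Nat.two_pow_pos g
    rw [hr]
    omega
  have h1 : 1 < 2 ^ g := Nat.one_lt_two_pow (by omega)
  exact absurd (Nat.eq_zero_of_dvd_of_lt h hlt) (by omega)

namespace DData

variable [Finite X] {R D Z Zc : Subgroup X} {r n : ℕ} (h : DData R D Z Zc r n)
include h

theorem Z_le : Z ≤ D := h.fixed.le.trans inf_le_left

theorem Z_centralized {z ρ : X} (hz : z ∈ Z) (hρ : ρ ∈ R) : ρ * z = z * ρ :=
  (Subgroup.mem_centralizer_iff.1 ((Subgroup.mem_inf.1 (h.fixed.le hz)).2)) ρ hρ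

theorem mem_Z {x : X} (hx : x ∈ D) (hfix : ∀ ρ ∈ R, ρ * x = x * ρ) : x ∈ Z :=
  h.fixed.ge ⟨hx, Subgroup.mem_centralizer_iff.2 fun ρ hρ => hfix ρ hρ⟩

theorem comm_mul_left {a b c : X} (ha : a ∈ D) (hb : b ∈ D) (hc : c ∈ D) :
    ⁅a * b, c⁆ = ⁅a, c⁆ * ⁅b, c⁆ := by
  have h1 := h.central _ (h.comm b hb c hc) a ha
  have h2 := h.central _ (h.comm b hb c hc) _ (h.Z_le (h.comm a ha c hc))
  calc ⁅a * b, c⁆ = a * ⁅b, c⁆ * a⁻¹ * ⁅a, c⁆ := by simp only [commutatorElement_def]; group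
    _ = ⁅b, c⁆ * ⁅a, c⁆ := by rw [h1]; group
    _ = ⁅a, c⁆ * ⁅b, c⁆ := h2.symm

theorem comm_mul_right {a b c : X} (ha : a ∈ D) (hb : b ∈ D) (hc : c ∈ D) :
    ⁅a, b * c⁆ = ⁅a, b⁆ * ⁅a, c⁆ := by
  have h1 := h.central _ (h.comm a ha c hc) b hb
  calc ⁅a, b * c⁆ = ⁅a, b⁆ * (b * ⁅a, c⁆) * b⁻¹ := by simp only [commutatorElement_def]; group
    _ = ⁅a, b⁆ * ⁅a, c⁆ := by rw [h1]; group

theorem comm_inv_left {a b : X} (ha : a ∈ D) (hb : b ∈ D) : ⁅a⁻¹, b⁆ = ⁅a, b⁆⁻¹ := by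
  have := h.comm_mul_left (inv_mem ha) ha hb
  rw [inv_mul_cancel, commutatorElement_one_left] at this
  exact eq_inv_of_mul_eq_one_left this.symm

theorem comm_symm {a b : X} (ha : a ∈ D) (hb : b ∈ D) : ⁅a, b⁆ = ⁅b, a⁆ := by
  rw [← commutatorElement_inv a b]
  exact (inv_eq_of_mul_eq_one_right (h.sq_one _ (h.comm a ha b hb))).symm

theorem sq_mul {a b : X} (ha : a ∈ D) (hb : b ∈ D) : a * b * (a * b) = a * a * (b * b) * ⁅a, b⁆ := by
  rw [h.comm_symm ha hb]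
  have h2 := h.central _ (h.comm b hb a ha) _ (mul_mem (mul_mem ha ha) (mul_mem hb hb))
  have e : a * b * (a * b) = a * (⁅b, a⁆ * a) * (b * b) := by simp only [commutatorElement_def]; group
  rw [e, h2, ← h.central _ (h.comm b hb a ha) a ha]
  have h3 := h.central _ (h.comm b hb a ha) a ha
  calc a * (a * ⁅b, a⁆) * (b * b) = a * a * ⁅b, a⁆ * (b * b) := by group
    _ = ⁅b, a⁆ * (a * a) * (b * b) := by rw [h.central _ (h.comm b hb a ha) _ (mul_mem ha ha)]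
    _ = ⁅b, a⁆ * (a * a * (b * b)) := by group

theorem mem_rad_iff {L : Subgroup X} {x : X} : x ∈ rad D L ↔ x ∈ D ∧ ∀ y ∈ D, ⁅x, y⁆ ∈ L := by
  refine ⟨fun hx => ?_, fun hx => Subgroup.subset_closure hx⟩
  refine Subgroup.closure_induction (fun a ha => ha) ?_ ?_ ?_ hx
  · exact ⟨one_mem D, fun y _ => by rw [commutatorElement_one_left]; exact one_mem L⟩
  · rintro a b - - ⟨ha, ha'⟩ ⟨hb, hb'⟩
    exact ⟨mul_mem ha hb, fun y hy => by rw [h.comm_mul_left ha hb hy]; exact mul_mem (ha' y hy) (hb' y hy)⟩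
  · rintro a - ⟨ha, ha'⟩
    exact ⟨inv_mem ha, fun y hy => by rw [h.comm_inv_left ha hy]; exact inv_mem (ha' y hy)⟩

theorem Z_le_rad (L : Subgroup X) : Z ≤ rad D L := fun z hz => h.mem_rad_iff.2 ⟨h.Z_le hz, fun y hy => by
  rw [commutatorElement_eq_one_iff_mul_comm.2 (h.central z hz y hy).symm]; exact one_mem L⟩

theorem conj_comm {ρ : X} (hρ : ρ ∈ R) {x y : X} (hx : x ∈ D) (hy : y ∈ D) :
    ⁅ρ * x * ρ⁻¹, ρ * y * ρ⁻¹⁆ = ⁅x, y⁆ := by
  have h1 := h.Z_centralized (h.comm x hx y hy) hρ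
  calc ⁅ρ * x * ρ⁻¹, ρ * y * ρ⁻¹⁆ = ρ * ⁅x, y⁆ * ρ⁻¹ := by simp only [commutatorElement_def]; group
    _ = ⁅x, y⁆ := by rw [h1]; group

theorem conj_mem {ρ : X} (hρ : ρ ∈ R) {x : X} (hx : x ∈ D) : ρ * x * ρ⁻¹ ∈ D :=
  (Subgroup.mem_normalizer_iff.1 (h.norm hρ) x).1 hx

theorem R_le_normalizer_rad (L : Subgroup X) : R ≤ Subgroup.normalizer (rad D L : Set X) := by
  have key : ∀ ρ ∈ R, ∀ x ∈ rad D L, ρ * x * ρ⁻¹ ∈ rad D L := by
    intro ρ hρ x hx
    obtain ⟨hxD, hx'⟩ := h.mem_rad_iff.1 hx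
    refine h.mem_rad_iff.2 ⟨h.conj_mem hρ hxD, fun y hy => ?_⟩
    have hy' : ρ⁻¹ * y * ρ ∈ D := by simpa using h.conj_mem (inv_mem hρ) hy
    have := h.conj_comm hρ hxD hy'
    rw [show ρ * (ρ⁻¹ * y * ρ) * ρ⁻¹ = y by group] at this
    rw [this]
    exact hx' _ hy'
  intro ρ hρ
  rw [Subgroup.mem_normalizer_iff]
  refine fun x => ⟨key ρ hρ x, fun hx => ?_⟩
  have := key ρ⁻¹ (inv_mem hρ) _ hx
  simpa [mul_assoc] using this

theorem coprime_D : (Nat.card R).Coprime (Nat.card D) := by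
  haveI : Fact (Nat.Prime 2) := ⟨Nat.prime_two⟩
  obtain ⟨k, hk⟩ := IsPGroup.iff_card.1 h.two
  rw [h.cardR, hk]
  refine Nat.Coprime.pow_right _ ((Nat.coprime_primes h.rprime Nat.prime_two).2 ?_)
  have h2 : 2 ≤ 2 ^ n := Nat.le_self_pow h.npos.ne' 2
  have := h.r_eq
  omega

/-- A proper step between invariant subgroups over `Z` has index at least `2 ^ (2 n)`. -/
theorem le_relIndex {U V : Subgroup X} (hZU : Z ≤ U) (hUV : U ≤ V) (hV : V ≤ D)
    (hRU : R ≤ Subgroup.normalizer (U : Set X)) (hRV : R ≤ Subgroup.normalizer (V : Set X)) (hne : U ≠ V) :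
    2 ^ (2 * n) ≤ U.relIndex V := by
  classical
  haveI : Fact r.Prime := ⟨h.rprime⟩
  haveI : Fact (Nat.Prime 2) := ⟨Nat.prime_two⟩
  let Ω := {x : X // x ∈ V ∧ x ∉ U}
  letI : MulAction R Ω :=
    { smul := fun ρ x => ⟨ρ * x.1 * (ρ : X)⁻¹, (Subgroup.mem_normalizer_iff.1 (hRV ρ.2) _).1 x.2.1,
        fun hh => x.2.2 ((Subgroup.mem_normalizer_iff.1 (hRU ρ.2) _).2 hh)⟩
      one_smul := fun x => Subtype.ext (by show (1 : X) * x.1 * (1 : X)⁻¹ = x.1; group)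
      mul_smul := fun a b x => Subtype.ext (by
        show (a : X) * b * x.1 * ((a : X) * b)⁻¹ = a * (b * x.1 * (b : X)⁻¹) * (a : X)⁻¹
        group) }
  have hmod := (IsPGroup.of_card (n := 1) (by rw [pow_one]; exact h.cardR) : IsPGroup r R).card_modEq_card_fixedPoints Ω
  have hfp : IsEmpty (MulAction.fixedPoints R Ω) := ⟨fun ⟨x, hx⟩ => x.2.2 (hZU (h.mem_Z (hV x.2.1) fun ρ hρ => by
    have : ρ * x.1 * ρ⁻¹ = x.1 := congrArg Subtype.val (hx ⟨ρ, hρ⟩)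
    calc ρ * x.1 = (ρ * x.1 * ρ⁻¹) * ρ := by group
      _ = x.1 * ρ := by rw [this]))⟩
  rw [@Nat.card_of_isEmpty _ hfp, Nat.modEq_zero_iff_dvd] at hmod
  have hcard : Nat.card Ω + Nat.card U = Nat.card V := by
    have e : Ω ≃ {x : V // (x : X) ∉ U} :=
      { toFun := fun x => ⟨⟨x.1, x.2.1⟩, x.2.2⟩
        invFun := fun x => ⟨x.1.1, x.1.2, x.2⟩
        left_inv := fun x => rfl
        right_inv := fun x => rfl }
    have e2 : U ≃ {x : V // (x : X) ∈ U} :=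
      { toFun := fun x => ⟨⟨x.1, hUV x.2⟩, x.2⟩
        invFun := fun x => ⟨x.1.1, x.2⟩
        left_inv := fun x => rfl
        right_inv := fun x => rfl }
    rw [Nat.card_congr e, Nat.card_congr e2, add_comm, ← Nat.card_sum,
      Nat.card_congr (Equiv.sumCompl fun x : V => (x : X) ∈ U)]
  have hidx : Nat.card U * U.relIndex V = Nat.card V := by
    have := Subgroup.relIndex_mul_relIndex ⊥ U V bot_le hUV
    rwa [Subgroup.relIndex_bot_left, Subgroup.relIndex_bot_left] at this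
  have hdvd : r ∣ Nat.card U * (U.relIndex V - 1) := by
    rw [Nat.mul_sub, mul_one, hidx]
    rwa [← hcard, Nat.add_sub_cancel_right]
  have hcop : r.Coprime (Nat.card U) := by
    have h1 := h.coprime_D
    rw [h.cardR] at h1
    exact Nat.Coprime.coprime_dvd_right (Subgroup.card_dvd_of_le (hUV.trans hV)) h1
  have hdvd' := hcop.dvd_of_dvd_mul_left hdvd
  obtain ⟨m, hm⟩ := (h.two.to_le hV).index (U.subgroupOf V)
  change U.relIndex V = 2 ^ m at hm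
  rw [hm] at hdvd' ⊢
  have hm0 : m ≠ 0 := fun h0 => hne (le_antisymm hUV (Subgroup.relIndex_eq_one.1 (by rw [hm, h0, pow_zero])))
  exact Nat.pow_le_pow_right two_pos (Nat.le_of_dvd (Nat.pos_of_ne_zero hm0) (dvd_exponent h.r_eq hdvd' h.npos))

theorem normalizer_sup {U V : Subgroup X} (hU : R ≤ Subgroup.normalizer (U : Set X))
    (hV : R ≤ Subgroup.normalizer (V : Set X)) : R ≤ Subgroup.normalizer ((U ⊔ V : Subgroup X) : Set X) := by
  intro ρ hρ
  have key : ∀ a ∈ R, ∀ x ∈ U ⊔ V, a * x * a⁻¹ ∈ U ⊔ V := fun a ha x hx =>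
    (sup_le (c := (U ⊔ V).comap (MulAut.conj a).toMonoidHom)
      (fun y hy => Subgroup.mem_sup_left ((Subgroup.mem_normalizer_iff.1 (hU ha) y).1 hy))
      (fun y hy => Subgroup.mem_sup_right ((Subgroup.mem_normalizer_iff.1 (hV ha) y).1 hy))) hx
  rw [Subgroup.mem_normalizer_iff]
  refine fun x => ⟨key ρ hρ x, fun hx => ?_⟩
  have := key ρ⁻¹ (inv_mem hρ) _ hx
  simpa [mul_assoc] using this

/-- An invariant subgroup not inside a radical covers the quotient. -/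
theorem sup_rad {L : Subgroup X} (hL : IsCons D Z Zc n L) {P : Subgroup X} (hP : P ≤ D)
    (hRP : R ≤ Subgroup.normalizer (P : Set X)) (hne : ¬ P ≤ rad D L) : P ⊔ rad D L = D := by
  have hle : P ⊔ rad D L ≤ D := sup_le hP (rad_le D L)
  have h1 := h.le_relIndex (h.Z_le_rad L) le_sup_right hle (h.R_le_normalizer_rad L)
    (h.normalizer_sup hRP (h.R_le_normalizer_rad L)) fun e => hne (le_sup_left.trans e.ge)
  have h2 := Subgroup.relIndex_mul_relIndex _ _ _ (le_sup_right : rad D L ≤ P ⊔ rad D L) hle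
  rw [hL.index] at h2
  refine le_antisymm hle (Subgroup.relIndex_eq_one.1 ?_)
  have hpos : 0 < (P ⊔ rad D L).relIndex D := Nat.pos_of_ne_zero Subgroup.index_ne_zero_of_finite
  by_contra hne1
  have h3 : 2 ^ (2 * n) * 2 ≤ (rad D L).relIndex (P ⊔ rad D L) * (P ⊔ rad D L).relIndex D :=
    Nat.mul_le_mul h1 (by omega)
  have := Nat.two_pow_pos (2 * n)
  omega

end DData

end CfsgLib.FlavellA
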