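import Cfsg.Agent.Lib.FlavellA.TwoGroup
import Cfsg.Agent.Lib.FlavellA.DData

/-!
The structure of a 2-group generated by its commutators with `R`, from a faithful module on which `R` fixes only
zero.

Blueprint: `blueprint/FlavellA.md`, section 0.
-/

set_option autoImplicit false
set_option linter.unusedSectionVars false
set_option linter.style.haveILetI false

namespace CfsgLib.FlavellA

open scoped commutatorElement
open CfsgLib.QGroupModule (conjAut)

universe u v w

variable {X : Type u} [Group X] [Finite X] {K : Type v} [Field K] [IsAlgClosed K] {W : Type w} [AddCommGroup W]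
  [Module K W] [FiniteDimensional K W]

/-- The action on `D` satisfies the hypotheses of the abstract structure. -/
theorem fpfAction_of_rep (ρ : X →* Module.End K W) (hρ : Function.Injective ρ) {R D : Subgroup X} {r : ℕ}
    [Fact r.Prime] (hR : Nat.card R = r) (hnorm : R ≤ Subgroup.normalizer (D : Set X)) (hD : IsPGroup 2 D)
    (hgen : ⁅D, R⁆ = D) (hr2 : r ≠ 2) (h2K : ((2 : ℕ) : K) ≠ 0) (hrK : (r : K) ≠ 0)
    (hfix : ∀ v : W, (∀ σ ∈ R, ρ σ v = v) → v = 0) :
    FpfAction r (conjAut R D hnorm) (ρ.comp D.subtype) (ρ.comp R.subtype) where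
  two := hD
  card := hR
  two_ne := Ne.symm hr2
  two_cast := h2K
  r_cast := hrK
  gen := by
    refine eq_top_iff.2 fun x _ => ?_
    set U := Subgroup.closure {y : D | ∃ (σ : R) (h : D), y = conjAut R D hnorm σ h * h⁻¹}
    have hle : ⁅D, R⁆ ≤ U.map D.subtype := by
      rw [Subgroup.commutator_comm, Subgroup.commutator_le]
      intro σ hσ y hy
      exact ⟨_, Subgroup.subset_closure ⟨⟨σ, hσ⟩, ⟨y, hy⟩, rfl⟩, rfl⟩
    obtain ⟨y, hy, e⟩ := hle (hgen.ge x.2)
    rwa [← Subtype.ext (show (y : X) = x from e)]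
  inj := fun a b hab => Subtype.ext (hρ hab)
  cov := fun σ y => by
    show ρ σ * ρ y = ρ ((σ : X) * y * (σ : X)⁻¹) * ρ σ
    rw [← map_mul, ← map_mul, inv_mul_cancel_right]
  fixfree := fun v hv => hfix v fun σ hσ => hv ⟨σ, hσ⟩

/-- The data of `D`. -/
theorem dData_of_rep (ρ : X →* Module.End K W) (hρ : Function.Injective ρ) {R D Zc : Subgroup X} {r n : ℕ}
    [Fact r.Prime] (hR : Nat.card R = r) (hrn : r = 2 ^ n + 1) (hn : 0 < n)
    (hnorm : R ≤ Subgroup.normalizer (D : Set X)) (hD : IsPGroup 2 D)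
    (hgen : ⁅D, R⁆ = D) (h2K : ((2 : ℕ) : K) ≠ 0) (hrK : (r : K) ≠ 0)
    (hfix : ∀ v : W, (∀ σ ∈ R, ρ σ v = v) → v = 0) (hZc : Zc ≤ D ⊓ Subgroup.centralizer (R : Set X))
    (hscal : ∀ z ∈ Zc, ∃ c : K, ρ z = c • 1) :
    DData R D (D ⊓ Subgroup.centralizer (R : Set X)) Zc r n := by
  classical
  have hr2 : r ≠ 2 := by
    have := Nat.one_lt_pow hn.ne' one_lt_two
    omega
  have hA := fpfAction_of_rep ρ hρ hR hnorm hD hgen hr2 h2K hrK hfix
  set τ := conjAut R D hnorm with hτ
  have hfx : ∀ {x : X} (hx : x ∈ D),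
      (⟨x, hx⟩ : D) ∈ fixedGroup τ ↔ x ∈ Subgroup.centralizer (R : Set X) := by
    intro x hx
    rw [mem_fixedGroup, Subgroup.mem_centralizer_iff]
    refine ⟨fun h σ hσ => mul_inv_eq_iff_eq_mul.1 (congrArg Subtype.val (h ⟨σ, hσ⟩)), fun h σ => Subtype.ext ?_⟩
    show (σ : X) * x * (σ : X)⁻¹ = x
    rw [h σ σ.2, mul_inv_cancel_right]
  have hcen : ∀ {x : X} (hx : x ∈ D),
      (⟨x, hx⟩ : D) ∈ Subgroup.center D ↔ x ∈ Subgroup.centralizer (R : Set X) := fun hx => by
    rw [← hA.fixed_eq_center]; exact hfx hx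
  have hcomm : ∀ {x y : X} (hx : x ∈ D) (hy : y ∈ D),
      ⁅x, y⁆ ∈ D ⊓ Subgroup.centralizer (R : Set X) := fun {x y} hx hy => by
    have h := hA.comm_central ⟨x, hx⟩ ⟨y, hy⟩
    have hm : ⁅x, y⁆ ∈ D := (⁅(⟨x, hx⟩ : D), (⟨y, hy⟩ : D)⁆).2
    exact ⟨hm, (hcen hm).1 h⟩
  have hsq1 : ∀ z ∈ D ⊓ Subgroup.centralizer (R : Set X), z * z = 1 := fun z hz =>
    congrArg Subtype.val (hA.center_sq ((hcen hz.1).2 hz.2))
  refine
    { rprime := Fact.out
      r_eq := hrn
      npos := hn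
      cardR := hR
      two := hD
      norm := hnorm
      fixed := rfl
      central := fun z hz x hx => congrArg Subtype.val (Subgroup.mem_center_iff.1 ((hcen hz.1).2 hz.2) ⟨x, hx⟩)
      comm := fun x hx y hy => hcomm hx hy
      sq := fun x hx => ⟨mul_mem hx hx, (hcen (mul_mem hx hx)).1 (hA.sq_mem_center ⟨x, hx⟩)⟩
      sq_one := hsq1
      gen := hgen
      le_derived := ?_
      Zc_le := hZc
      Zc_card := ?_
      abel := fun U hU hRU hab u hu => Subgroup.mem_inf.2 ⟨hU hu, (hfx (hU hu)).1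
        (hA.fixed_of_comm (M := U.subgroupOf D) (fun σ x hx => ?_) (fun x hx y hy => Subtype.ext (hab _ hx _ hy))
          (show (⟨u, hU hu⟩ : D) ∈ U.subgroupOf D from hu))⟩
      cons := ?_ }
  · intro z hz
    have h1 := hA.center_eq_commutator.le ((hcen hz.1).2 hz.2)
    have h2 := Subgroup.mem_map_of_mem D.subtype h1
    rwa [commutator_def, Subgroup.map_commutator, ← MonoidHom.range_eq_map, Subgroup.range_subtype] at h2
  · rcases subsingleton_or_nontrivial W with hW | hW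
    · have : Subsingleton Zc := ⟨fun a b => Subtype.ext (hρ (LinearMap.ext fun v => Subsingleton.elim _ _))⟩
      rw [Nat.card_of_subsingleton (1 : Zc)]
      omega
    obtain ⟨v, hv⟩ := exists_ne (0 : W)
    have key : ∀ z : Zc, z ≠ 1 → ρ (z : X) = (-1 : K) • 1 := by
      intro z hz
      obtain ⟨c, hc⟩ := hscal z z.2
      have hcc : c * c = 1 := by
        have h1 : ρ ((z : X) * z) = (c * c) • 1 := by rw [map_mul, hc, smul_mul_smul_comm, mul_one]
        rw [hsq1 _ (hZc z.2), map_one] at h1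
        have := LinearMap.congr_fun h1 v
        exact smul_left_injective K hv (by simpa using this.symm)
      rcases mul_self_eq_one_iff.1 hcc with rfl | rfl
      · exact absurd (Subtype.ext (hρ (by rw [hc, one_smul, Subgroup.coe_one, map_one]))) hz
      · exact hc
    by_contra hlt
    haveI := Fintype.ofFinite Zc
    rw [not_le, Nat.card_eq_fintype_card] at hlt
    obtain ⟨a, b, c, hab, hac, hbc⟩ := Fintype.two_lt_card_iff.1 hlt
    have hinj : ∀ a b : Zc, a ≠ 1 → b ≠ 1 → a = b := fun a b ha hb =>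
      Subtype.ext (hρ ((key a ha).trans (key b hb).symm))
    by_cases ha : a = 1
    · exact hbc (hinj b c (fun e => hab (ha.trans e.symm)) fun e => hac (ha.trans e.symm))
    by_cases hb : b = 1
    · exact hac (hinj a c ha fun e => hbc (hb.trans e.symm))
    exact hab (hinj a b ha hb)
  · exact (Subgroup.mem_normalizer_iff.1 (hRU σ.2) _).1 hx
  · intro z hz hz1
    obtain ⟨L, hLn, hzL, htwo, hneg, rd, n', hrn', hidx, hrd, hrdsq⟩ :=
      hA.exists_constituent ((hcen hz.1).2 hz.2) (fun e => hz1 (congrArg Subtype.val e))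
    have hnn : n' = n := Nat.pow_right_injective le_rfl (show 2 ^ n' = 2 ^ n by omega)
    subst hnn
    set L' := (L ⊓ Subgroup.center D).map D.subtype with hL'
    have hmemL : ∀ {x : X} (hx : x ∈ D), (⟨x, hx⟩ : D) ∈ L → x ∈ Subgroup.centralizer (R : Set X) → x ∈ L' :=
      fun {x} hx hxL hxR => ⟨⟨x, hx⟩, ⟨hxL, (hcen hx).2 hxR⟩, rfl⟩
    have hofL : ∀ {x : X} (hx : x ∈ D), x ∈ L' → (⟨x, hx⟩ : D) ∈ L := by
      rintro _ hx ⟨y, hy, rfl⟩
      exact hy.1
    refine ⟨L', ⟨?_, ?_, ?_, ?_, ?_, ?_⟩, fun h => hzL (hofL hz.1 h)⟩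
    · rintro _ ⟨y, hy, rfl⟩
      exact ⟨y.2, (hcen y.2).1 hy.2⟩
    · exact fun e => hzL (hofL hz.1 (e.ge hz))
    · intro a ha b hb haL hbL
      have hab : a * b ∈ D ⊓ Subgroup.centralizer (R : Set X) := Subgroup.mul_mem _ ha hb
      refine hmemL hab.1 ?_ hab.2
      have h1 := (htwo _ ((hcen ha.1).2 ha.2)).resolve_left fun h => haL (hmemL ha.1 h ha.2)
      have h2 := (htwo _ ((hcen hb.1).2 hb.2)).resolve_left fun h => hbL (hmemL hb.1 h hb.2)
      have h3 := L.mul_mem h1 h2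
      have e : (⟨a, ha.1⟩ : D) * ⟨z, hz.1⟩ * (⟨b, hb.1⟩ * ⟨z, hz.1⟩) = ⟨a * b, hab.1⟩ := Subtype.ext (by
        show a * z * (b * z) = a * b
        have hzb : z * b = b * z := (congrArg Subtype.val
          (Subgroup.mem_center_iff.1 ((hcen hz.1).2 hz.2) ⟨b, hb.1⟩)).symm
        calc a * z * (b * z) = a * (z * b) * z := by group
          _ = a * b * (z * z) := by rw [hzb]; group
          _ = a * b := by rw [hsq1 z hz, mul_one])
      rwa [e] at h3
    · rw [eq_bot_iff]
      rintro x ⟨hxL, hxc⟩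
      rw [Subgroup.mem_bot]
      obtain ⟨c, hc⟩ := hscal x hxc
      have hxD : x ∈ D := (hZc hxc).1
      rcases subsingleton_or_nontrivial W with hW | hW
      · exact hρ (LinearMap.ext fun v => Subsingleton.elim _ _)
      obtain ⟨v, hv⟩ := exists_ne (0 : W)
      have hcc : c * c = 1 := by
        have h1 : ρ (x * x) = (c * c) • 1 := by rw [map_mul, hc, smul_mul_smul_comm, mul_one]
        rw [hsq1 _ (hZc hxc), map_one] at h1
        have := LinearMap.congr_fun h1 v
        exact smul_left_injective K hv (by simpa using this.symm)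
      rcases mul_self_eq_one_iff.1 hcc with rfl | rfl
      · exact hρ (by rw [hc, one_smul, map_one])
      · exact absurd (hofL hxD hxL) (hneg ⟨x, hxD⟩ (by show ρ x = -1; rw [hc]; simp))
    · have hradeq : rad D L' = rd.map D.subtype := by
        refine le_antisymm ((Subgroup.closure_le _).2 fun x hx => ⟨⟨x, hx.1⟩, (hrd _).2 fun y => ?_, rfl⟩) ?_
        · exact hofL (⁅(⟨x, hx.1⟩ : D), y⁆).2 (hx.2 y y.2)
        · rintro _ ⟨x, hx, rfl⟩
          exact Subgroup.subset_closure ⟨x.2, fun y hy => hmemL (⁅x, (⟨y, hy⟩ : D)⁆).2 ((hrd x).1 hx ⟨y, hy⟩)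
            (hcomm x.2 hy).2⟩
      rw [hradeq, Subgroup.relIndex, Subgroup.subgroupOf,
        Subgroup.comap_map_eq_self_of_injective D.subtype_injective, hidx]
    · intro x hx
      have hradle : rad D L' ≤ rd.map D.subtype := (Subgroup.closure_le _).2 fun x hx => ⟨⟨x, hx.1⟩,
        (hrd _).2 fun y => hofL (⁅(⟨x, hx.1⟩ : D), y⁆).2 (hx.2 y y.2), rfl⟩
      obtain ⟨y, hy, rfl⟩ := hradle hx
      exact hmemL (mul_mem y.2 y.2) (hrdsq y hy) ((hcen (mul_mem y.2 y.2)).1 (hA.sq_mem_center y))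

end CfsgLib.FlavellA
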