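import Cfsg.Agent.Lib.FlavellA.DInvolution

/-!
A flip bounds the order of `Z` modulo the central part by `2 ^ n`: the constituents are parametrised affinely by
self-adjoint operators.

Blueprint: `blueprint/FlavellA.md`, flips.
-/

set_option autoImplicit false
set_option linter.unusedSectionVars false
set_option linter.style.haveILetI false

namespace CfsgLib.FlavellA

open scoped commutatorElement

universe u

variable {X : Type u} [Group X]

theorem signTwo_add (a b : Two) : Multiplicative.toAdd (a * b) = Multiplicative.toAdd a + Multiplicative.toAdd b :=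
  rfl

theorem two_eq_of_mul {a b : Two} (h : 1 = a * b) : a = b := by revert a b; decide

namespace InvAct

variable [Finite X] {R D Z Zc : Subgroup X} {r n : ℕ} {τ : X}

theorem Zc_sign (h : DData R D Z Zc r n) {L L' : Subgroup X} (hL : IsCons D Z Zc n L) (hL' : IsCons D Z Zc n L')
    {c : X} (hc : c ∈ Zc) : signOf L c = signOf L' c := by
  rcases eq_or_ne c 1 with rfl | hc1
  · rw [signOf_eq_one.2 (one_mem L), signOf_eq_one.2 (one_mem L')]
  · have hnot : ∀ {L}, IsCons D Z Zc n L → c ∉ L := fun hL hh => hc1 (by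
      rw [← Subgroup.mem_bot, ← hL.avoid]; exact ⟨hh, hc⟩)
    simp [signOf, hnot hL, hnot hL']

/-- With a flip, `Z` has order at most `2 ^ n` modulo the central part. -/
theorem central_bound (h : DData R D Z Zc r n) (hτ : InvAct R D Z τ) (hz : ∀ z ∈ Z, disp τ z ∈ Zc)
    (hne : ∃ z ∈ Z, z * τ ≠ τ * z) : Zc.relIndex Z ≤ 2 ^ n := by
  classical
  obtain ⟨w, hw, hw'⟩ := hne
  have hneD : ∃ x ∈ D, x * τ ≠ τ * x := ⟨w, h.Z_le hw, hw'⟩
  have hwd : disp τ w ≠ 1 := fun e => hw' (mul_inv_eq_iff_eq_mul.1 (mul_inv_eq_one.1 e)).symm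
  have hcard2 : Nat.card Zc = 2 := le_antisymm h.Zc_card (by
    haveI : Nontrivial Zc := ⟨⟨⟨disp τ w, hz w hw⟩, 1, fun e => hwd (congrArg Subtype.val e)⟩⟩
    exact Finite.one_lt_card)
  obtain ⟨hU2, hfix, -⟩ := relIndex_moved_eq hz h hτ hneD
  set U := moved D Z τ with hU
  have hUD : U ≤ D := moved_le h hτ
  have hRU := R_le_normalizer_moved h hτ
  have hUc := moved_comm hz h hτ
  have hUne := moved_ne h hτ hneD
  obtain ⟨L1, hL1, -⟩ := h.cons (disp τ w) (h.Zc_le (hz w hw)) hwd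
  obtain ⟨ρ, hρ, hgen, hρr⟩ := h.exists_gen
  obtain ⟨A, _, _, _, π, f, hsurj, -, hπ0, hf, hirr, hfr, hfin, hform, -⟩ :=
    h.exists_space (N := fixMod D Z τ) (Z_le_fixMod h hτ) (fixMod_le h hτ) (R_le_normalizer_fixMod h hτ)
      (by rw [← relIndex_moved h hτ, hU2]) hρ hgen hρr
  have hd : ∀ x : D, disp τ x ∈ D := fun x => hτ.disp_mem x.2
  -- the form on the quotient
  let γ : D →* D →* Two :=
    MonoidHom.mk' (fun x => MonoidHom.mk' (fun v => signOf L1 ⁅disp τ x, disp τ v⁆) fun a b => by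
        show signOf L1 ⁅disp τ x, disp τ ((a : X) * b)⁆ = _
        rw [h.comm_symm (hd x) (hτ.disp_mem (mul_mem a.2 b.2)), comm_disp h hτ a.2 b.2 (hd x), h.comm_symm (hd a) (hd x),
          h.comm_symm (hd b) (hd x),
          signOf_mul hL1.le hL1.two (h.comm _ (hd x) _ (hd a)) (h.comm _ (hd x) _ (hd b))])
      fun a b => MonoidHom.ext fun v => by
        show signOf L1 ⁅disp τ ((a : X) * b), disp τ v⁆ = _
        rw [comm_disp h hτ a.2 b.2 (hd v),
          signOf_mul hL1.le hL1.two (h.comm _ (hd a) _ (hd v)) (h.comm _ (hd b) _ (hd v))]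
        rfl
  have hdZ : ∀ {x : D}, (x : X) ∈ fixMod D Z τ → disp τ x ∈ Z := fun hx => ((mem_fixMod h hτ).1 hx).2
  have hcZ : ∀ {c a : X}, c ∈ Z → a ∈ D → ⁅c, a⁆ = 1 := fun hc ha =>
    commutatorElement_eq_one_iff_mul_comm.2 (h.central _ hc _ ha).symm
  obtain ⟨B, hB⟩ := hform γ fun x y hx => by
    have e : ⁅disp τ x, disp τ y⁆ = 1 := hcZ (hdZ hx) (hd y)
    refine ⟨signOf_eq_one.2 (e.symm ▸ one_mem L1), signOf_eq_one.2 ?_⟩
    rw [h.comm_symm (hd y) (hd x), e]
    exact one_mem L1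
  have hBnd : ∀ a, (∀ b, B a b = 0) → a = 0 := by
    intro a ha
    obtain ⟨x, rfl⟩ := hsurj a
    refine (hπ0 x).2 ((mem_fixMod h hτ).2 ⟨x.2, ?_⟩)
    have hc : ∀ v ∈ U, ⁅disp τ x, v⁆ = 1 := by
      intro v hv
      obtain ⟨y, hy, z, hz', rfl⟩ := mem_moved h hτ hv
      have h1 := ha (π ⟨y, hy⟩)
      rw [hB] at h1
      rw [h.comm_mul_right (hd x) (hτ.disp_mem hy) (h.Z_le hz'),
        (commutatorElement_eq_one_iff_mul_comm (g₁ := disp τ x) (g₂ := z)).2 (h.central z hz' _ (hd x)), mul_one,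
        ← Subgroup.mem_bot, ← hL1.avoid]
      exact ⟨signOf_eq_one.1 h1, hUc _ (disp_mem_moved x.2) _ (disp_mem_moved hy)⟩
    refine h.abel (U ⊓ Subgroup.centralizer (U : Set X)) (inf_le_left.trans hUD) ?_
      (fun a ha b hb => (Subgroup.mem_centralizer_iff.1 ha.2 b hb.1).symm)
      ⟨disp_mem_moved x.2, Subgroup.mem_centralizer_iff.2 fun v hv =>
        (commutatorElement_eq_one_iff_mul_comm.1 (hc v hv)).symm⟩
    intro σ hσ
    have hσU : ∀ v, v ∈ U ↔ σ * v * σ⁻¹ ∈ U := Subgroup.mem_normalizer_iff.1 (hRU hσ)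
    rw [Subgroup.mem_normalizer_iff]
    intro v
    rw [Subgroup.mem_inf, Subgroup.mem_inf, ← hσU, Subgroup.mem_centralizer_iff, Subgroup.mem_centralizer_iff]
    refine and_congr_right fun hv => ⟨fun hh t ht => ?_, fun hh t ht => ?_⟩
    · have ht' : σ⁻¹ * t * σ ∈ U := (hσU _).2 (by simpa [mul_assoc] using ht)
      calc t * (σ * v * σ⁻¹) = σ * ((σ⁻¹ * t * σ) * v) * σ⁻¹ := by group
        _ = σ * (v * (σ⁻¹ * t * σ)) * σ⁻¹ := by rw [hh _ ht']
        _ = σ * v * σ⁻¹ * t := by group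
    · have ht' := (hσU t).1 ht
      have := hh _ ht'
      calc t * v = σ⁻¹ * ((σ * t * σ⁻¹) * (σ * v * σ⁻¹)) * σ := by group
        _ = σ⁻¹ * ((σ * v * σ⁻¹) * (σ * t * σ⁻¹)) * σ := by rw [this]
        _ = v * t := by group
  have halt : ∀ a, B a a = 0 := fun a => by
    obtain ⟨x, rfl⟩ := hsurj a
    rw [hB]
    show Multiplicative.toAdd (signOf L1 ⁅disp τ x, disp τ x⁆) = 0
    rw [commutatorElement_self, signOf_eq_one.2 (one_mem L1)]
    rfl
  have hsymm : ∀ a b, B a b = B b a := fun a b => by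
    obtain ⟨x, rfl⟩ := hsurj a
    obtain ⟨y, rfl⟩ := hsurj b
    rw [hB, hB]
    show Multiplicative.toAdd (signOf L1 _) = Multiplicative.toAdd (signOf L1 _)
    rw [h.comm_symm (hd x) (hd y)]
  have hρd : ∀ x : D, ρ * disp τ x * ρ⁻¹ = disp τ (ρ * x * ρ⁻¹) := fun x => disp_conj h hτ hρ
  have hBf : ∀ a b, B (f a) (f b) = B a b := fun a b => by
    obtain ⟨x, rfl⟩ := hsurj a
    obtain ⟨y, rfl⟩ := hsurj b
    rw [hf, hf, hB, hB]
    show Multiplicative.toAdd (signOf L1 ⁅disp τ (ρ * x * ρ⁻¹), disp τ (ρ * y * ρ⁻¹)⁆) =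
      Multiplicative.toAdd (signOf L1 ⁅disp τ x, disp τ y⁆)
    rw [← hρd, ← hρd, h.conj_comm hρ (hd x) (hd y)]
  -- the dual map of the form
  have hBinj : Function.Injective B := (injective_iff_map_eq_zero B).2 fun a ha => hBnd a fun b => by rw [ha]; rfl
  let Φ : A ≃ₗ[ZMod 2] Module.Dual (ZMod 2) A :=
    LinearEquiv.ofInjectiveOfFinrankEq B hBinj Subspace.dual_finrank_eq.symm
  have hΦ : ∀ a b, Φ a b = B a b := fun a b => rfl
  -- the operators attached to the constituents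
  let H : Submodule (ZMod 2) (Module.End (ZMod 2) A) :=
    { carrier := {g | g * f = f * g ∧ ∀ a b, B (g a) b = B a (g b)}
      add_mem' := fun {g g'} hg hg' => ⟨by rw [add_mul, mul_add, hg.1, hg'.1], fun a b => by
        simp only [LinearMap.add_apply, map_add, LinearMap.add_apply, hg.2 a b, hg'.2 a b]⟩
      zero_mem' := ⟨by simp, fun a b => by simp⟩
      smul_mem' := fun c g hg => ⟨by rw [smul_mul_assoc, mul_smul_comm, hg.1], fun a b => by
        simp only [LinearMap.smul_apply, map_smul, LinearMap.smul_apply, hg.2 a b]⟩ }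
  have hpc : ∀ x y : D, ⁅disp τ x, (y : X)⁆ * ⁅disp τ y, (x : X)⁆ ∈ Zc := fun x y => disp_symm hz h hτ x.2 y.2
  have hopex : ∀ L, IsCons D Z Zc n L → ∃ g ∈ H, ∀ y x : D, B (π y) (g (π x)) =
      Multiplicative.toAdd (signOf L ⁅disp τ y, (x : X)⁆ * signOf L1 ⁅disp τ y, (x : X)⁆) := by
    intro L hL
    have hmul : ∀ {a b : X}, a ∈ Z → b ∈ Z → signOf L (a * b) * signOf L1 (a * b) =
        (signOf L a * signOf L1 a) * (signOf L b * signOf L1 b) := fun ha hb => by
      rw [signOf_mul hL.le hL.two ha hb, signOf_mul hL1.le hL1.two ha hb]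
      exact mul_mul_mul_comm _ _ _ _
    let P : D →* D →* Two :=
      MonoidHom.mk' (fun y => MonoidHom.mk'
          (fun x => signOf L ⁅disp τ y, (x : X)⁆ * signOf L1 ⁅disp τ y, (x : X)⁆) fun a b => by
          show signOf L ⁅disp τ y, (a : X) * b⁆ * signOf L1 ⁅disp τ y, (a : X) * b⁆ = _
          rw [h.comm_mul_right (hd y) a.2 b.2, hmul (h.comm _ (hd y) _ a.2) (h.comm _ (hd y) _ b.2)])
        fun a b => MonoidHom.ext fun x => by
          show signOf L ⁅disp τ ((a : X) * b), (x : X)⁆ * signOf L1 ⁅disp τ ((a : X) * b), (x : X)⁆ = _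
          rw [comm_disp h hτ a.2 b.2 x.2, hmul (h.comm _ (hd a) _ x.2) (h.comm _ (hd b) _ x.2)]
          rfl
    obtain ⟨Bl, hBl⟩ := hform P fun x y hx => by
      refine ⟨?_, ?_⟩
      · show signOf L ⁅disp τ x, (y : X)⁆ * signOf L1 ⁅disp τ x, (y : X)⁆ = 1
        rw [hcZ (hdZ hx) y.2, signOf_eq_one.2 (one_mem L), signOf_eq_one.2 (one_mem L1)]
        rfl
      · show signOf L ⁅disp τ y, (x : X)⁆ * signOf L1 ⁅disp τ y, (x : X)⁆ = 1
        rw [Zc_sign h hL hL1 (hUc _ (disp_mem_moved y.2) _ (hfix.le hx)), two_sq]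
    have hBlsymm : ∀ a b, Bl a b = Bl b a := fun a b => by
      obtain ⟨x, rfl⟩ := hsurj a
      obtain ⟨y, rfl⟩ := hsurj b
      rw [hBl, hBl]
      congr 1
      show signOf L ⁅disp τ x, (y : X)⁆ * signOf L1 ⁅disp τ x, (y : X)⁆ =
        signOf L ⁅disp τ y, (x : X)⁆ * signOf L1 ⁅disp τ y, (x : X)⁆
      have h1 := hmul (h.comm _ (hd x) _ y.2) (h.comm _ (hd y) _ x.2)
      rw [Zc_sign h hL hL1 (hpc x y), two_sq] at h1
      exact two_eq_of_mul h1
    have hBlf : ∀ a b, Bl (f a) (f b) = Bl a b := fun a b => by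
      obtain ⟨x, rfl⟩ := hsurj a
      obtain ⟨y, rfl⟩ := hsurj b
      rw [hf, hf, hBl, hBl]
      show Multiplicative.toAdd (signOf L ⁅disp τ (ρ * x * ρ⁻¹), ρ * (y : X) * ρ⁻¹⁆ *
          signOf L1 ⁅disp τ (ρ * x * ρ⁻¹), ρ * (y : X) * ρ⁻¹⁆) = _
      rw [← hρd, h.conj_comm hρ (hd x) y.2]
      rfl
    let g : Module.End (ZMod 2) A := Φ.symm.toLinearMap.comp Bl
    have hg : ∀ a b, B (g a) b = Bl a b := fun a b => by
      rw [← hΦ]
      show Φ (Φ.symm (Bl a)) b = _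
      rw [LinearEquiv.apply_symm_apply]
    refine ⟨g, ⟨LinearMap.ext fun a => Φ.injective (LinearMap.ext fun b => ?_), fun a b => ?_⟩, fun y x => ?_⟩
    · rw [hΦ, hΦ, Module.End.mul_apply, Module.End.mul_apply, hg]
      obtain ⟨b, rfl⟩ : ∃ c, f c = b := ⟨(f ^ 2 ^ n) b, by
        rw [← Module.End.mul_apply, ← pow_succ', ← h.r_eq, hfr, Module.End.one_apply]⟩
      rw [hBlf, hBf, hg]
    · rw [hg, hsymm a, hg, hBlsymm]
    · rw [hsymm, hg, hBlsymm, hBl]
      rfl
  choose op hopH hop using hopex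
  -- the elements whose values depend affinely on the operators
  let T : Set X := {z | z ∈ Z ∧ ∃ (c : ZMod 2) (l : Module.Dual (ZMod 2) H),
    ∀ L (hL : IsCons D Z Zc n L), Multiplicative.toAdd (signOf L z) = c + l ⟨op L hL, hopH L hL⟩}
  let Aff : Subgroup X :=
    { carrier := T
      one_mem' := ⟨one_mem Z, 0, 0, fun L _ => by rw [signOf_eq_one.2 (one_mem L)]; simp⟩
      mul_mem' := by
        rintro a b ⟨ha, c, l, hl⟩ ⟨hb, c', l', hl'⟩
        refine ⟨mul_mem ha hb, c + c', l + l', fun L hL => ?_⟩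
        rw [signOf_mul hL.le hL.two ha hb, signTwo_add, hl L hL, hl' L hL, LinearMap.add_apply]
        abel
      inv_mem' := by
        rintro a ⟨ha, hh⟩
        rw [inv_eq_of_mul_eq_one_right (h.sq_one a ha)]
        exact ⟨ha, hh⟩ }
  have haff_const : ∀ z ∈ Zc, z ∈ Aff := fun z hzc =>
    ⟨h.Zc_le hzc, Multiplicative.toAdd (signOf L1 z), 0, fun L hL => by
      rw [Zc_sign h hL hL1 hzc]
      simp⟩
  have haff_lin : ∀ y x : D, ⁅disp τ y, (x : X)⁆ ∈ Aff := fun y x => by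
    refine ⟨h.comm _ (hd y) _ x.2, Multiplicative.toAdd (signOf L1 ⁅disp τ y, (x : X)⁆),
      ((B (π y)).comp (LinearMap.applyₗ (π x))).comp H.subtype, fun L hL => ?_⟩
    have h1 := hop L hL y x
    rw [signTwo_add] at h1
    show _ = _ + B (π y) (op L hL (π x))
    rw [h1, add_comm, add_assoc, CharTwo.add_self_eq_zero, add_zero]
  have hsupL1 := h.small_sup_rad hUD hRU hUc hUne hL1
  have hcommute : ∀ g ∈ H, ∀ g' ∈ H, g * g' = g' * g := fun g hg g' hg' => by
    obtain ⟨P, rfl⟩ := exists_aeval hirr hg.1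
    obtain ⟨Q, rfl⟩ := exists_aeval hirr hg'.1
    rw [← map_mul, ← map_mul, mul_comm]
  have haff_quad : ∀ c c' : D, (c : X) ∈ rad D L1 → (c' : X) ∈ rad D L1 → ⁅(c : X), (c' : X)⁆ ∈ Aff := by
    intro c c' hc hc'
    have hlin : ∀ g g' : H, B ((g + g' : H).1 (π c)) ((g + g' : H).1 (π c')) =
        B (g.1 (π c)) (g.1 (π c')) + B (g'.1 (π c)) (g'.1 (π c')) := fun g g' => by
      have hx : B (g.1 (π c)) (g'.1 (π c')) + B (g'.1 (π c)) (g.1 (π c')) = 0 := by
        rw [g.2.2, g'.2.2, ← Module.End.mul_apply, ← Module.End.mul_apply, hcommute _ g.2 _ g'.2,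
          CharTwo.add_self_eq_zero]
      rw [Submodule.coe_add, LinearMap.add_apply, LinearMap.add_apply, map_add, map_add, LinearMap.add_apply,
        LinearMap.add_apply]
      linear_combination hx
    let l : Module.Dual (ZMod 2) H :=
      AddMonoidHom.toZModLinearMap 2 (AddMonoidHom.mk' (fun g : H => B (g.1 (π c)) (g.1 (π c'))) hlin)
    refine ⟨h.comm _ c.2 _ c'.2, 0, l, fun L hL => ?_⟩
    show _ = 0 + B (op L hL (π c)) (op L hL (π c'))
    rw [zero_add]
    have hL1z : ∀ {a b : X}, a ∈ rad D L1 → b ∈ D → signOf L1 ⁅b, a⁆ = 1 := fun ha hb => by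
      rw [h.comm_symm hb (rad_le _ _ ha)]
      exact signOf_eq_one.2 ((h.mem_rad_iff.1 ha).2 _ hb)
    have hrep : ∀ d : D, (d : X) ∈ rad D L1 → ∀ v : D, π v = op L hL (π d) →
        (d : X) * disp τ v ∈ rad D L := by
      intro d hd1 v hv
      have hq : (d : X) * disp τ v ∈ D := mul_mem d.2 (hd v)
      have horth : ∀ u ∈ U, ⁅(d : X) * disp τ v, u⁆ ∈ L := by
        intro u hu
        obtain ⟨y, hy, z, hz', rfl⟩ := mem_moved h hτ hu
        rw [h.comm_mul_right hq (hτ.disp_mem hy) (h.Z_le hz'),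
          (commutatorElement_eq_one_iff_mul_comm (g₁ := (d : X) * disp τ v) (g₂ := z)).2 (h.central z hz' _ hq),
          mul_one, h.comm_mul_left d.2 (hd v) (hτ.disp_mem hy)]
        refine signOf_eq_one.1 ?_
        rw [signOf_mul hL.le hL.two (h.comm _ d.2 _ (hτ.disp_mem hy)) (h.comm _ (hd v) _ (hτ.disp_mem hy))]
        have h1 := hop L hL ⟨y, hy⟩ d
        rw [← hv, hB, hL1z hd1 (hτ.disp_mem hy), mul_one] at h1
        have h2 : signOf L1 ⁅disp τ y, disp τ v⁆ = signOf L ⁅disp τ y, (d : X)⁆ := Multiplicative.toAdd.injective h1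
        rw [h.comm_symm d.2 (hτ.disp_mem hy), ← h2,
          Zc_sign h hL hL1 (hUc _ (disp_mem_moved v.2) _ (disp_mem_moved hy)), h.comm_symm (hd v) (hτ.disp_mem hy),
          two_sq]
      obtain ⟨x', hx', u, hu, e⟩ := CfsgLib.mem_sup_of_le_normalizer (hUD.trans (h.rad_normalized L))
        (sup_comm U (rad D L) ▸ (h.small_sup_rad hUD hRU hUc hUne hL).ge hq)
      rw [← e]
      refine mul_mem hx' (h.mem_rad_iff.2 ⟨hUD hu, fun t ht => ?_⟩)
      obtain ⟨x'', hx'', u', hu', rfl⟩ := CfsgLib.mem_sup_of_le_normalizer (hUD.trans (h.rad_normalized L))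
        (sup_comm U (rad D L) ▸ (h.small_sup_rad hUD hRU hUc hUne hL).ge ht)
      rw [h.comm_mul_right (hUD hu) (rad_le _ _ hx'') (hUD hu'), h.comm_symm (hUD hu) (rad_le _ _ hx'')]
      refine mul_mem ((h.mem_rad_iff.1 hx'').2 u (hUD hu)) ?_
      have h3 := horth u' hu'
      rw [← e, h.comm_mul_left (rad_le _ _ hx') (hUD hu) (hUD hu')] at h3
      have h4 := (h.mem_rad_iff.1 hx').2 u' (hUD hu')
      have h5 := mul_mem (inv_mem h4) h3
      rwa [inv_mul_cancel_left] at h5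
    obtain ⟨v, hv⟩ := hsurj (op L hL (π c))
    obtain ⟨v', hv'⟩ := hsurj (op L hL (π c'))
    have hr1 := hrep c hc v hv
    have hr2 := hrep c' hc' v' hv'
    have h1 := (h.mem_rad_iff.1 hr1).2 c' c'.2
    have h2 := (h.mem_rad_iff.1 hr2).2 (disp τ v) (hd v)
    rw [h.comm_mul_left c.2 (hd v) c'.2] at h1
    rw [h.comm_mul_left c'.2 (hd v') (hd v)] at h2
    have h3 : ⁅(c : X), (c' : X)⁆ * ⁅disp τ v, disp τ v'⁆ ∈ L := by
      have := mul_mem h1 h2
      rw [h.comm_symm c'.2 (hd v), h.comm_symm (hd v') (hd v), mul_assoc,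
        ← mul_assoc ⁅disp τ v, (c' : X)⁆, h.sq_one _ (h.comm _ (hd v) _ c'.2), one_mul] at this
      exact this
    have h4 := signOf_eq_one.2 h3
    rw [signOf_mul hL.le hL.two (h.comm _ c.2 _ c'.2) (h.comm _ (hd v) _ (hd v')),
      Zc_sign h hL hL1 (hUc _ (disp_mem_moved v.2) _ (disp_mem_moved v'.2))] at h4
    rw [← hv, ← hv', hB]
    have h5 := congrArg (· * signOf L1 ⁅disp τ v, disp τ v'⁆) h4
    simp only [one_mul, mul_assoc, two_sq, mul_one] at h5
    rw [h5]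
    rfl
  have hZAff : Z ≤ Aff := h.le_derived.trans (Subgroup.commutator_le.2 fun x hx y hy => by
    obtain ⟨c, hc, u, hu, rfl⟩ := CfsgLib.mem_sup_of_le_normalizer (hUD.trans (h.rad_normalized L1))
      (sup_comm U (rad D L1) ▸ hsupL1.ge hx)
    obtain ⟨c', hc', u', hu', rfl⟩ := CfsgLib.mem_sup_of_le_normalizer (hUD.trans (h.rad_normalized L1))
      (sup_comm U (rad D L1) ▸ hsupL1.ge hy)
    have hcD := rad_le _ _ hc
    have hc'D := rad_le _ _ hc'
    have hmix : ∀ {u c : X}, u ∈ U → (hc : c ∈ D) → ⁅u, c⁆ ∈ Aff := fun {u c} hu hc => by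
      obtain ⟨v, hv, z, hz', rfl⟩ := mem_moved h hτ hu
      rw [h.comm_mul_left (hτ.disp_mem hv) (h.Z_le hz') hc, hcZ hz' hc, mul_one]
      exact haff_lin ⟨v, hv⟩ ⟨c, hc⟩
    rw [h.comm_mul_left hcD (hUD hu) (mul_mem hc'D (hUD hu')), h.comm_mul_right hcD hc'D (hUD hu'),
      h.comm_mul_right (hUD hu) hc'D (hUD hu')]
    refine mul_mem (mul_mem (haff_quad ⟨c, hcD⟩ ⟨c', hc'D⟩ hc hc') ?_)
      (mul_mem (hmix hu hc'D) (haff_const _ (hUc u hu u' hu')))
    rw [h.comm_symm hcD (hUD hu')]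
    exact hmix hu' hcD)
  have key : ∀ z : Z, ∃ p : ZMod 2 × Module.Dual (ZMod 2) H, ∀ L (hL : IsCons D Z Zc n L),
      Multiplicative.toAdd (signOf L z.1) = p.1 + p.2 ⟨op L hL, hopH L hL⟩ := fun z => by
    obtain ⟨-, c, l, hl⟩ := hZAff z.2
    exact ⟨(c, l), hl⟩
  choose val hval using key
  have hinj : Function.Injective val := fun z z' e => Subtype.ext (by
    by_contra hne
    obtain ⟨L, hL, hnot⟩ := h.cons (z.1 * z'.1) (mul_mem z.2 z'.2) fun e2 => hne (by
      rw [← mul_one (z : X), ← h.sq_one z'.1 z'.2, ← mul_assoc, e2, one_mul])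
    refine hnot (signOf_eq_one.1 ?_)
    have e1 : signOf L z.1 = signOf L z'.1 := Multiplicative.toAdd.injective (by rw [hval z L hL, hval z' L hL, e])
    rw [signOf_mul hL.le hL.two z.2 z'.2, e1, two_sq])
  haveI : Finite (Module.Dual (ZMod 2) H) := Module.finite_of_finite (ZMod 2)
  haveI : Finite (Module.End (ZMod 2) A) := Module.finite_of_finite (ZMod 2)
  have hHcard : Nat.card H ≤ 2 ^ n :=
    card_selfAdjoint_le h.r_eq hfr hirr hfin hBf halt hBnd (H : Set (Module.End (ZMod 2) A)) fun g hg => hg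
  have hcount : Nat.card Z ≤ 2 * 2 ^ n := by
    refine (Nat.card_le_card_of_injective val hinj).trans ?_
    rw [Nat.card_prod, Nat.card_zmod]
    refine Nat.mul_le_mul_left 2 (le_trans (le_of_eq ?_) hHcard)
    rw [Module.natCard_eq_pow_finrank (K := ZMod 2), Module.natCard_eq_pow_finrank (K := ZMod 2) (V := H),
      Subspace.dual_finrank_eq]
  have hmul := Subgroup.relIndex_mul_relIndex ⊥ Zc Z bot_le h.Zc_le
  rw [Subgroup.relIndex_bot_left, Subgroup.relIndex_bot_left, hcard2] at hmul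
  omega

end InvAct

end CfsgLib.FlavellA
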