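import Cfsg.Agent.Lib.FlavellA.DData

/-!
Pairings on `D`: orthogonality, subgroups with commutators in the central part, and the bound on their order.

Blueprint: `blueprint/FlavellA.md`, section 0.
-/

set_option autoImplicit false
set_option linter.unusedSectionVars false
set_option linter.style.haveILetI false

namespace CfsgLib.FlavellA

open scoped commutatorElement

universe u

variable {X : Type u} [Group X]

/-- The two-valued character of a hyperplane. -/
noncomputable def signOf (L : Subgroup X) (z : X) : Two :=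
  open Classical in if z ∈ L then 1 else Multiplicative.ofAdd 1

theorem signOf_eq_one {L : Subgroup X} {z : X} : signOf L z = 1 ↔ z ∈ L := by
  unfold signOf
  split <;> rename_i hz
  · exact ⟨fun _ => hz, fun _ => rfl⟩
  · exact ⟨fun h => absurd h (by decide), fun h => absurd h hz⟩

theorem signOf_mul {Z L : Subgroup X} (hle : L ≤ Z) (htwo : ∀ a ∈ Z, ∀ b ∈ Z, a ∉ L → b ∉ L → a * b ∈ L) {a b : X}
    (ha : a ∈ Z) (hb : b ∈ Z) : signOf L (a * b) = signOf L a * signOf L b := by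
  unfold signOf
  by_cases h1 : a ∈ L <;> by_cases h2 : b ∈ L
  · simp [h1, h2, mul_mem h1 h2]
  · have : a * b ∉ L := fun h => h2 (by simpa using mul_mem (inv_mem h1) h)
    simp [h1, h2, this]
  · have : a * b ∉ L := fun h => h1 (by simpa using mul_mem h (inv_mem h2))
    simp [h1, h2, this]
  · simp [h1, h2, htwo a ha b hb h1 h2]
    decide

theorem relIndex_mono [Finite X] (H : Subgroup X) {K L : Subgroup X} (hKL : K ≤ L) : H.relIndex K ≤ H.relIndex L :=
  Subgroup.relIndex_le_of_le_right hKL Subgroup.index_ne_zero_of_finite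

namespace DData

variable [Finite X] {R D Z Zc : Subgroup X} {r n : ℕ} (h : DData R D Z Zc r n)
include h

theorem rad_normalized (L : Subgroup X) : D ≤ Subgroup.normalizer (rad D L : Set X) := by
  have key : ∀ y ∈ D, ∀ x ∈ rad D L, y * x * y⁻¹ ∈ rad D L := fun y hy x hx => by
    rw [show y * x * y⁻¹ = ⁅y, x⁆ * x by rw [commutatorElement_def]; group]
    exact mul_mem (h.Z_le_rad L (h.comm y hy x (rad_le D L hx))) hx
  intro y hy
  rw [Subgroup.mem_normalizer_iff]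
  refine fun x => ⟨key y hy x, fun hx => ?_⟩
  have := key y⁻¹ (inv_mem hy) _ hx
  simpa [mul_assoc] using this

/-- Orthogonal subgroups: their images are together no larger than the space. -/
theorem orth_bound {L U V : Subgroup X} (hle : L ≤ Z) (htwo : ∀ a ∈ Z, ∀ b ∈ Z, a ∉ L → b ∉ L → a * b ∈ L)
    (hU : U ≤ D) (hV : V ≤ D) (horth : ∀ x ∈ U, ∀ v ∈ V, ⁅x, v⁆ ∈ L) :
    (rad D L).relIndex V * (rad D L).relIndex U ≤ (rad D L).relIndex D := by
  let Φ : D →* V →* Two :=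
    MonoidHom.mk' (fun x => MonoidHom.mk' (fun v => signOf L ⁅(x : X), (v : X)⁆) fun a b => by
        show signOf L ⁅(x : X), (a : X) * b⁆ = _
        rw [h.comm_mul_right x.2 (hV a.2) (hV b.2),
          signOf_mul hle htwo (h.comm _ x.2 _ (hV a.2)) (h.comm _ x.2 _ (hV b.2))])
      fun a b => MonoidHom.ext fun v => by
        show signOf L ⁅(a : X) * b, (v : X)⁆ = signOf L ⁅(a : X), (v : X)⁆ * signOf L ⁅(b : X), (v : X)⁆
        rw [h.comm_mul_left a.2 b.2 (hV v.2),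
          signOf_mul hle htwo (h.comm _ a.2 _ (hV v.2)) (h.comm _ b.2 _ (hV v.2))]
  set P : Subgroup X := Φ.ker.map D.subtype with hP
  have hmemP : ∀ x : X, x ∈ P ↔ x ∈ D ∧ ∀ v ∈ V, ⁅x, v⁆ ∈ L := by
    intro x
    constructor
    · rintro ⟨y, hy, rfl⟩
      exact ⟨y.2, fun v hv => signOf_eq_one.1 (DFunLike.congr_fun hy ⟨v, hv⟩)⟩
    · rintro ⟨hx, hx'⟩
      exact ⟨⟨x, hx⟩, MonoidHom.ext fun v => signOf_eq_one.2 (hx' v v.2), rfl⟩
  have hPD : P.relIndex D = Φ.ker.index := by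
    rw [Subgroup.relIndex, hP, Subgroup.subgroupOf, Subgroup.comap_map_eq_self_of_injective D.subtype_injective]
  have hflip : Φ.flip.ker = (rad D L).subgroupOf V := by
    ext v
    rw [MonoidHom.mem_ker, Subgroup.mem_subgroupOf, h.mem_rad_iff]
    constructor
    · intro hv
      refine ⟨hV v.2, fun y hy => ?_⟩
      rw [h.comm_symm (hV v.2) hy]
      exact signOf_eq_one.1 (DFunLike.congr_fun hv ⟨y, hy⟩)
    · rintro ⟨-, hv⟩
      refine MonoidHom.ext fun y => signOf_eq_one.2 ?_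
      rw [h.comm_symm y.2 (hV v.2)]
      exact hv y y.2
  have heq : (rad D L).relIndex V = P.relIndex D := by
    rw [hPD, ← pairing_index_eq Φ, hflip]; rfl
  have hUP : U ≤ P := fun x hx => (hmemP x).2 ⟨hU hx, horth x hx⟩
  have hradP : rad D L ≤ P := fun x hx => (hmemP x).2
    ⟨(h.mem_rad_iff.1 hx).1, fun v hv => (h.mem_rad_iff.1 hx).2 v (hV hv)⟩
  have hPle : P ≤ D := fun x hx => ((hmemP x).1 hx).1
  have hmul := Subgroup.relIndex_mul_relIndex _ _ _ hradP hPle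
  rw [heq, ← hmul, mul_comm]
  exact Nat.mul_le_mul_right _ (relIndex_mono _ hUP)

/-- The radicals meet in `Z`. -/
theorem mem_Z_of_rad {x : X} (hx : x ∈ D) (hrad : ∀ L, IsCons D Z Zc n L → x ∈ rad D L) : x ∈ Z := by
  have hc : ∀ y ∈ D, x * y = y * x := fun y hy => by
    rw [← commutatorElement_eq_one_iff_mul_comm]
    by_contra hne
    obtain ⟨L, hL, hnot⟩ := h.cons _ (h.comm x hx y hy) hne
    exact hnot ((h.mem_rad_iff.1 (hrad L hL)).2 y hy)
  refine h.abel (D ⊓ Subgroup.centralizer (D : Set X)) inf_le_left ?_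
    (fun a ha b hb => (Subgroup.mem_centralizer_iff.1 ha.2 b hb.1).symm)
    ⟨hx, Subgroup.mem_centralizer_iff.2 fun y hy => (hc y hy).symm⟩
  have key : ∀ ρ ∈ R, ∀ a ∈ D ⊓ Subgroup.centralizer (D : Set X),
      ρ * a * ρ⁻¹ ∈ D ⊓ Subgroup.centralizer (D : Set X) := by
    intro ρ hρ a ha
    refine ⟨h.conj_mem hρ ha.1, Subgroup.mem_centralizer_iff.2 fun y hy => ?_⟩
    have hy' : ρ⁻¹ * y * ρ ∈ D := by simpa using h.conj_mem (inv_mem hρ) hy
    have := Subgroup.mem_centralizer_iff.1 ha.2 _ hy'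
    calc y * (ρ * a * ρ⁻¹) = ρ * ((ρ⁻¹ * y * ρ) * a) * ρ⁻¹ := by group
      _ = ρ * (a * (ρ⁻¹ * y * ρ)) * ρ⁻¹ := by rw [this]
      _ = ρ * a * ρ⁻¹ * y := by group
  intro ρ hρ
  rw [Subgroup.mem_normalizer_iff]
  refine fun a => ⟨key ρ hρ a, fun ha => ?_⟩
  have := key ρ⁻¹ (inv_mem hρ) _ ha
  simpa [mul_assoc] using this

theorem rad_relIndex_eq {L : Subgroup X} (hL : IsCons D Z Zc n L) {P : Subgroup X} (hP : P ≤ D) (hZP : Z ≤ P)
    (hRP : R ≤ Subgroup.normalizer (P : Set X)) (hne : ¬ P ≤ rad D L) : (rad D L).relIndex P = 2 ^ (2 * n) := by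
  refine le_antisymm (hL.index ▸ relIndex_mono _ hP) ?_
  rw [← Subgroup.inf_relIndex_right]
  refine h.le_relIndex (le_inf (h.Z_le_rad L) hZP) inf_le_right hP ?_ hRP fun e => hne (e.ge.trans inf_le_left)
  intro ρ hρ
  rw [Subgroup.mem_normalizer_iff]
  intro a
  rw [Subgroup.mem_inf, Subgroup.mem_inf, Subgroup.mem_normalizer_iff.1 (h.R_le_normalizer_rad L hρ) a,
    Subgroup.mem_normalizer_iff.1 (hRP hρ) a]

/-- An invariant subgroup with commutators in the central part meets each radical in `Z`. -/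
theorem small_inf_rad {U : Subgroup X} (hU : U ≤ D) (hRU : R ≤ Subgroup.normalizer (U : Set X))
    (hcomm : ∀ x ∈ U, ∀ y ∈ U, ⁅x, y⁆ ∈ Zc) {L : Subgroup X} (hL : IsCons D Z Zc n L) : U ⊓ rad D L ≤ Z := by
  refine h.abel _ (inf_le_left.trans hU) ?_ fun x hx y hy => ?_
  · intro ρ hρ
    rw [Subgroup.mem_normalizer_iff]
    intro a
    rw [Subgroup.mem_inf, Subgroup.mem_inf, Subgroup.mem_normalizer_iff.1 (h.R_le_normalizer_rad L hρ) a,
      Subgroup.mem_normalizer_iff.1 (hRU hρ) a]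
  · rw [← commutatorElement_eq_one_iff_mul_comm, ← Subgroup.mem_bot, ← hL.avoid]
    exact ⟨(h.mem_rad_iff.1 hx.2).2 y (hU hy.1), hcomm x hx.1 y hy.1⟩

theorem small_sup_rad {U : Subgroup X} (hU : U ≤ D) (hRU : R ≤ Subgroup.normalizer (U : Set X))
    (hcomm : ∀ x ∈ U, ∀ y ∈ U, ⁅x, y⁆ ∈ Zc) (hne : ¬ U ≤ Z) {L : Subgroup X} (hL : IsCons D Z Zc n L) :
    U ⊔ rad D L = D :=
  h.sup_rad hL hU hRU fun hle => hne ((le_inf le_rfl hle).trans (h.small_inf_rad hU hRU hcomm hL))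

/-- An element almost orthogonal to such a subgroup lies in it. -/
theorem mem_small {U : Subgroup X} (hU : U ≤ D) (hZU : Z ≤ U) (hRU : R ≤ Subgroup.normalizer (U : Set X))
    (hcomm : ∀ x ∈ U, ∀ y ∈ U, ⁅x, y⁆ ∈ Zc) (hne : ¬ U ≤ Z) {d : X} (hd : d ∈ D)
    (hdU : ∀ u ∈ U, ⁅d, u⁆ ∈ Zc) : d ∈ U := by
  obtain ⟨w, hw, hw1⟩ : ∃ w ∈ Z, w ≠ 1 := by
    by_contra hno
    push Not at hno
    exact hne (h.abel U hU hRU fun x hx y hy => commutatorElement_eq_one_iff_mul_comm.1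
      (hno _ (h.comm x (hU hx) y (hU hy))))
  obtain ⟨L1, hL1, -⟩ := h.cons w hw hw1
  have hd' : d ∈ U ⊔ rad D L1 := (h.small_sup_rad hU hRU hcomm hne hL1).ge hd
  obtain ⟨x, hx, e, he, rfl⟩ := CfsgLib.mem_sup_of_le_normalizer (hU.trans (h.rad_normalized L1))
    (sup_comm U (rad D L1) ▸ hd')
  refine mul_mem (hZU (h.mem_Z_of_rad (rad_le _ _ hx) fun L hL => ?_)) he
  have hxU : ∀ u ∈ U, ⁅x, u⁆ = 1 := fun u hu => by
    rw [← Subgroup.mem_bot, ← hL1.avoid]
    refine ⟨(h.mem_rad_iff.1 hx).2 u (hU hu), ?_⟩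
    have hm := hdU u hu
    rw [h.comm_mul_left (rad_le _ _ hx) (hU he) (hU hu)] at hm
    have hm2 := mul_mem hm (inv_mem (hcomm e he u hu))
    rwa [mul_inv_cancel_right] at hm2
  have hxD := rad_le _ _ hx
  refine h.mem_rad_iff.2 ⟨hxD, fun y hy => ?_⟩
  obtain ⟨x', hx', u, hu, rfl⟩ := CfsgLib.mem_sup_of_le_normalizer (hU.trans (h.rad_normalized L))
    (sup_comm U (rad D L) ▸ (h.small_sup_rad hU hRU hcomm hne hL).ge hy)
  rw [h.comm_mul_right hxD (rad_le _ _ hx') (hU hu), hxU u hu, mul_one, h.comm_symm hxD (rad_le _ _ hx')]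
  exact (h.mem_rad_iff.1 hx').2 x hxD

/-- Outside the degenerate case only `Z` has all commutators with `D` in the central part. -/
theorem rad_Zc_le (hnd : ¬ Z ≤ Zc) : rad D Zc ≤ Z := by
  by_contra hne
  have hcomm : ∀ x ∈ rad D Zc, ∀ y ∈ rad D Zc, ⁅x, y⁆ ∈ Zc :=
    fun x hx y hy => (h.mem_rad_iff.1 hx).2 y (rad_le _ _ hy)
  have hall : D ≤ rad D Zc := fun d hd => h.mem_small (rad_le _ _) (h.Z_le_rad _) (h.R_le_normalizer_rad _) hcomm hne
    hd fun u hu => by
      rw [h.comm_symm hd (rad_le _ _ hu)]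
      exact (h.mem_rad_iff.1 hu).2 d hd
  refine hnd (h.le_derived.trans (Subgroup.commutator_le.2 fun x hx y hy => hcomm x (hall hx) y (hall hy)))

/-- A subgroup with commutators in the central part has at most the square root of the order, modulo `Z`. -/
theorem small_bound {U : Subgroup X} (hU : U ≤ D) (hZU : Z ≤ U) (hcomm : ∀ x ∈ U, ∀ y ∈ U, ⁅x, y⁆ ∈ Zc)
    (hnd : ¬ Z ≤ Zc) : Z.relIndex U ^ 2 ≤ Z.relIndex D := by
  set U0 := U ⊓ Subgroup.centralizer (U : Set X) with hU0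
  set a := U0.relIndex U with ha
  have hZU0 : Z ≤ U0 := le_inf hZU fun z hz => Subgroup.mem_centralizer_iff.2 fun u hu =>
    h.central z hz u (hU hu)
  have hapos : 1 ≤ a := Nat.pos_of_ne_zero Subgroup.index_ne_zero_of_finite
  -- one step of the chain
  have step : ∀ P : Subgroup X, Z ≤ P → P ≤ D → R ≤ Subgroup.normalizer (P : Set X) → ∀ L, IsCons D Z Zc n L →
      ¬ P ≤ rad D L →
      Z.relIndex (U0 ⊓ P) ^ 2 * a * Z.relIndex (P ⊓ rad D L) ≤
        Z.relIndex (U0 ⊓ (P ⊓ rad D L)) ^ 2 * Z.relIndex P := by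
    intro P hZP hPD hRP L hL hne
    set V := U0 ⊓ P with hV
    have hrU : rad D L ⊓ U ≤ U0 := fun x hx => ⟨hx.2, Subgroup.mem_centralizer_iff.2 fun u hu => by
      rw [← commutatorElement_eq_one_iff_mul_comm, ← Subgroup.mem_bot, ← hL.avoid,
        h.comm_symm (hU hu) (hU hx.2)]
      exact ⟨(h.mem_rad_iff.1 hx.1).2 u (hU hu), hcomm x hx.2 u hu⟩⟩
    have horth := h.orth_bound hL.le hL.two hU (inf_le_left.trans (inf_le_left.trans hU) : V ≤ D)
      fun x hx v hv => by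
        rw [commutatorElement_eq_one_iff_mul_comm.2 (Subgroup.mem_centralizer_iff.1 hv.1.2 x hx)]
        exact one_mem L
    have hUge : a * (rad D L).relIndex V ≤ (rad D L).relIndex U := by
      have e := Subgroup.relIndex_mul_relIndex _ _ _ hrU (inf_le_left : U0 ≤ U)
      rw [Subgroup.inf_relIndex_right] at e
      rw [← e, mul_comm a]
      refine Nat.mul_le_mul_right _ ?_
      calc (rad D L).relIndex V ≤ (rad D L).relIndex U0 := relIndex_mono _ inf_le_left
        _ = (rad D L ⊓ U).relIndex U0 := by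
          rw [← Subgroup.inf_relIndex_right (rad D L ⊓ U) U0, inf_assoc,
            inf_eq_right.2 (inf_le_left : U0 ≤ U), Subgroup.inf_relIndex_right]
    have e1 : Z.relIndex (U0 ⊓ (P ⊓ rad D L)) * (rad D L).relIndex V = Z.relIndex V := by
      rw [show U0 ⊓ (P ⊓ rad D L) = rad D L ⊓ V by rw [hV, inf_left_comm, inf_comm P, inf_comm U0]; ac_rfl,
        ← Subgroup.inf_relIndex_right (rad D L) V]
      exact Subgroup.relIndex_mul_relIndex _ _ _ (le_inf (h.Z_le_rad L) (le_inf hZU0 hZP)) inf_le_right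
    have e2 : Z.relIndex (P ⊓ rad D L) * 2 ^ (2 * n) = Z.relIndex P := by
      rw [← h.rad_relIndex_eq hL hPD hZP hRP hne, ← Subgroup.inf_relIndex_left P (rad D L)]
      exact Subgroup.relIndex_mul_relIndex _ _ _ (le_inf hZP (h.Z_le_rad L)) inf_le_left
    have key : (rad D L).relIndex V ^ 2 * a ≤ 2 ^ (2 * n) := by
      rw [← hL.index]
      calc (rad D L).relIndex V ^ 2 * a = (rad D L).relIndex V * (a * (rad D L).relIndex V) := by ring
        _ ≤ (rad D L).relIndex V * (rad D L).relIndex U := Nat.mul_le_mul_left _ hUge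
        _ ≤ _ := horth
    rw [← e1, ← e2]
    calc (Z.relIndex (U0 ⊓ (P ⊓ rad D L)) * (rad D L).relIndex V) ^ 2 * a * Z.relIndex (P ⊓ rad D L)
        = Z.relIndex (U0 ⊓ (P ⊓ rad D L)) ^ 2 * ((rad D L).relIndex V ^ 2 * a) * Z.relIndex (P ⊓ rad D L) := by ring
      _ ≤ Z.relIndex (U0 ⊓ (P ⊓ rad D L)) ^ 2 * 2 ^ (2 * n) * Z.relIndex (P ⊓ rad D L) :=
          Nat.mul_le_mul_right _ (Nat.mul_le_mul_left _ key)
      _ = _ := by ring
  have hRinf : ∀ P L : Subgroup X, R ≤ Subgroup.normalizer (P : Set X) →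
      R ≤ Subgroup.normalizer ((P ⊓ rad D L : Subgroup X) : Set X) := fun P L hRP ρ hρ => by
    rw [Subgroup.mem_normalizer_iff]
    intro b
    rw [Subgroup.mem_inf, Subgroup.mem_inf, Subgroup.mem_normalizer_iff.1 (h.R_le_normalizer_rad L hρ) b,
      Subgroup.mem_normalizer_iff.1 (hRP hρ) b]
  -- along a chain
  have chain : ∀ m, ∀ P : Subgroup X, Nat.card P ≤ m → Z ≤ P → P ≤ D → R ≤ Subgroup.normalizer (P : Set X) →
      Z.relIndex (U0 ⊓ P) ^ 2 ≤ Z.relIndex P ∧ (¬ P ≤ Z → Z.relIndex (U0 ⊓ P) ^ 2 * a ≤ Z.relIndex P) := by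
    intro m
    induction m with
    | zero => intro P hc; exact absurd hc (Nat.not_le.2 Nat.card_pos)
    | succ m ih =>
      intro P hc hZP hPD hRP
      by_cases hPZ : P ≤ Z
      · refine ⟨?_, fun hh => absurd hPZ hh⟩
        rw [Subgroup.relIndex_eq_one.2 (inf_le_right.trans hPZ), Subgroup.relIndex_eq_one.2 hPZ, one_pow]
      · obtain ⟨x, hx, hxZ⟩ := SetLike.not_le_iff_exists.1 hPZ
        obtain ⟨L, hL, hxL⟩ : ∃ L, IsCons D Z Zc n L ∧ x ∉ rad D L := by
          by_contra hno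
          push Not at hno
          exact hxZ (h.mem_Z_of_rad (hPD hx) hno)
        have hne : ¬ P ≤ rad D L := fun hle => hxL (hle hx)
        have hlt : Nat.card (P ⊓ rad D L : Subgroup X) < Nat.card P :=
          Set.ncard_lt_ncard (lt_of_le_of_ne inf_le_left fun e => hne (e.ge.trans inf_le_right) :
            (P ⊓ rad D L : Subgroup X) < P) (Set.toFinite _)
        have hstep := step P hZP hPD hRP L hL hne
        have hrec := (ih _ (by omega) (le_inf hZP (h.Z_le_rad L)) (inf_le_left.trans hPD) (hRinf P L hRP)).1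
        have hpos : 0 < Z.relIndex (P ⊓ rad D L) := Nat.pos_of_ne_zero Subgroup.index_ne_zero_of_finite
        have main : Z.relIndex (U0 ⊓ P) ^ 2 * a ≤ Z.relIndex P :=
          Nat.le_of_mul_le_mul_right (hstep.trans (by rw [mul_comm]; exact Nat.mul_le_mul_left _ hrec)) hpos
        exact ⟨le_trans (Nat.le_mul_of_pos_right _ hapos) main, fun _ => main⟩
  have hRD : R ≤ Subgroup.normalizer (D : Set X) := h.norm
  have hU0D : U0 ⊓ D = U0 := inf_eq_left.2 (inf_le_left.trans hU)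
  have hsplit : Z.relIndex U = Z.relIndex U0 * a := (Subgroup.relIndex_mul_relIndex _ _ _ hZU0 inf_le_left).symm
  by_cases ha1 : a = 1
  · have := (chain _ D le_rfl h.Z_le le_rfl hRD).1
    rw [hU0D] at this
    rwa [hsplit, ha1, mul_one]
  obtain ⟨z0, hz0, hz01⟩ : ∃ z ∈ Zc, z ≠ 1 := by
    by_contra hno
    push Not at hno
    refine ha1 (Subgroup.relIndex_eq_one.2 fun x hx => ⟨hx, Subgroup.mem_centralizer_iff.2 fun u hu => ?_⟩)
    exact commutatorElement_eq_one_iff_mul_comm.1 (hno _ (hcomm u hu x hx))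
  obtain ⟨L1, hL1, -⟩ := h.cons z0 (h.Zc_le hz0) hz01
  by_cases hbig : ∃ L, IsCons D Z Zc n L ∧ ¬ rad D L ≤ Z
  · obtain ⟨L, hL, hLne⟩ := hbig
    have hne : ¬ D ≤ rad D L := fun hle => by
      have := hL.index
      rw [Subgroup.relIndex_eq_one.2 hle] at this
      have hn := h.npos
      have := Nat.one_lt_two_pow (show 2 * n ≠ 0 by omega)
      omega
    have hstep := step D h.Z_le le_rfl hRD L hL hne
    rw [hU0D, inf_eq_right.2 (rad_le D L)] at hstep
    have hrec := (chain _ _ le_rfl (h.Z_le_rad L) (rad_le D L) (h.R_le_normalizer_rad L)).2 hLne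
    have hpos : 0 < Z.relIndex (rad D L) := Nat.pos_of_ne_zero Subgroup.index_ne_zero_of_finite
    refine Nat.le_of_mul_le_mul_right ?_ hpos
    calc Z.relIndex U ^ 2 * Z.relIndex (rad D L) = Z.relIndex U0 ^ 2 * a * Z.relIndex (rad D L) * a := by
          rw [hsplit]; ring
      _ ≤ Z.relIndex (U0 ⊓ rad D L) ^ 2 * Z.relIndex D * a := Nat.mul_le_mul_right _ hstep
      _ = Z.relIndex (U0 ⊓ rad D L) ^ 2 * a * Z.relIndex D := by ring
      _ ≤ Z.relIndex (rad D L) * Z.relIndex D := Nat.mul_le_mul_right _ hrec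
      _ = _ := mul_comm _ _
  push Not at hbig
  obtain ⟨z, hz, hzc⟩ := SetLike.not_le_iff_exists.1 hnd
  have hz0L : ∀ {L}, IsCons D Z Zc n L → z0 ∉ L := fun hL hh => hz01 (by
    rw [← Subgroup.mem_bot, ← hL.avoid]; exact ⟨hh, hz0⟩)
  obtain ⟨w, hw, hwc, hwL1⟩ : ∃ w ∈ Z, w ∉ Zc ∧ w ∈ L1 := by
    by_cases hzL : z ∈ L1
    · exact ⟨z, hz, hzc, hzL⟩
    · exact ⟨z * z0, mul_mem hz (h.Zc_le hz0), fun hh => hzc (by simpa using mul_mem hh (inv_mem hz0)),
        hL1.two z hz z0 (h.Zc_le hz0) hzL (hz0L hL1)⟩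
  obtain ⟨L2, hL2, hwL2⟩ := h.cons w hw fun e => hwc (e ▸ one_mem Zc)
  let L3 : Subgroup X :=
    { carrier := {v | v ∈ Z ∧ signOf L1 v = signOf L2 v}
      one_mem' := ⟨one_mem _, by rw [signOf_eq_one.2 (one_mem L1), signOf_eq_one.2 (one_mem L2)]⟩
      mul_mem' := fun {x y} hx hy => ⟨mul_mem hx.1 hy.1, by
        rw [signOf_mul hL1.le hL1.two hx.1 hy.1, signOf_mul hL2.le hL2.two hx.1 hy.1, hx.2, hy.2]⟩
      inv_mem' := fun {x} hx => by rw [inv_eq_of_mul_eq_one_right (h.sq_one x hx.1)]; exact hx }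
  have hL3 : L3 ≤ Z := fun v hv => hv.1
  have h3two : ∀ x ∈ Z, ∀ y ∈ Z, x ∉ L3 → y ∉ L3 → x * y ∈ L3 := by
    intro x hx y hy hx3 hy3
    refine ⟨mul_mem hx hy, ?_⟩
    rw [signOf_mul hL1.le hL1.two hx hy, signOf_mul hL2.le hL2.two hx hy]
    have h1 : signOf L1 x ≠ signOf L2 x := fun e => hx3 ⟨hx, e⟩
    have h2 : signOf L1 y ≠ signOf L2 y := fun e => hy3 ⟨hy, e⟩
    revert h1 h2
    generalize signOf L1 x = p, signOf L2 x = q, signOf L1 y = p', signOf L2 y = q'
    revert p q p' q'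
    decide
  have hZc3 : Zc ≤ L3 := by
    intro c hc
    refine ⟨h.Zc_le hc, ?_⟩
    rcases eq_or_ne c 1 with rfl | hc1
    · rw [signOf_eq_one.2 (one_mem L1), signOf_eq_one.2 (one_mem L2)]
    · have hnot : ∀ {L}, IsCons D Z Zc n L → c ∉ L := fun hL hh => hc1 (by
        rw [← Subgroup.mem_bot, ← hL.avoid]; exact ⟨hh, hc⟩)
      simp [signOf, hnot hL1, hnot hL2]
  have hw3 : w ∉ L3 := fun hh => by
    have := hh.2
    rw [signOf_eq_one.2 hwL1] at this
    exact hwL2 (signOf_eq_one.1 this.symm)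
  have hne3 : ¬ D ≤ rad D L3 := fun hle => hw3 (h.le_derived.trans (Subgroup.commutator_le.2 fun x hx y hy =>
    (h.mem_rad_iff.1 (hle hx)).2 y hy) hw)
  have hrad3 : rad D L3 = Z := by
    refine le_antisymm (not_not.1 fun hne => hne3 ?_) (h.Z_le_rad L3)
    have hsup := h.sup_rad hL1 (rad_le D L3) (h.R_le_normalizer_rad L3) fun hle => hne (hle.trans (hbig L1 hL1))
    rw [sup_eq_left.2 ((hbig L1 hL1).trans (h.Z_le_rad L3))] at hsup
    exact hsup.ge
  have := h.orth_bound hL3 h3two hU hU fun x hx y hy => hZc3 (hcomm x hx y hy)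
  rwa [hrad3, ← pow_two] at this

end DData

end CfsgLib.FlavellA
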