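import Cfsg.Agent.Lib.FlavellA.DQuot

/-!
An automorphism commuting with `R` whose square centralises `D`: the image and the kernel of its commutator map.
When it fixes `Z` modulo the central part without fixing `Z`, the image has commutators and squares in the central
part, equals the kernel, and `D / Z` has order `2 ^ (4 n)`.

Blueprint: `blueprint/FlavellA.md`, flips.
-/

set_option autoImplicit false
set_option linter.unusedSectionVars false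
set_option linter.style.haveILetI false

namespace CfsgLib.FlavellA

open scoped commutatorElement

universe u

variable {X : Type u} [Group X]

/-- The displacement of `x` by `τ`. -/
def disp (τ x : X) : X := τ * x * τ⁻¹ * x⁻¹

/-- The image of the commutator map, with `Z` added. -/
def moved (D Z : Subgroup X) (τ : X) : Subgroup X :=
  Z ⊔ Subgroup.closure {v | ∃ x ∈ D, v = disp τ x}

/-- The elements fixed modulo `Z`. -/
def fixMod (D Z : Subgroup X) (τ : X) : Subgroup X := Subgroup.closure {x | x ∈ D ∧ disp τ x ∈ Z}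

/-- An automorphism commuting with `R` of order two on `D`. -/
structure InvAct (R D Z : Subgroup X) (τ : X) : Prop where
  norm : τ ∈ Subgroup.normalizer (D : Set X)
  commR : ∀ σ ∈ R, σ * τ = τ * σ
  sq : ∀ x ∈ D, x * (τ * τ) = τ * τ * x
  fixing : ∀ z ∈ Z, τ * z * τ⁻¹ ∈ Z

namespace InvAct

variable [Finite X] {R D Z Zc : Subgroup X} {r n : ℕ} {τ : X}

theorem conj_mem (hτ : InvAct R D Z τ) {x : X} (hx : x ∈ D) : τ * x * τ⁻¹ ∈ D :=
  (Subgroup.mem_normalizer_iff.1 hτ.norm x).1 hx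

theorem disp_mem (hτ : InvAct R D Z τ) {x : X} (hx : x ∈ D) : disp τ x ∈ D := mul_mem (hτ.conj_mem hx) (inv_mem hx)

theorem conj_conj (hτ : InvAct R D Z τ) {x : X} (hx : x ∈ D) : τ * (τ * x * τ⁻¹) * τ⁻¹ = x := by
  calc τ * (τ * x * τ⁻¹) * τ⁻¹ = τ * τ * x * (τ * τ)⁻¹ := by group
    _ = x := by rw [← hτ.sq x hx, mul_inv_cancel_right]

theorem disp_mul (h : DData R D Z Zc r n) (hτ : InvAct R D Z τ) {x y : X} (hx : x ∈ D) (hy : y ∈ D) :
    ∃ z ∈ Z, disp τ (x * y) = disp τ x * disp τ y * z := by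
  refine ⟨⁅(disp τ y)⁻¹, x⁆, h.comm _ (inv_mem (hτ.disp_mem hy)) x hx, ?_⟩
  simp only [disp, commutatorElement_def]
  group

theorem comm_disp (h : DData R D Z Zc r n) (hτ : InvAct R D Z τ) {x y v : X} (hx : x ∈ D) (hy : y ∈ D)
    (hv : v ∈ D) : ⁅disp τ (x * y), v⁆ = ⁅disp τ x, v⁆ * ⁅disp τ y, v⁆ := by
  obtain ⟨z, hz, e⟩ := disp_mul h hτ hx hy
  rw [e, h.comm_mul_left (mul_mem (hτ.disp_mem hx) (hτ.disp_mem hy)) (h.Z_le hz) hv,
    h.comm_mul_left (hτ.disp_mem hx) (hτ.disp_mem hy) hv,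
    (commutatorElement_eq_one_iff_mul_comm (g₁ := z) (g₂ := v)).2 (h.central z hz v hv).symm, mul_one]

theorem mem_fixMod (h : DData R D Z Zc r n) (hτ : InvAct R D Z τ) {x : X} :
    x ∈ fixMod D Z τ ↔ x ∈ D ∧ disp τ x ∈ Z := by
  refine ⟨fun hx => ?_, fun hx => Subgroup.subset_closure hx⟩
  refine Subgroup.closure_induction (fun a ha => ha) ?_ ?_ ?_ hx
  · exact ⟨one_mem D, by simp [disp]⟩
  · rintro a b - - ⟨ha, ha'⟩ ⟨hb, hb'⟩
    obtain ⟨z, hz, e⟩ := disp_mul h hτ ha hb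
    exact ⟨mul_mem ha hb, e ▸ mul_mem (mul_mem ha' hb') hz⟩
  · rintro a - ⟨ha, ha'⟩
    obtain ⟨z, hz, e⟩ := disp_mul h hτ (inv_mem ha) ha
    refine ⟨inv_mem ha, ?_⟩
    have h1 : disp τ a⁻¹ * disp τ a * z = 1 := by rw [← e, inv_mul_cancel]; simp [disp]
    have e2 : disp τ a⁻¹ = z⁻¹ * (disp τ a)⁻¹ := by
      rw [eq_inv_of_mul_eq_one_left (show disp τ a⁻¹ * (disp τ a * z) = 1 by rw [← mul_assoc]; exact h1), mul_inv_rev]
    exact e2 ▸ mul_mem (inv_mem hz) (inv_mem ha')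

theorem Z_le_fixMod (h : DData R D Z Zc r n) (hτ : InvAct R D Z τ) : Z ≤ fixMod D Z τ := fun z hz =>
  (mem_fixMod h hτ).2 ⟨h.Z_le hz, mul_mem (hτ.fixing z hz) (inv_mem hz)⟩

theorem fixMod_le (h : DData R D Z Zc r n) (hτ : InvAct R D Z τ) : fixMod D Z τ ≤ D := fun _ hx =>
  ((mem_fixMod h hτ).1 hx).1

theorem moved_le (h : DData R D Z Zc r n) (hτ : InvAct R D Z τ) : moved D Z τ ≤ D :=
  sup_le h.Z_le ((Subgroup.closure_le _).2 fun _ ⟨_, hx, e⟩ => e ▸ hτ.disp_mem hx)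

theorem mem_moved (h : DData R D Z Zc r n) (hτ : InvAct R D Z τ) {v : X} (hv : v ∈ moved D Z τ) :
    ∃ x ∈ D, ∃ z ∈ Z, v = disp τ x * z := by
  let U : Subgroup X :=
    { carrier := {v | ∃ x ∈ D, ∃ z ∈ Z, v = disp τ x * z}
      one_mem' := ⟨1, one_mem D, 1, one_mem Z, by simp [disp]⟩
      mul_mem' := by
        rintro _ _ ⟨x, hx, z, hz, rfl⟩ ⟨y, hy, w, hw, rfl⟩
        obtain ⟨c, hc, e⟩ := disp_mul h hτ hx hy
        refine ⟨x * y, mul_mem hx hy, c⁻¹ * (z * w), mul_mem (inv_mem hc) (mul_mem hz hw), ?_⟩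
        have hc1 := h.central z hz _ (hτ.disp_mem hy)
        calc disp τ x * z * (disp τ y * w) = disp τ x * (z * disp τ y) * w := by group
          _ = disp τ x * (disp τ y * z) * w := by rw [hc1]
          _ = disp τ (x * y) * (c⁻¹ * (z * w)) := by rw [e]; group
      inv_mem' := by
        rintro _ ⟨x, hx, z, hz, rfl⟩
        obtain ⟨c, hc, e⟩ := disp_mul h hτ hx (inv_mem hx)
        refine ⟨x⁻¹, inv_mem hx, c * z⁻¹, mul_mem hc (inv_mem hz), ?_⟩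
        rw [mul_inv_cancel, show disp τ 1 = 1 by simp [disp]] at e
        have h2 : disp τ x⁻¹ * c = (disp τ x)⁻¹ :=
          eq_inv_of_mul_eq_one_right (show disp τ x * (disp τ x⁻¹ * c) = 1 by rw [← mul_assoc, ← e])
        rw [← mul_assoc, h2, mul_inv_rev]
        exact (h.central z⁻¹ (inv_mem hz) _ (inv_mem (hτ.disp_mem hx))).symm }
  have hle : moved D Z τ ≤ U := sup_le (fun z hz => ⟨1, one_mem D, z, hz, by simp [disp]⟩)
    ((Subgroup.closure_le _).2 fun _ ⟨x, hx, e⟩ => ⟨x, hx, 1, one_mem Z, by rw [mul_one]; exact e⟩)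
  exact hle hv

theorem disp_mem_moved {x : X} (hx : x ∈ D) : disp τ x ∈ moved D Z τ :=
  Subgroup.mem_sup_right (Subgroup.subset_closure ⟨x, hx, rfl⟩)

theorem disp_conj (h : DData R D Z Zc r n) (hτ : InvAct R D Z τ) {σ x : X} (hσ : σ ∈ R) :
    σ * disp τ x * σ⁻¹ = disp τ (σ * x * σ⁻¹) := by
  have h1 := hτ.commR σ hσ
  calc σ * disp τ x * σ⁻¹ = (σ * τ) * x * (σ * τ)⁻¹ * (σ * x⁻¹ * σ⁻¹) := by simp only [disp]; group
    _ = (τ * σ) * x * (τ * σ)⁻¹ * (σ * x⁻¹ * σ⁻¹) := by rw [h1]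
    _ = _ := by simp only [disp]; group

theorem R_le_normalizer_moved (h : DData R D Z Zc r n) (hτ : InvAct R D Z τ) :
    R ≤ Subgroup.normalizer (moved D Z τ : Set X) := by
  have key : ∀ σ ∈ R, ∀ v ∈ moved D Z τ, σ * v * σ⁻¹ ∈ moved D Z τ := by
    intro σ hσ v hv
    obtain ⟨x, hx, z, hz, rfl⟩ := mem_moved h hτ hv
    have hzc : σ * z * σ⁻¹ = z := by rw [h.Z_centralized hz hσ]; group
    rw [show σ * (disp τ x * z) * σ⁻¹ = (σ * disp τ x * σ⁻¹) * (σ * z * σ⁻¹) by group, disp_conj h hτ hσ, hzc]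
    exact mul_mem (disp_mem_moved (h.conj_mem hσ hx)) (Subgroup.mem_sup_left hz)
  intro σ hσ
  rw [Subgroup.mem_normalizer_iff]
  refine fun v => ⟨key σ hσ v, fun hv => ?_⟩
  have := key σ⁻¹ (inv_mem hσ) _ hv
  simpa [mul_assoc] using this

theorem R_le_normalizer_fixMod (h : DData R D Z Zc r n) (hτ : InvAct R D Z τ) :
    R ≤ Subgroup.normalizer (fixMod D Z τ : Set X) := by
  have key : ∀ σ ∈ R, ∀ v ∈ fixMod D Z τ, σ * v * σ⁻¹ ∈ fixMod D Z τ := by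
    intro σ hσ v hv
    obtain ⟨hvD, hvZ⟩ := (mem_fixMod h hτ).1 hv
    refine (mem_fixMod h hτ).2 ⟨h.conj_mem hσ hvD, ?_⟩
    rw [← disp_conj h hτ hσ, h.Z_centralized hvZ hσ, mul_inv_cancel_right]
    exact hvZ
  intro σ hσ
  rw [Subgroup.mem_normalizer_iff]
  refine fun v => ⟨key σ hσ v, fun hv => ?_⟩
  have := key σ⁻¹ (inv_mem hσ) _ hv
  simpa [mul_assoc] using this

theorem disp_disp (h : DData R D Z Zc r n) (hτ : InvAct R D Z τ) {x : X} (hx : x ∈ D) :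
    disp τ (disp τ x) ∈ Z := by
  have he := hτ.disp_mem hx
  have e : τ * disp τ x * τ⁻¹ = (disp τ x)⁻¹ := by
    calc τ * disp τ x * τ⁻¹ = τ * (τ * x * τ⁻¹) * τ⁻¹ * (τ * x * τ⁻¹)⁻¹ := by simp only [disp]; group
      _ = x * (τ * x * τ⁻¹)⁻¹ := by rw [hτ.conj_conj hx]
      _ = (disp τ x)⁻¹ := by simp only [disp]; group
  show τ * disp τ x * τ⁻¹ * (disp τ x)⁻¹ ∈ Z
  rw [e, ← mul_inv_rev]
  exact inv_mem (h.sq _ he)

theorem moved_le_fixMod (h : DData R D Z Zc r n) (hτ : InvAct R D Z τ) : moved D Z τ ≤ fixMod D Z τ :=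
  sup_le (Z_le_fixMod h hτ) ((Subgroup.closure_le _).2 fun _ ⟨_, hx, e⟩ =>
    e ▸ (mem_fixMod h hτ).2 ⟨hτ.disp_mem hx, disp_disp h hτ hx⟩)

/-- The commutator map gives `D / fixMod ≅ moved / Z`. -/
theorem relIndex_moved (h : DData R D Z Zc r n) (hτ : InvAct R D Z τ) :
    Z.relIndex (moved D Z τ) = (fixMod D Z τ).relIndex D := by
  set E := moved D Z τ with hE
  haveI : (Z.subgroupOf E).Normal := ⟨fun z hz g => by
    rw [Subgroup.mem_subgroupOf] at hz ⊢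
    show (g : X) * z * (g : X)⁻¹ ∈ Z
    rw [h.central z hz g (moved_le h hτ g.2), mul_inv_cancel_right]
    exact hz⟩
  let Φ : D →* E ⧸ Z.subgroupOf E :=
    MonoidHom.mk' (fun x => QuotientGroup.mk (⟨disp τ x, disp_mem_moved x.2⟩ : E)) fun x y => by
      obtain ⟨z, hz, e⟩ := disp_mul h hτ x.2 y.2
      rw [← QuotientGroup.mk_mul, QuotientGroup.eq, Subgroup.mem_subgroupOf]
      show (disp τ ((x : X) * y))⁻¹ * (disp τ x * disp τ y) ∈ Z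
      rw [e, show (disp τ x * disp τ y * z)⁻¹ * (disp τ x * disp τ y) = z⁻¹ by group]
      exact inv_mem hz
  have hsurj : Function.Surjective Φ := fun q => QuotientGroup.induction_on q fun v => by
    obtain ⟨x, hx, z, hz, e⟩ := mem_moved h hτ v.2
    refine ⟨⟨x, hx⟩, QuotientGroup.eq.2 ?_⟩
    rw [Subgroup.mem_subgroupOf]
    show (disp τ x)⁻¹ * (v : X) ∈ Z
    rw [e, inv_mul_cancel_left]
    exact hz
  have hker : Φ.ker = (fixMod D Z τ).subgroupOf D := by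
    ext x
    rw [MonoidHom.mem_ker, Subgroup.mem_subgroupOf, mem_fixMod h hτ]
    show QuotientGroup.mk (⟨disp τ x, _⟩ : E) = 1 ↔ _
    rw [QuotientGroup.eq_one_iff, Subgroup.mem_subgroupOf]
    exact ⟨fun hh => ⟨x.2, hh⟩, fun hh => hh.2⟩
  rw [Subgroup.relIndex, Subgroup.relIndex, ← hker, Subgroup.index_ker, MonoidHom.range_eq_top.2 hsurj,
    Subgroup.card_top, Subgroup.index_eq_card]

theorem centralizes_of_fixMod_eq (h : DData R D Z Zc r n) (hτ : InvAct R D Z τ) (he : D ≤ fixMod D Z τ) :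
    ∀ x ∈ D, x * τ = τ * x :=
  h.centralizes_of_comm hτ.commR fun x hx => ((mem_fixMod h hτ).1 (he hx)).2

theorem moved_ne (h : DData R D Z Zc r n) (hτ : InvAct R D Z τ) (hne : ∃ x ∈ D, x * τ ≠ τ * x) :
    ¬ moved D Z τ ≤ Z := by
  intro hle
  obtain ⟨x, hx, hx'⟩ := hne
  exact hx' (centralizes_of_fixMod_eq h hτ (fun y hy => (mem_fixMod h hτ).2 ⟨hy, hle (disp_mem_moved hy)⟩) x hx)

theorem two_pow_le_moved (h : DData R D Z Zc r n) (hτ : InvAct R D Z τ) (hne : ∃ x ∈ D, x * τ ≠ τ * x) :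
    2 ^ (2 * n) ≤ Z.relIndex (moved D Z τ) :=
  h.le_relIndex le_rfl le_sup_left (moved_le h hτ) (fun σ hσ => Subgroup.mem_normalizer_iff.2 fun z =>
    ⟨fun hz => by rw [h.Z_centralized hz hσ, mul_inv_cancel_right]; exact hz, fun hz => by
      have e := h.Z_centralized hz hσ
      have e2 : σ * z = z * σ := by
        have := congrArg (fun v => σ⁻¹ * v * σ) (show σ * (σ * z * σ⁻¹) = σ * z * σ⁻¹ * σ from e)
        simpa [mul_assoc] using this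
      rwa [e2, mul_inv_cancel_right] at hz⟩)
    (R_le_normalizer_moved h hτ) fun e => moved_ne h hτ hne e.ge

/-- When `|D / Z| ≤ 2 ^ (4 n)`, fixed elements modulo `Z` are displacements. -/
theorem fixMod_eq_moved (h : DData R D Z Zc r n) (hτ : InvAct R D Z τ) (hne : ∃ x ∈ D, x * τ ≠ τ * x)
    (hD : Z.relIndex D ≤ 2 ^ (4 * n)) : fixMod D Z τ = moved D Z τ := by
  refine (le_antisymm (moved_le_fixMod h hτ) ?_).symm
  have h1 := two_pow_le_moved h hτ hne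
  have h2 := Subgroup.relIndex_mul_relIndex Z (fixMod D Z τ) D (Z_le_fixMod h hτ) (fixMod_le h hτ)
  have h3 := Subgroup.relIndex_mul_relIndex Z (moved D Z τ) (fixMod D Z τ) le_sup_left (moved_le_fixMod h hτ)
  rw [relIndex_moved h hτ] at h1
  refine Subgroup.relIndex_eq_one.1 ?_
  set a := (moved D Z τ).relIndex (fixMod D Z τ)
  have hapos : 0 < a := Nat.pos_of_ne_zero Subgroup.index_ne_zero_of_finite
  rw [relIndex_moved h hτ] at h3
  set b := (fixMod D Z τ).relIndex D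
  rw [← h3] at h2
  have h4 : b * a * b ≤ 2 ^ (2 * n) * 2 ^ (2 * n) := by
    rw [h2, ← pow_add]
    exact hD.trans (Nat.pow_le_pow_right two_pos (by omega))
  by_contra ha1
  have h5 : 2 ^ (2 * n) * 2 * 2 ^ (2 * n) ≤ b * a * b := Nat.mul_le_mul (Nat.mul_le_mul h1 (by omega)) h1
  have := Nat.two_pow_pos (2 * n)
  nlinarith

variable (hz : ∀ z ∈ Z, disp τ z ∈ Zc)
include hz

theorem conj_cong (h : DData R D Z Zc r n) (hτ : InvAct R D Z τ) {x y : X} (hx : x ∈ D) (hy : y ∈ D) :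
    ⁅τ * x * τ⁻¹, y⁆ * ⁅x, τ * y * τ⁻¹⁆ ∈ Zc := by
  have h1 := hz _ (h.comm _ (hτ.conj_mem hx) y hy)
  have e : τ * ⁅τ * x * τ⁻¹, y⁆ * τ⁻¹ = ⁅x, τ * y * τ⁻¹⁆ := by
    rw [show τ * ⁅τ * x * τ⁻¹, y⁆ * τ⁻¹ = ⁅τ * (τ * x * τ⁻¹) * τ⁻¹, τ * y * τ⁻¹⁆ by
      simp only [commutatorElement_def]; group, hτ.conj_conj hx]
  simp only [disp] at h1
  rw [e, inv_eq_of_mul_eq_one_right (h.sq_one _ (h.comm _ (hτ.conj_mem hx) y hy))] at h1
  have hcz := h.central _ (h.comm x hx _ (hτ.conj_mem hy)) _ (h.Z_le (h.comm _ (hτ.conj_mem hx) y hy))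
  rwa [hcz]

/-- The commutator of a displacement with an element is symmetric modulo the central part. -/
theorem disp_symm (h : DData R D Z Zc r n) (hτ : InvAct R D Z τ) {x y : X} (hx : x ∈ D) (hy : y ∈ D) :
    ⁅disp τ x, y⁆ * ⁅disp τ y, x⁆ ∈ Zc := by
  have h1 := conj_cong hz h hτ hx hy
  have hd : ∀ {a b : X}, a ∈ D → b ∈ D → ⁅disp τ a, b⁆ = ⁅τ * a * τ⁻¹, b⁆ * ⁅a, b⁆ := fun ha hb => by
    rw [disp, h.comm_mul_left (hτ.conj_mem ha) (inv_mem ha) hb, h.comm_inv_left ha hb,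
      inv_eq_of_mul_eq_one_right (h.sq_one _ (h.comm _ ha _ hb))]
  rw [hd hx hy, hd hy hx, h.comm_symm hy hx, h.comm_symm (hτ.conj_mem hy) hx]
  have hc := h.comm x hx y hy
  have hcz := h.central _ hc _ (h.Z_le (h.comm x hx _ (hτ.conj_mem hy)))
  have ecalc : ⁅τ * x * τ⁻¹, y⁆ * ⁅x, y⁆ * (⁅x, τ * y * τ⁻¹⁆ * ⁅x, y⁆) =
      ⁅τ * x * τ⁻¹, y⁆ * ⁅x, τ * y * τ⁻¹⁆ := by
    calc ⁅τ * x * τ⁻¹, y⁆ * ⁅x, y⁆ * (⁅x, τ * y * τ⁻¹⁆ * ⁅x, y⁆)
        = ⁅τ * x * τ⁻¹, y⁆ * ⁅x, y⁆ * (⁅x, y⁆ * ⁅x, τ * y * τ⁻¹⁆) := by rw [hcz]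
      _ = ⁅τ * x * τ⁻¹, y⁆ * (⁅x, y⁆ * ⁅x, y⁆) * ⁅x, τ * y * τ⁻¹⁆ := by group
      _ = ⁅τ * x * τ⁻¹, y⁆ * ⁅x, τ * y * τ⁻¹⁆ := by rw [h.sq_one _ hc, mul_one]
  rw [ecalc]
  exact h1

/-- Displacements commute modulo the central part. -/
theorem moved_comm (h : DData R D Z Zc r n) (hτ : InvAct R D Z τ) :
    ∀ u ∈ moved D Z τ, ∀ v ∈ moved D Z τ, ⁅u, v⁆ ∈ Zc := by
  intro u hu v hv
  obtain ⟨x, hx, z, hz', rfl⟩ := mem_moved h hτ hu
  obtain ⟨y, hy, w, hw, rfl⟩ := mem_moved h hτ hv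
  have hzc : ∀ {c a : X}, c ∈ Z → a ∈ D → ⁅c, a⁆ = 1 := fun hc ha =>
    commutatorElement_eq_one_iff_mul_comm.2 (h.central _ hc _ ha).symm
  have hac : ∀ {c a : X}, c ∈ Z → a ∈ D → ⁅a, c⁆ = 1 := fun hc ha =>
    commutatorElement_eq_one_iff_mul_comm.2 (h.central _ hc _ ha)
  rw [h.comm_mul_left (hτ.disp_mem hx) (h.Z_le hz') (mul_mem (hτ.disp_mem hy) (h.Z_le hw)),
    hzc hz' (mul_mem (hτ.disp_mem hy) (h.Z_le hw)), mul_one,
    h.comm_mul_right (hτ.disp_mem hx) (hτ.disp_mem hy) (h.Z_le hw), hac hw (hτ.disp_mem hx), mul_one]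
  have hx' := hτ.conj_mem hx
  have hy' := hτ.conj_mem hy
  have h1 := conj_cong hz h hτ hx hy
  have h2 := hz _ (h.comm x hx y hy)
  have e : τ * ⁅x, y⁆ * τ⁻¹ = ⁅τ * x * τ⁻¹, τ * y * τ⁻¹⁆ := by simp only [commutatorElement_def]; group
  simp only [disp] at h2 ⊢
  rw [e] at h2
  rw [h.comm_mul_left hx' (inv_mem hx) (mul_mem hy' (inv_mem hy)), h.comm_inv_left hx (mul_mem hy' (inv_mem hy)),
    h.comm_mul_right hx' hy' (inv_mem hy), h.comm_mul_right hx hy' (inv_mem hy)]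
  have hinv : ∀ {a b : X}, a ∈ D → b ∈ D → ⁅a, b⁻¹⁆ = ⁅a, b⁆ := fun ha hb => by
    rw [h.comm_symm ha (inv_mem hb), h.comm_inv_left hb ha, h.comm_symm hb ha,
      inv_eq_of_mul_eq_one_right (h.sq_one _ (h.comm _ ha _ hb))]
  rw [hinv hx' hy, hinv hx hy, inv_eq_of_mul_eq_one_right (h.sq_one _ (mul_mem (h.comm x hx _ hy') (h.comm x hx y hy)))]
  rw [inv_eq_of_mul_eq_one_right (h.sq_one _ (h.comm x hx y hy))] at h2
  have hc := h.comm x hx y hy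
  have hq := mul_mem (h.comm _ hx' y hy) (h.comm x hx _ hy')
  have ecalc : ⁅τ * x * τ⁻¹, τ * y * τ⁻¹⁆ * ⁅τ * x * τ⁻¹, y⁆ * (⁅x, τ * y * τ⁻¹⁆ * ⁅x, y⁆) =
      ⁅τ * x * τ⁻¹, τ * y * τ⁻¹⁆ * ⁅x, y⁆ * (⁅τ * x * τ⁻¹, y⁆ * ⁅x, τ * y * τ⁻¹⁆) := by
    calc ⁅τ * x * τ⁻¹, τ * y * τ⁻¹⁆ * ⁅τ * x * τ⁻¹, y⁆ * (⁅x, τ * y * τ⁻¹⁆ * ⁅x, y⁆)
        = ⁅τ * x * τ⁻¹, τ * y * τ⁻¹⁆ * (⁅τ * x * τ⁻¹, y⁆ * ⁅x, τ * y * τ⁻¹⁆ * ⁅x, y⁆) := by group
      _ = ⁅τ * x * τ⁻¹, τ * y * τ⁻¹⁆ * (⁅x, y⁆ * (⁅τ * x * τ⁻¹, y⁆ * ⁅x, τ * y * τ⁻¹⁆)) := by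
          rw [h.central _ hc _ (h.Z_le hq)]
      _ = ⁅τ * x * τ⁻¹, τ * y * τ⁻¹⁆ * ⁅x, y⁆ * (⁅τ * x * τ⁻¹, y⁆ * ⁅x, τ * y * τ⁻¹⁆) := by group
  rw [ecalc]
  exact mul_mem h2 h1

/-- Displacements square into the central part. -/
theorem moved_sq (h : DData R D Z Zc r n) (hτ : InvAct R D Z τ) :
    ∀ u ∈ moved D Z τ, u * u ∈ Zc := by
  have hδ : ∀ x ∈ D, ⁅τ * x * τ⁻¹, x⁆ ∈ Zc := by
    let U : Subgroup X :=
      { carrier := {x | x ∈ D ∧ ⁅τ * x * τ⁻¹, x⁆ ∈ Zc}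
        one_mem' := ⟨one_mem D, by simp⟩
        mul_mem' := by
          rintro a b ⟨ha, ha'⟩ ⟨hb, hb'⟩
          refine ⟨mul_mem ha hb, ?_⟩
          have ha1 := hτ.conj_mem ha
          have hb1 := hτ.conj_mem hb
          rw [show τ * (a * b) * τ⁻¹ = τ * a * τ⁻¹ * (τ * b * τ⁻¹) by group,
            h.comm_mul_left ha1 hb1 (mul_mem ha hb), h.comm_mul_right ha1 ha hb, h.comm_mul_right hb1 ha hb]
          have hcr := conj_cong hz h hτ ha hb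
          rw [h.comm_symm hb1 ha]
          have := mul_mem (mul_mem ha' hcr) hb'
          simpa [mul_assoc] using this
        inv_mem' := by
          rintro a ⟨ha, ha'⟩
          refine ⟨inv_mem ha, ?_⟩
          have ha1 := hτ.conj_mem ha
          rw [show τ * a⁻¹ * τ⁻¹ = (τ * a * τ⁻¹)⁻¹ by group, h.comm_inv_left ha1 (inv_mem ha),
            h.comm_symm ha1 (inv_mem ha), h.comm_inv_left ha ha1, inv_inv, h.comm_symm ha ha1]
          exact ha' }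
    have hle : ⁅D, R⁆ ≤ U := by
      rw [Subgroup.commutator_le]
      intro x hx σ hσ
      set y := σ * x⁻¹ * σ⁻¹ with hy0
      have hy : y ∈ D := h.conj_mem hσ (inv_mem hx)
      rw [show ⁅x, σ⁆ = x * y by rw [hy0, commutatorElement_def]; group]
      refine ⟨mul_mem hx hy, ?_⟩
      have hx1 := hτ.conj_mem hx
      have hy1 := hτ.conj_mem hy
      rw [show τ * (x * y) * τ⁻¹ = τ * x * τ⁻¹ * (τ * y * τ⁻¹) by group,
        h.comm_mul_left hx1 hy1 (mul_mem hx hy), h.comm_mul_right hx1 hx hy, h.comm_mul_right hy1 hx hy,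
        h.comm_symm hy1 hx]
      have e : ⁅τ * y * τ⁻¹, y⁆ = ⁅τ * x * τ⁻¹, x⁆ := by
        have e1 : τ * y * τ⁻¹ = σ * (τ * x⁻¹ * τ⁻¹) * σ⁻¹ := by
          rw [hy0]
          calc τ * (σ * x⁻¹ * σ⁻¹) * τ⁻¹ = (τ * σ) * x⁻¹ * (τ * σ)⁻¹ := by group
            _ = (σ * τ) * x⁻¹ * (σ * τ)⁻¹ := by rw [hτ.commR σ hσ]
            _ = _ := by group
        rw [e1, hy0, h.conj_comm hσ (hτ.conj_mem (inv_mem hx)) (inv_mem hx),
          show τ * x⁻¹ * τ⁻¹ = (τ * x * τ⁻¹)⁻¹ by group, h.comm_inv_left hx1 (inv_mem hx),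
          h.comm_symm hx1 (inv_mem hx), h.comm_inv_left hx hx1, inv_inv, h.comm_symm hx hx1]
      rw [e]
      have hc := h.comm _ hx1 x hx
      have hp := h.comm _ hx1 y hy
      have hq := h.comm x hx _ hy1
      have ecalc : ⁅τ * x * τ⁻¹, x⁆ * ⁅τ * x * τ⁻¹, y⁆ * (⁅x, τ * y * τ⁻¹⁆ * ⁅τ * x * τ⁻¹, x⁆) =
          (⁅τ * x * τ⁻¹, x⁆ * ⁅τ * x * τ⁻¹, x⁆) * (⁅τ * x * τ⁻¹, y⁆ * ⁅x, τ * y * τ⁻¹⁆) := by
        calc ⁅τ * x * τ⁻¹, x⁆ * ⁅τ * x * τ⁻¹, y⁆ * (⁅x, τ * y * τ⁻¹⁆ * ⁅τ * x * τ⁻¹, x⁆)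
            = ⁅τ * x * τ⁻¹, x⁆ * ((⁅τ * x * τ⁻¹, y⁆ * ⁅x, τ * y * τ⁻¹⁆) * ⁅τ * x * τ⁻¹, x⁆) := by group
          _ = ⁅τ * x * τ⁻¹, x⁆ * (⁅τ * x * τ⁻¹, x⁆ * (⁅τ * x * τ⁻¹, y⁆ * ⁅x, τ * y * τ⁻¹⁆)) := by
              rw [h.central _ hc _ (h.Z_le (mul_mem hp hq))]
          _ = (⁅τ * x * τ⁻¹, x⁆ * ⁅τ * x * τ⁻¹, x⁆) * (⁅τ * x * τ⁻¹, y⁆ * ⁅x, τ * y * τ⁻¹⁆) := by group
      rw [ecalc]
      exact (by rw [h.sq_one _ hc, one_mul]; exact conj_cong hz h hτ hx hy)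
    exact fun x hx => (hle (h.gen.ge hx)).2
  intro u hu
  obtain ⟨x, hx, z, hz', rfl⟩ := mem_moved h hτ hu
  have he := hτ.disp_mem hx
  have hx1 := hτ.conj_mem hx
  have hsq : disp τ x * z * (disp τ x * z) = disp τ x * disp τ x := by
    calc disp τ x * z * (disp τ x * z) = disp τ x * (z * disp τ x) * z := by group
      _ = disp τ x * (disp τ x * z) * z := by rw [h.central z hz' _ he]
      _ = disp τ x * disp τ x * (z * z) := by group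
      _ = disp τ x * disp τ x := by rw [h.sq_one z hz', mul_one]
  rw [hsq]
  have h1 := hz _ (h.sq x hx)
  simp only [disp] at h1 ⊢
  rw [h.sq_mul hx1 (inv_mem hx), show τ * x * τ⁻¹ * (τ * x * τ⁻¹) * (x⁻¹ * x⁻¹) =
    τ * (x * x) * τ⁻¹ * (x * x)⁻¹ by group]
  refine mul_mem h1 ?_
  rw [h.comm_symm hx1 (inv_mem hx), h.comm_inv_left hx hx1, h.comm_symm hx hx1]
  exact inv_mem (hδ x hx)

/-- The size of `D / Z` when a nontrivial displacement subgroup is small. -/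
theorem relIndex_moved_eq (h : DData R D Z Zc r n) (hτ : InvAct R D Z τ) (hne : ∃ x ∈ D, x * τ ≠ τ * x) :
    Z.relIndex (moved D Z τ) = 2 ^ (2 * n) ∧ fixMod D Z τ = moved D Z τ ∧ Z.relIndex D = 2 ^ (4 * n) := by
  have hU := moved_le h hτ
  have hRU := R_le_normalizer_moved h hτ
  have hc := moved_comm hz h hτ
  have hne' := moved_ne h hτ hne
  obtain ⟨x, hx, hxZ⟩ := SetLike.not_le_iff_exists.1 hne'
  obtain ⟨L, hL, hxL⟩ : ∃ L, IsCons D Z Zc n L ∧ x ∉ rad D L := by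
    by_contra hno
    push Not at hno
    exact hxZ (h.mem_Z_of_rad (hU hx) hno)
  have heq : Z.relIndex (moved D Z τ) = 2 ^ (2 * n) := by
    have e := h.rad_relIndex_eq hL hU le_sup_left hRU fun hle => hxL (hle hx)
    rw [← Subgroup.inf_relIndex_right, inf_comm] at e
    have h1 : moved D Z τ ⊓ rad D L = Z :=
      le_antisymm (h.small_inf_rad hU hRU hc hL) (le_inf le_sup_left (h.Z_le_rad L))
    rw [h1] at e
    exact e
  have hfix : fixMod D Z τ = moved D Z τ := by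
    refine le_antisymm (fun y hy => ?_) (moved_le_fixMod h hτ)
    obtain ⟨hyD, hy'⟩ := (mem_fixMod h hτ).1 hy
    refine h.mem_small hU le_sup_left hRU hc hne' hyD fun u hu => ?_
    obtain ⟨v, hv, z, hz', rfl⟩ := mem_moved h hτ hu
    rw [h.comm_mul_right hyD (hτ.disp_mem hv) (h.Z_le hz'),
      (commutatorElement_eq_one_iff_mul_comm (g₁ := y) (g₂ := z)).2 (h.central z hz' y hyD), mul_one,
      h.comm_symm hyD (hτ.disp_mem hv)]
    have h1 := disp_symm hz h hτ hv hyD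
    rwa [(commutatorElement_eq_one_iff_mul_comm (g₁ := disp τ y) (g₂ := v)).2 (h.central _ hy' v hv).symm,
      mul_one] at h1
  refine ⟨heq, hfix, ?_⟩
  have h2 := Subgroup.relIndex_mul_relIndex Z (fixMod D Z τ) D (Z_le_fixMod h hτ) (fixMod_le h hτ)
  rw [← relIndex_moved h hτ, hfix, heq, ← pow_add] at h2
  rw [← h2]
  congr 1
  omega

end InvAct

end CfsgLib.FlavellA
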