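import Cfsg.Agent.Lib.FlavellA.DForms

/-!
Automorphisms of `D` commuting with `R`: those fixing `Z` centralise `D`.  The quotient of `D` by an invariant
subgroup of index `2 ^ (2 n)` as an irreducible module.

Blueprint: `blueprint/FlavellA.md`, section 0.
-/

set_option autoImplicit false
set_option linter.unusedSectionVars false
set_option linter.style.haveILetI false

namespace CfsgLib.FlavellA

open scoped commutatorElement

universe u

variable {X : Type u} [Group X]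

namespace DData

variable [Finite X] {R D Z Zc : Subgroup X} {r n : ℕ} (h : DData R D Z Zc r n)
include h

/-- A generator of `R` and its properties. -/
theorem exists_gen : ∃ ρ ∈ R, Subgroup.zpowers ρ = R ∧ ρ ^ r = 1 := by
  haveI : Fact r.Prime := ⟨h.rprime⟩
  haveI : IsCyclic R := isCyclic_of_prime_card h.cardR
  obtain ⟨⟨ρ, hρ⟩, hgen⟩ := IsCyclic.exists_generator (α := R)
  refine ⟨ρ, hρ, le_antisymm (Subgroup.zpowers_le.2 hρ) fun x hx => ?_, ?_⟩
  · obtain ⟨k, hk⟩ := Subgroup.mem_zpowers_iff.1 (hgen ⟨x, hx⟩)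
    exact Subgroup.mem_zpowers_iff.2 ⟨k, congrArg Subtype.val hk⟩
  · have := pow_card_eq_one' (G := R) (x := ⟨ρ, hρ⟩)
    rw [h.cardR] at this
    exact congrArg Subtype.val this

/-- The quotient by an invariant subgroup of index `2 ^ (2 n)` as an irreducible module with the action of a
generator of `R`. -/
theorem exists_space {N : Subgroup X} (hZN : Z ≤ N) (hND : N ≤ D) (hRN : R ≤ Subgroup.normalizer (N : Set X))
    (hidx : N.relIndex D = 2 ^ (2 * n)) {ρ : X} (hρ : ρ ∈ R) (hgen : Subgroup.zpowers ρ = R) (hρr : ρ ^ r = 1) :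
    ∃ (A : Type u) (_ : AddCommGroup A) (_ : Module (ZMod 2) A) (_ : FiniteDimensional (ZMod 2) A) (π : D → A)
      (f : Module.End (ZMod 2) A), Function.Surjective π ∧ (∀ x y : D, π (x * y) = π x + π y) ∧
      (∀ x : D, π x = 0 ↔ (x : X) ∈ N) ∧ (∀ x : D, f (π x) = π ⟨ρ * x * ρ⁻¹, h.conj_mem hρ x.2⟩) ∧
      IsIrred f ∧ f ^ r = 1 ∧ Module.finrank (ZMod 2) A ≤ 2 * n ∧
      (∀ β : D →* D →* Two, (∀ x y : D, (x : X) ∈ N → β x y = 1 ∧ β y x = 1) →
        ∃ B : A →ₗ[ZMod 2] A →ₗ[ZMod 2] ZMod 2, ∀ x y : D, B (π x) (π y) = Multiplicative.toAdd (β x y)) ∧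
      (∀ φ : D → D, (∀ x y : D, π (φ (x * y)) = π (φ x) + π (φ y)) → (∀ x : D, (x : X) ∈ N → π (φ x) = 0) →
        ∃ Y : Module.End (ZMod 2) A, ∀ x : D, Y (π x) = π (φ x)) := by
  classical
  haveI : Fact (Nat.Prime 2) := ⟨Nat.prime_two⟩
  haveI : (N.subgroupOf D).Normal := ⟨fun x hx g => by
    rw [Subgroup.mem_subgroupOf] at hx ⊢
    rw [show ((g * x * g⁻¹ : D) : X) = ⁅(g : X), (x : X)⁆ * x by
      simp only [commutatorElement_def, Subgroup.coe_mul, InvMemClass.coe_inv]; group]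
    exact mul_mem (hZN (h.comm g g.2 x x.2)) hx⟩
  set Q := D ⧸ N.subgroupOf D
  letI : CommGroup Q :=
    { mul_comm := fun a b => QuotientGroup.induction_on a fun x => QuotientGroup.induction_on b fun y => by
        rw [← QuotientGroup.mk_mul, ← QuotientGroup.mk_mul, QuotientGroup.eq, Subgroup.mem_subgroupOf]
        refine hZN ?_
        rw [show (((x * y)⁻¹ * (y * x) : D) : X) = ⁅((y : X))⁻¹, ((x : X))⁻¹⁆ by
          simp only [commutatorElement_def, Subgroup.coe_mul, InvMemClass.coe_inv]; group]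
        exact h.comm _ (inv_mem y.2) _ (inv_mem x.2) }
  have h2 : ∀ a : Additive Q, 2 • a = 0 := fun a => by
    rw [two_nsmul]
    refine QuotientGroup.induction_on (C := fun q => Additive.ofMul q + Additive.ofMul q = (0 : Additive Q))
      a.toMul fun x => ?_
    show Additive.ofMul (QuotientGroup.mk (x * x) : Q) = 0
    rw [(QuotientGroup.eq_one_iff _).2 (by rw [Subgroup.mem_subgroupOf]; exact hZN (h.sq x x.2))]
    rfl
  letI : Module (ZMod 2) (Additive Q) := AddCommGroup.zmodModule (n := 2) (G := Additive Q) h2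
  haveI : Module.Finite (ZMod 2) (Additive Q) := Module.Finite.of_finite
  let π : D → Additive Q := fun x => Additive.ofMul (QuotientGroup.mk x)
  have hsurj : Function.Surjective π := fun a => by
    obtain ⟨x, hx⟩ := QuotientGroup.mk_surjective a.toMul
    exact ⟨x, congrArg Additive.ofMul hx⟩
  have hπmul : ∀ x y : D, π (x * y) = π x + π y := fun x y => rfl
  have hπ0 : ∀ x : D, π x = 0 ↔ (x : X) ∈ N := fun x => by
    rw [← Subgroup.mem_subgroupOf, ← QuotientGroup.eq_one_iff x]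
    exact Iff.rfl
  have lift : ∀ {C : Type u} [AddCommGroup C] [Module (ZMod 2) C] (g : D → C), (∀ x y, g (x * y) = g x + g y) →
      (∀ x : D, (x : X) ∈ N → g x = 0) → ∃ G : Additive Q →ₗ[ZMod 2] C, ∀ x, G (π x) = g x := by
    intro C _ _ g hg hN
    let g' : D →* Multiplicative C := MonoidHom.mk' (fun x => Multiplicative.ofAdd (g x)) fun x y => by
      rw [hg]; rfl
    let G' : Q →* Multiplicative C := QuotientGroup.lift _ g' fun x hx => congrArg Multiplicative.ofAdd (hN x hx)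
    exact ⟨AddMonoidHom.toZModLinearMap 2 (MonoidHom.toAdditiveLeft G'), fun x => rfl⟩
  have hρN : ∀ x : D, (x : X) ∈ N → ρ * x * ρ⁻¹ ∈ N := fun x hx =>
    (Subgroup.mem_normalizer_iff.1 (hRN hρ) x).1 hx
  obtain ⟨f, hf⟩ := lift (fun x => π ⟨ρ * x * ρ⁻¹, h.conj_mem hρ x.2⟩)
    (fun x y => by
      rw [← hπmul]
      congr 1
      exact Subtype.ext (show ρ * ((x : X) * y) * ρ⁻¹ = ρ * x * ρ⁻¹ * (ρ * y * ρ⁻¹) by group))
    (fun x hx => (hπ0 _).2 (hρN x hx))
  have hfpow : ∀ (i : ℕ) (x : D) (hx : ρ ^ i * x * (ρ ^ i)⁻¹ ∈ D),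
      (f ^ i) (π x) = π ⟨ρ ^ i * x * (ρ ^ i)⁻¹, hx⟩ := by
    intro i
    induction i with
    | zero =>
      intro x hx
      rw [pow_zero, Module.End.one_apply]
      congr 1
      exact Subtype.ext (by simp)
    | succ i ih =>
      intro x hx
      have hx' : ρ ^ i * x * (ρ ^ i)⁻¹ ∈ D := h.conj_mem (pow_mem hρ i) x.2
      rw [pow_succ', Module.End.mul_apply, ih x hx', hf]
      congr 1
      refine Subtype.ext ?_
      show ρ * (ρ ^ i * x * (ρ ^ i)⁻¹) * ρ⁻¹ = ρ ^ (i + 1) * x * (ρ ^ (i + 1))⁻¹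
      rw [pow_succ']
      group
  have hcard : Nat.card (Additive Q) = 2 ^ (2 * n) := by rw [← hidx]; rfl
  refine ⟨Additive Q, inferInstance, inferInstance, inferInstance, π, f, hsurj, hπmul, hπ0, hf, ?_, ?_, ?_, ?_, ?_⟩
  · intro W hW
    let U : Subgroup X :=
      { carrier := {x | ∃ hx : x ∈ D, π ⟨x, hx⟩ ∈ W}
        one_mem' := ⟨one_mem D, by
          rw [(hπ0 ⟨1, one_mem D⟩).2 (one_mem N)]
          exact W.zero_mem⟩
        mul_mem' := fun {a b} ⟨ha, ha'⟩ ⟨hb, hb'⟩ => ⟨mul_mem ha hb, by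
          rw [show (⟨a * b, mul_mem ha hb⟩ : D) = ⟨a, ha⟩ * ⟨b, hb⟩ from rfl, hπmul]
          exact W.add_mem ha' hb'⟩
        inv_mem' := fun {a} ⟨ha, ha'⟩ => ⟨inv_mem ha, by
          have e : π ⟨a⁻¹, inv_mem ha⟩ + π ⟨a, ha⟩ = 0 := by
            rw [← hπmul, (hπ0 _).2]
            show a⁻¹ * a ∈ N
            rw [inv_mul_cancel]
            exact one_mem N
          rw [eq_neg_of_add_eq_zero_left e]
          exact W.neg_mem ha'⟩ }
    have hUD : U ≤ D := fun x ⟨hx, _⟩ => hx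
    have hNU : N ≤ U := fun x hx => ⟨hND hx, by rw [(hπ0 ⟨x, hND hx⟩).2 hx]; exact W.zero_mem⟩
    have hWpow : ∀ (i : ℕ), ∀ a ∈ W, (f ^ i) a ∈ W := by
      intro i
      induction i with
      | zero => intro a ha; simpa using ha
      | succ i ih => intro a ha; rw [pow_succ', Module.End.mul_apply]; exact hW _ (ih a ha)
    have hRU : R ≤ Subgroup.normalizer (U : Set X) := by
      have key : ∀ σ ∈ R, ∀ x ∈ U, σ * x * σ⁻¹ ∈ U := by
        intro σ hσ x ⟨hx, hx'⟩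
        rw [← hgen] at hσ
        obtain ⟨i, rfl⟩ := (isOfFinOrder_of_finite ρ).mem_powers_iff_mem_zpowers.2 hσ
        refine ⟨h.conj_mem (pow_mem hρ i) hx, ?_⟩
        rw [← hfpow i ⟨x, hx⟩]
        exact hWpow i _ hx'
      intro σ hσ
      rw [Subgroup.mem_normalizer_iff]
      refine fun x => ⟨key σ hσ x, fun hx => ?_⟩
      have := key σ⁻¹ (inv_mem hσ) _ hx
      simpa [mul_assoc] using this
    have hmemW : ∀ x : D, π x ∈ W ↔ (x : X) ∈ U := fun x => ⟨fun hx => ⟨x.2, hx⟩, fun ⟨_, hx⟩ => hx⟩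
    by_cases hNe : U = N
    · refine Or.inl ((Submodule.eq_bot_iff _).2 fun a ha => ?_)
      obtain ⟨x, rfl⟩ := hsurj a
      exact (hπ0 x).2 (hNe.le ((hmemW x).1 ha))
    · refine Or.inr (Submodule.eq_top_iff'.2 fun a => ?_)
      obtain ⟨x, rfl⟩ := hsurj a
      refine (hmemW x).2 ?_
      have h1 := h.le_relIndex hZN hNU hUD hRN hRU (Ne.symm hNe)
      have h2 := Subgroup.relIndex_mul_relIndex N U D hNU hUD
      rw [hidx] at h2
      have hpos : 0 < U.relIndex D := Nat.pos_of_ne_zero Subgroup.index_ne_zero_of_finite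
      have h3 : U.relIndex D = 1 := by
        by_contra hne1
        have h4 : 2 ^ (2 * n) * 2 ≤ N.relIndex U * U.relIndex D := Nat.mul_le_mul h1 (by omega)
        have := Nat.two_pow_pos (2 * n)
        omega
      exact Subgroup.relIndex_eq_one.1 h3 x.2
  · refine LinearMap.ext fun a => ?_
    obtain ⟨x, rfl⟩ := hsurj a
    rw [hfpow r x (by rw [hρr]; simp), Module.End.one_apply]
    congr 1
    exact Subtype.ext (by simp [hρr])
  · rw [Module.natCard_eq_pow_finrank (K := ZMod 2), Nat.card_zmod] at hcard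
    exact ((Nat.pow_right_injective le_rfl) hcard).le
  · intro β hβ
    have hB1 : ∀ x : D, ∃ G : Additive Q →ₗ[ZMod 2] ZMod 2, ∀ y, G (π y) = Multiplicative.toAdd (β x y) := by
      intro x
      let g' : D →* Two := β x
      let G' : Q →* Two := QuotientGroup.lift _ g' fun y hy => (hβ y x hy).2
      exact ⟨AddMonoidHom.toZModLinearMap 2 (MonoidHom.toAdditiveLeft G'), fun y => rfl⟩
    choose G hG using hB1
    have hext : ∀ {G1 G2 : Additive Q →ₗ[ZMod 2] ZMod 2}, (∀ y, G1 (π y) = G2 (π y)) → G1 = G2 := fun hh =>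
      LinearMap.ext fun a => by obtain ⟨y, rfl⟩ := hsurj a; exact hh y
    let g' : D →* Multiplicative (Additive Q →ₗ[ZMod 2] ZMod 2) :=
      MonoidHom.mk' (fun x => Multiplicative.ofAdd (G x)) fun x x' => congrArg Multiplicative.ofAdd (hext fun y => by
        simp only [toAdd_ofAdd, LinearMap.add_apply, hG, map_mul, MonoidHom.mul_apply, toAdd_mul])
    let G' : Q →* Multiplicative (Additive Q →ₗ[ZMod 2] ZMod 2) :=
      QuotientGroup.lift _ g' fun x hx => congrArg Multiplicative.ofAdd (hext fun y => by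
        rw [hG, (hβ x y hx).1, LinearMap.zero_apply]; rfl)
    exact ⟨AddMonoidHom.toZModLinearMap 2 (MonoidHom.toAdditiveLeft G'), fun x y => hG x y⟩
  · exact fun φ hφ hN => lift (fun x => π (φ x)) hφ hN

/-- A coprime automorphism commuting with `R` and fixing a hyperplane is trivial modulo its radical. -/
theorem comm_mem_rad {L : Subgroup X} (hL : IsCons D Z Zc n L) {y : X}
    (hyD : y ∈ Subgroup.normalizer (D : Set X)) (hyR : ∀ σ ∈ R, σ * y = y * σ)
    (hyL : ∀ z ∈ Z, y * z * y⁻¹ * z⁻¹ ∈ L) (hy : (orderOf y).Coprime r) :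
    ∀ x ∈ D, y * x * y⁻¹ * x⁻¹ ∈ rad D L := by
  obtain ⟨ρ, hρ, hgen, hρr⟩ := h.exists_gen
  obtain ⟨A, _, _, _, π, f, hsurj, hπmul, hπ0, hf, hirr, hfr, -, hform, hlift⟩ :=
    h.exists_space (h.Z_le_rad L) (rad_le D L) (h.R_le_normalizer_rad L) hL.index hρ hgen hρr
  have hyconj : ∀ {x : X}, x ∈ D → y * x * y⁻¹ ∈ D := fun hx => (Subgroup.mem_normalizer_iff.1 hyD _).1 hx
  let β : D →* D →* Two :=
    MonoidHom.mk' (fun x => MonoidHom.mk' (fun v => signOf L ⁅(x : X), (v : X)⁆) fun a b => by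
        show signOf L ⁅(x : X), (a : X) * b⁆ = _
        rw [h.comm_mul_right x.2 a.2 b.2, signOf_mul hL.le hL.two (h.comm _ x.2 _ a.2) (h.comm _ x.2 _ b.2)])
      fun a b => MonoidHom.ext fun v => by
        show signOf L ⁅(a : X) * b, (v : X)⁆ = signOf L ⁅(a : X), (v : X)⁆ * signOf L ⁅(b : X), (v : X)⁆
        rw [h.comm_mul_left a.2 b.2 v.2, signOf_mul hL.le hL.two (h.comm _ a.2 _ v.2) (h.comm _ b.2 _ v.2)]
  obtain ⟨B, hB⟩ := hform β fun x v hx => by
    have h1 := (h.mem_rad_iff.1 hx).2 v v.2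
    exact ⟨signOf_eq_one.2 h1, signOf_eq_one.2 (h.comm_symm x.2 v.2 ▸ h1)⟩
  have hyrad : ∀ x : D, (x : X) ∈ rad D L → y * x * y⁻¹ ∈ rad D L := by
    intro x hx
    refine h.mem_rad_iff.2 ⟨hyconj x.2, fun v hv => ?_⟩
    have hv' : y⁻¹ * v * y ∈ D := by
      have := (Subgroup.mem_normalizer_iff.1 (inv_mem hyD) v).1 hv
      simpa using this
    have hc := h.comm x x.2 _ hv'
    have hcL := (h.mem_rad_iff.1 hx).2 _ hv'
    have e : ⁅y * x * y⁻¹, v⁆ = (y * ⁅(x : X), y⁻¹ * v * y⁆ * y⁻¹ * ⁅(x : X), y⁻¹ * v * y⁆⁻¹) *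
        ⁅(x : X), y⁻¹ * v * y⁆ := by simp only [commutatorElement_def]; group
    rw [e]
    exact mul_mem (hyL _ hc) hcL
  obtain ⟨Y, hY⟩ := hlift (fun x => ⟨y * x * y⁻¹, hyconj x.2⟩)
    (fun x x' => by
      rw [← hπmul]
      congr 1
      exact Subtype.ext (show y * ((x : X) * x') * y⁻¹ = y * x * y⁻¹ * (y * x' * y⁻¹) by group))
    (fun x hx => (hπ0 _).2 (hyrad x hx))
  have hsig : ∀ (σ : X), (∀ z ∈ Z, σ * z * σ⁻¹ * z⁻¹ ∈ L) → ∀ z ∈ Z, σ * z * σ⁻¹ ∈ Z →
      signOf L (σ * z * σ⁻¹) = signOf L z := by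
    intro σ hσ z hz hz'
    have e : σ * z * σ⁻¹ = (σ * z * σ⁻¹ * z⁻¹) * z := by group
    rw [e, signOf_mul hL.le hL.two (hL.le (hσ z hz)) hz, signOf_eq_one.2 (hσ z hz), one_mul]
  have hinv : ∀ (σ : X) (hσD : ∀ {x : X}, x ∈ D → σ * x * σ⁻¹ ∈ D), (∀ z ∈ Z, σ * z * σ⁻¹ * z⁻¹ ∈ L) →
      ∀ x v : D, B (π ⟨σ * x * σ⁻¹, hσD x.2⟩) (π ⟨σ * v * σ⁻¹, hσD v.2⟩) = B (π x) (π v) := by
    intro σ hσD hσ x v
    rw [hB, hB]
    congr 1
    show signOf L ⁅σ * (x : X) * σ⁻¹, σ * (v : X) * σ⁻¹⁆ = signOf L ⁅(x : X), (v : X)⁆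
    have e : ⁅σ * (x : X) * σ⁻¹, σ * (v : X) * σ⁻¹⁆ = σ * ⁅(x : X), (v : X)⁆ * σ⁻¹ := by
      simp only [commutatorElement_def]; group
    rw [e, hsig σ hσ _ (h.comm _ x.2 _ v.2) (e ▸ h.comm _ (hσD x.2) _ (hσD v.2))]
  have hypow : ∀ (i : ℕ) (x : D) (hx : y ^ i * x * (y ^ i)⁻¹ ∈ D),
      (Y ^ i) (π x) = π ⟨y ^ i * x * (y ^ i)⁻¹, hx⟩ := by
    intro i
    induction i with
    | zero =>
      intro x hx
      rw [pow_zero, Module.End.one_apply]
      congr 1
      exact Subtype.ext (by simp)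
    | succ i ih =>
      intro x hx
      have hx' : y ^ i * x * (y ^ i)⁻¹ ∈ D := (Subgroup.mem_normalizer_iff.1 (pow_mem hyD i) x).1 x.2
      rw [pow_succ', Module.End.mul_apply, ih x hx', hY]
      congr 1
      refine Subtype.ext ?_
      show y * (y ^ i * x * (y ^ i)⁻¹) * y⁻¹ = y ^ (i + 1) * x * (y ^ (i + 1))⁻¹
      rw [pow_succ']
      group
  have hY1 : Y = 1 := by
    refine unitary_trivial h.r_eq hfr hirr (B := B) ?_ ?_ ?_ ?_ (m := orderOf y) ?_ hy
    · intro a b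
      obtain ⟨x, rfl⟩ := hsurj a
      obtain ⟨v, rfl⟩ := hsurj b
      rw [hf, hf]
      exact hinv ρ (fun {x} hx => h.conj_mem hρ hx) (fun z hz => by
        rw [h.Z_centralized hz hρ]; simp) x v
    · intro b hb
      obtain ⟨v, rfl⟩ := hsurj b
      refine (hπ0 v).2 (h.mem_rad_iff.2 ⟨v.2, fun x hx => ?_⟩)
      have h1 := hb (π ⟨x, hx⟩)
      rw [hB] at h1
      rw [h.comm_symm v.2 hx]
      exact signOf_eq_one.1 h1
    · refine LinearMap.ext fun a => ?_
      obtain ⟨x, rfl⟩ := hsurj a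
      rw [Module.End.mul_apply, Module.End.mul_apply, hf, hY, hY, hf]
      congr 1
      refine Subtype.ext ?_
      show y * (ρ * (x : X) * ρ⁻¹) * y⁻¹ = ρ * (y * x * y⁻¹) * ρ⁻¹
      calc y * (ρ * (x : X) * ρ⁻¹) * y⁻¹ = (y * ρ) * x * (y * ρ)⁻¹ := by group
        _ = (ρ * y) * x * (ρ * y)⁻¹ := by rw [hyR ρ hρ]
        _ = _ := by group
    · intro a b
      obtain ⟨x, rfl⟩ := hsurj a
      obtain ⟨v, rfl⟩ := hsurj b
      rw [hY, hY]
      exact hinv y (fun {x} hx => hyconj hx) hyL x v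
    · refine LinearMap.ext fun a => ?_
      obtain ⟨x, rfl⟩ := hsurj a
      rw [hypow (orderOf y) x (by rw [pow_orderOf_eq_one]; simp), Module.End.one_apply]
      congr 1
      exact Subtype.ext (by simp [pow_orderOf_eq_one])
  intro x hx
  have h1 := hY ⟨x, hx⟩
  rw [hY1, Module.End.one_apply] at h1
  have h2 : π (⟨y * x * y⁻¹, hyconj hx⟩ * ⟨x, hx⟩⁻¹) = 0 := by
    have h3 := hπmul (⟨y * x * y⁻¹, hyconj hx⟩ * ⟨x, hx⟩⁻¹) ⟨x, hx⟩
    rw [inv_mul_cancel_right] at h3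
    exact (add_eq_right.1 (h3.symm.trans h1.symm))
  exact (hπ0 _).1 h2

/-- An automorphism commuting with `R` that is trivial on `D / Z` centralises `D`. -/
theorem centralizes_of_comm {y : X} (hyR : ∀ σ ∈ R, σ * y = y * σ) (hy : ∀ x ∈ D, y * x * y⁻¹ * x⁻¹ ∈ Z) :
    ∀ x ∈ D, x * y = y * x := by
  have hle : D ≤ Subgroup.centralizer ({y} : Set X) := by
    rw [← h.gen, Subgroup.commutator_le]
    intro x hx σ hσ
    rw [Subgroup.mem_centralizer_singleton_iff]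
    set c := y * x * y⁻¹ * x⁻¹ with hc
    have hc1 : σ * c = c * σ := h.Z_centralized (hy x hx) hσ
    have hyx : y * x * y⁻¹ = c * x := by rw [hc]; group
    have hcx : ∀ v ∈ D, v * c = c * v := fun v hv => h.central c (hy x hx) v hv
    have hσx : σ * x⁻¹ * σ⁻¹ ∈ D := h.conj_mem hσ (inv_mem hx)
    have e : y * ⁅x, σ⁆ * y⁻¹ = ⁅x, σ⁆ := by
      calc y * ⁅x, σ⁆ * y⁻¹ = (y * x * y⁻¹) * (y * σ * y⁻¹) * (y * x * y⁻¹)⁻¹ * (y * σ * y⁻¹)⁻¹ := by
            simp only [commutatorElement_def]; group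
        _ = c * x * σ * (c * x)⁻¹ * σ⁻¹ := by rw [hyx, ← hyR σ hσ, mul_inv_cancel_right]
        _ = c * (x * (σ * x⁻¹ * σ⁻¹)) * (σ * c⁻¹ * σ⁻¹) := by group
        _ = c * (x * (σ * x⁻¹ * σ⁻¹)) * c⁻¹ := by
          congr 1
          calc σ * c⁻¹ * σ⁻¹ = (σ * c * σ⁻¹)⁻¹ := by group
            _ = c⁻¹ := by rw [hc1, mul_inv_cancel_right]
        _ = (x * (σ * x⁻¹ * σ⁻¹)) * c * c⁻¹ := by rw [hcx _ (mul_mem hx hσx)]
        _ = ⁅x, σ⁆ := by simp only [commutatorElement_def]; group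
    exact (mul_inv_eq_iff_eq_mul.1 e).symm
  exact fun x hx => Subgroup.mem_centralizer_singleton_iff.1 (hle hx)

/-- An automorphism of order prime to `r` commuting with `R` and fixing `Z` centralises `D`. -/
theorem centralizes_of_fix {y : X} (hyD : y ∈ Subgroup.normalizer (D : Set X)) (hyR : ∀ σ ∈ R, σ * y = y * σ)
    (hyZ : ∀ z ∈ Z, y * z = z * y) (hy : (orderOf y).Coprime r) : ∀ x ∈ D, x * y = y * x := by
  refine h.centralizes_of_comm hyR fun x hx => h.mem_Z_of_rad ?_ fun L hL =>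
    h.comm_mem_rad hL hyD hyR (fun z hz => by rw [hyZ z hz]; simp) hy x hx
  exact mul_mem ((Subgroup.mem_normalizer_iff.1 hyD x).1 hx) (inv_mem hx)

end DData

end CfsgLib.FlavellA
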