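import Cfsg.Agent.Lib.FlavellA.Crit
import Cfsg.Agent.Lib.RankOne.Structure
import Cfsg.Agent.Lib.RankOne.Central

/-!
The configuration is impossible: `G` modulo its centre would be a split rank one group whose order is divisible by
`r`.

Blueprint: `blueprint/FlavellA.md`, section 4.
-/

set_option autoImplicit false
set_option linter.unusedSectionVars false
set_option linter.style.haveILetI false

namespace CfsgLib.FlavellA

open Cfsg MulAction
open scoped commutatorElement Pointwise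

universe u

variable {X : Type u} [Group X]

namespace Setup

variable [Finite X] {G R S D Z Zc M : Subgroup X} {p r n : ℕ} (h : Setup G R S D Z Zc p r n)
  (hM : MaxData G R D Z Zc M)
include h hM

theorem bar_dvd : Nat.card (Bar G) ∣ Nat.card G := Subgroup.card_quotient_dvd_card _

/-- Involutions of `S` modulo the centre lie in `Z`. -/
theorem involution_in_Z {x : X} (hx : x ∈ S) (hx2 : x * x ∈ zentr G) :
    x ∈ zentr G ∨ ∃ z ∈ Z, z ∉ Zc ∧ x⁻¹ * z ∈ zentr G := by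
  by_cases hxc : x ∈ zentr G
  · exact Or.inl hxc
  refine Or.inr ?_
  set x' : G := ⟨x, h.S_le hx⟩
  have hx1 : orderOf (toBar G x') = 2 := CfsgLib.Involutions.orderOf_eq_two_iff'.2
    ⟨by rw [← map_mul]; exact toBar_eq_one.2 hx2, fun e => hxc (toBar_eq_one.1 e)⟩
  obtain ⟨z0, hz0, hz0c⟩ := SetLike.not_le_iff_exists.1 h.not_Z_le_Zc
  set t : G := ⟨z0, h.Z_le_G hz0⟩
  have ht : orderOf (toBar G t) = 2 := CfsgLib.Involutions.orderOf_eq_two_iff'.2
    ⟨by rw [← map_mul]; exact toBar_eq_one.2 (by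
      show z0 * z0 ∈ zentr G
      rw [h.data.sq_one z0 hz0]; exact one_mem _), h.toBar_Z_ne hz0 hz0c⟩
  obtain ⟨g, hg⟩ := isConj_iff.1 (CfsgLib.StrongEmb.all_isConj (h.stronglyEmbedded hM) ht hx1)
  obtain ⟨k, rfl⟩ := toBar_surjective G g
  rw [← map_inv, ← map_mul, ← map_mul] at hg
  have hkM : (k : X) ∈ M := h.conjSet_M hM (k := k) (t := t) hz0 hz0c (by
    rw [hg]; exact toBar_mem_img (h.S_le_M hM hx))
  have e : ((k * t * k⁻¹ : G) : X)⁻¹ * x ∈ zentr G := toBar_eq.1 hg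
  have hS : (k : X) * z0 * (k : X)⁻¹ ∈ S := h.mem_S_of_cong hx e (i := 1) (by
    rw [pow_one, conj_pow, pow_two, h.data.sq_one z0 hz0, mul_one, mul_inv_cancel])
  refine ⟨(k : X) * z0 * (k : X)⁻¹, h.fusion_M hM hkM hz0 hS, h.Z_conj_not k.2 hz0c, ?_⟩
  have := inv_mem e
  rwa [mul_inv_rev, inv_inv] at this

/-- An element of `S` centralised by `R` centralises `D` when `S` centralises `Z` modulo the centre. -/
theorem fixed_centralizes (hcen : ∀ s ∈ S, ∀ z ∈ Z, ⁅s, z⁆ ∈ Zc) :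
    ∀ (m : ℕ) (τ : X), orderOf τ = m → τ ∈ S → (∀ σ ∈ R, σ * τ = τ * σ) → ∀ x ∈ D, x * τ = τ * x := by
  intro m
  induction m using Nat.strong_induction_on with
  | _ m ih =>
    intro τ hm hτ hτR
    rcases eq_or_ne τ 1 with rfl | hne
    · exact fun x _ => by rw [mul_one, one_mul]
    have h2 : 2 ∣ m := by
      obtain ⟨i, hi⟩ := h.S_two ⟨τ, hτ⟩
      obtain ⟨j, -, hj⟩ := (Nat.dvd_prime_pow Nat.prime_two).1
        (orderOf_dvd_of_pow_eq_one (show τ ^ 2 ^ i = 1 from congrArg Subtype.val hi))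
      rw [← hm, hj]
      refine dvd_pow_self 2 fun e0 => hne ?_
      rw [e0, pow_zero, orderOf_eq_one_iff] at hj
      exact hj
    have hlt : orderOf (τ * τ) < m := by
      have hm0 : 0 < m := hm ▸ orderOf_pos τ
      rw [← pow_two, orderOf_pow, hm, Nat.gcd_eq_right h2]
      exact Nat.div_lt_self hm0 one_lt_two
    have hsq := ih _ hlt (τ * τ) rfl (mul_mem hτ hτ) fun σ hσ => Commute.mul_right (hτR σ hσ) (hτR σ hσ)
    have hI : InvAct R D Z τ := ⟨h.S_normalizes_D hτ, hτR, hsq,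
      fun z hz => (Subgroup.mem_normalizer_iff.1 (h.S_le_normalizer_Z hτ) z).1 hz⟩
    have hdisp : ∀ z ∈ Z, disp τ z ∈ Zc := fun z hz => by
      rw [disp, ← commutatorElement_def]; exact hcen τ hτ z hz
    by_contra hcon
    push Not at hcon
    obtain ⟨u, hu, huZ⟩ := SetLike.not_le_iff_exists.1 (InvAct.moved_ne h.data hI hcon)
    have huD := InvAct.moved_le h.data hI hu
    rcases h.involution_in_Z hM (h.D_le_S huD) (h.Zc_le_zentr (InvAct.moved_sq hdisp h.data hI u hu)) with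
      hc | ⟨z, hz, -, hzu⟩
    · exact huZ (h.data.Zc_le (h.D_inf_zentr.le ⟨hc, huD⟩))
    · have := h.data.Zc_le (h.D_inf_zentr.le ⟨hzu, D.mul_mem (D.inv_mem huD) (h.data.Z_le hz)⟩)
      have h3 := Z.mul_mem hz (Z.inv_mem this)
      rw [mul_inv_rev, inv_inv, mul_inv_cancel_left] at h3
      exact huZ h3

/-- Every class of `Z` outside the centre contains a square of `D`. -/
theorem exists_sq {ζ : X} (hζ : ζ ∈ Z) (hζc : ζ ∉ Zc) : ∃ x ∈ D, (x * x)⁻¹ * ζ ∈ Zc := by
  obtain ⟨x₀, hx₀, hx₀c⟩ : ∃ x ∈ D, x * x ∉ Zc := by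
    by_contra hall
    push Not at hall
    refine h.not_Z_le_Zc (h.data.le_derived.trans ?_)
    rw [Subgroup.commutator_le]
    intro a ha b hb
    have h1 := hall _ (mul_mem ha hb)
    rw [h.data.sq_mul ha hb] at h1
    have := Zc.mul_mem (Zc.inv_mem (mul_mem (hall a ha) (hall b hb))) h1
    rwa [inv_mul_cancel_left] at this
  have hsqZ := h.data.sq _ hx₀
  set t : G := ⟨x₀ * x₀, h.Z_le_G hsqZ⟩
  set v : G := ⟨ζ, h.Z_le_G hζ⟩
  have ho : ∀ w : G, (w : X) ∈ Z → (w : X) ∉ Zc → orderOf (toBar G w) = 2 := fun w hw hwc =>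
    CfsgLib.Involutions.orderOf_eq_two_iff'.2 ⟨by
      rw [← map_mul]
      exact toBar_eq_one.2 (by show (w : X) * w ∈ zentr G; rw [h.data.sq_one _ hw]; exact one_mem _),
      h.toBar_Z_ne hw hwc⟩
  obtain ⟨g, hg⟩ := isConj_iff.1
    (CfsgLib.StrongEmb.all_isConj (h.stronglyEmbedded hM) (ho t hsqZ hx₀c) (ho v hζ hζc))
  obtain ⟨k, rfl⟩ := toBar_surjective G g
  rw [← map_inv, ← map_mul, ← map_mul] at hg
  have hkM : (k : X) ∈ M := h.conjSet_M hM (k := k) (t := t) hsqZ hx₀c (by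
    rw [hg]; exact toBar_mem_img (h.D_le_M hM (h.data.Z_le hζ)))
  have e : ((k : X) * (x₀ * x₀) * (k : X)⁻¹)⁻¹ * ζ ∈ zentr G := toBar_eq.1 hg
  have hS : (k : X) * (x₀ * x₀) * (k : X)⁻¹ ∈ S := h.mem_S_of_cong (h.D_le_S (h.data.Z_le hζ)) e (i := 1) (by
    rw [pow_one, conj_pow, pow_two, h.data.sq_one _ hsqZ, mul_one, mul_inv_cancel])
  obtain ⟨Q, hQM, hQp, hMQ, -, -, hdec, -, -⟩ := h.loc_D hM.le hM.ne hM.norm (h.D_le_M hM)
  obtain ⟨q, hq, hy⟩ := hdec _ hkM
  set y := q⁻¹ * (k : X) with hyd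
  have hyG : y ∈ G := G.mul_mem (G.inv_mem (hM.le (hQM hq))) k.2
  set w := y * (x₀ * x₀) * y⁻¹ with hw
  have hwZ : w ∈ Z := h.Z_conj hyG hy hsqZ
  have ek : (k : X) * (x₀ * x₀) * (k : X)⁻¹ = q * w * q⁻¹ := by rw [hw, hyd]; group
  have hwD := h.data.Z_le hwZ
  have h1 : q * w * q⁻¹ * w⁻¹ ∈ Q := by
    rw [show q * w * q⁻¹ * w⁻¹ = q * (w * q⁻¹ * w⁻¹) by group]
    exact mul_mem hq ((Subgroup.mem_normalizer_iff.1 (hMQ (h.D_le_M hM hwD)) _).1 (inv_mem hq))
  have h2 : q * w * q⁻¹ * w⁻¹ ∈ S := mul_mem (ek ▸ hS) (inv_mem (h.D_le_S hwD))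
  obtain ⟨i, hi⟩ := hQp ⟨_, h1⟩
  obtain ⟨j, hj⟩ := h.S_two ⟨_, h2⟩
  have h3 := mul_inv_eq_one.1
    (eq_one_of_pow_coprime (h.cop_two_pow i j) (congrArg Subtype.val hi) (congrArg Subtype.val hj))
  rw [ek, h3] at e
  refine ⟨y * x₀ * y⁻¹, (Subgroup.mem_normalizer_iff.1 hy x₀).1 hx₀, ?_⟩
  rw [show y * x₀ * y⁻¹ * (y * x₀ * y⁻¹) = w by rw [hw]; group]
  exact h.mem_Zc (mul_mem (inv_mem hwZ) hζ) e

/-- An element of `S` centralised by `R` is in `Z` modulo the centre. -/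
theorem fixed_in_Z (hcen : ∀ s ∈ S, ∀ z ∈ Z, ⁅s, z⁆ ∈ Zc) :
    ∀ (m : ℕ) (τ : X), orderOf τ = m → τ ∈ S → (∀ σ ∈ R, σ * τ = τ * σ) → ∃ z ∈ Z, τ⁻¹ * z ∈ zentr G := by
  intro m
  induction m using Nat.strong_induction_on with
  | _ m ih =>
    intro τ hm hτ hτR
    rcases eq_or_ne τ 1 with rfl | hne
    · exact ⟨1, one_mem _, by rw [inv_one, one_mul]; exact one_mem _⟩
    have h2 : 2 ∣ m := by
      obtain ⟨i, hi⟩ := h.S_two ⟨τ, hτ⟩
      obtain ⟨j, -, hj⟩ := (Nat.dvd_prime_pow Nat.prime_two).1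
        (orderOf_dvd_of_pow_eq_one (show τ ^ 2 ^ i = 1 from congrArg Subtype.val hi))
      rw [← hm, hj]
      refine dvd_pow_self 2 fun e0 => hne ?_
      rw [e0, pow_zero, orderOf_eq_one_iff] at hj
      exact hj
    have hlt : orderOf (τ * τ) < m := by
      have hm0 : 0 < m := hm ▸ orderOf_pos τ
      rw [← pow_two, orderOf_pow, hm, Nat.gcd_eq_right h2]
      exact Nat.div_lt_self hm0 one_lt_two
    obtain ⟨ζ, hζ, hcong⟩ := ih _ hlt (τ * τ) rfl (mul_mem hτ hτ) fun σ hσ =>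
      Commute.mul_right (hτR σ hσ) (hτR σ hσ)
    by_cases hζc : ζ ∈ Zc
    · have hsq : τ * τ ∈ zentr G := by
        have := mul_mem (h.Zc_le_zentr hζc) (inv_mem hcong)
        rwa [mul_inv_rev, inv_inv, mul_inv_cancel_left] at this
      rcases h.involution_in_Z hM hτ hsq with hc | ⟨z, hz, -, hzτ⟩
      · exact ⟨1, one_mem _, by rw [mul_one]; exact inv_mem hc⟩
      · exact ⟨z, hz, hzτ⟩
    · exfalso
      obtain ⟨x, hx, hxζ⟩ := h.exists_sq hM hζ hζc
      have hcomm := h.fixed_centralizes hM hcen _ τ rfl hτ hτR x hx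
      have hsq : τ * x * (τ * x) ∈ zentr G := by
        have e1 : τ * x * (τ * x) = τ * τ * (x * x) := by
          calc τ * x * (τ * x) = τ * (x * τ) * x := by group
            _ = τ * τ * (x * x) := by rw [hcomm]; group
        have e2 : τ * τ * (x * x) = (τ * τ * ζ⁻¹) * (ζ * ζ) * (ζ⁻¹ * (x * x)) := by group
        rw [e1, e2, h.data.sq_one ζ hζ, mul_one]
        have hc1 : τ * τ * ζ⁻¹ ∈ zentr G := by
          set c := (τ * τ)⁻¹ * ζ with hc
          have : τ * τ * ζ⁻¹ = c⁻¹ := by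
            have e3 : ζ = τ * τ * c := by rw [hc, mul_inv_cancel_left]
            rw [e3, mul_inv_rev, ← mul_assoc, mem_zentr_comm (inv_mem hcong) (mul_mem (h.S_le hτ) (h.S_le hτ)),
              mul_assoc, mul_inv_cancel, mul_one]
          rw [this]
          exact inv_mem hcong
        refine mul_mem hc1 ?_
        have := inv_mem (h.Zc_le_zentr hxζ)
        rwa [mul_inv_rev, inv_inv] at this
      have hfix : (∀ σ ∈ R, σ * (τ * x) = τ * x * σ) → False := fun hf => by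
        have hxR : ∀ σ ∈ R, σ * x = x * σ := fun σ hσ => by
          have h1 : Commute σ (τ⁻¹ * (τ * x)) := Commute.mul_right (Commute.inv_right (hτR σ hσ)) (hf σ hσ)
          rwa [inv_mul_cancel_left] at h1
        have hx1 := h.data.sq_one x (h.data.mem_Z hx hxR)
        rw [hx1, inv_one, one_mul] at hxζ
        exact hζc hxζ
      rcases h.involution_in_Z hM (mul_mem hτ (h.D_le_S hx)) hsq with hc | ⟨z, hz, -, hzτ⟩
      · exact hfix fun σ hσ => Subgroup.mem_centralizer_iff.1 (h.centR hc) σ hσ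
      · refine hfix fun σ hσ => ?_
        have h1 : Commute σ (z * ((τ * x)⁻¹ * z)⁻¹) :=
          Commute.mul_right (h.data.Z_centralized hz hσ)
            (Commute.inv_right (Subgroup.mem_centralizer_iff.1 (h.centR hzτ) σ hσ))
        rwa [mul_inv_rev, inv_inv, mul_inv_cancel_left] at h1

omit hM in
theorem false_of_card {q : ℕ} (hd : q ∣ Nat.card G) (hr : r ∣ q) : False :=
  (h.data.rprime.coprime_iff_not_dvd.1 h.cop.symm) (hr.trans hd)

theorem false_of_max : False := by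
  haveI : Fact (Nat.Prime 2) := ⟨Nat.prime_two⟩
  haveI := h.isSimple_bar
  have hSE := h.stronglyEmbedded hM
  have hne : img G M ≠ ⊤ := hSE.1
  have hcore : (img G M).normalCore = ⊥ :=
    (Subgroup.normalCore_normal (img G M)).eq_bot_or_eq_top.resolve_right fun e =>
      hne (top_le_iff.mp (e ▸ (img G M).normalCore_le))
  haveI := CfsgLib.Bender.faithful hcore
  have h4 := h.hasFour hM
  obtain ⟨t, Q, hR1, hQ2⟩ := CfsgLib.Bender.Assembly.goodAll (Bar G) (Bar G ⧸ img G M)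
    (CfsgLib.Bender.Assembly.oneFix hSE h4) ((1 : Bar G) : Bar G ⧸ img G M)
  set a : Bar G ⧸ img G M := ((1 : Bar G) : Bar G ⧸ img G M) with ha
  have hst : stabilizer (Bar G) a = img G M := CfsgLib.Bender.stabilizer_one
  obtain ⟨-, hshape, -⟩ := CfsgLib.SuzukiRankOne.concl hR1 h4
  -- `Q` is the image of `S`
  obtain ⟨P, hP⟩ := h.exists_sylow_bar
  have hPM : (P : Subgroup (Bar G)) ≤ img G M := by
    rw [hP]; exact Subgroup.map_mono fun x hx => h.S_le_M hM hx
  have hPQ : (P : Subgroup (Bar G)) ≤ Subgroup.normalizer (Q : Set (Bar G)) := by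
    rw [CfsgLib.RankOne.normalizer_Q hR1, hst]; exact hPM
  have hQP : Q = (P : Subgroup (Bar G)) := by
    have h1 : (P : Subgroup (Bar G)) ⊔ Q = P := P.3 (P.2.to_sup_of_normal_right' hQ2 hPQ) le_sup_left
    obtain ⟨P', hP'⟩ := CfsgLib.RankOne.exists_sylow_le hR1
    refine Subgroup.eq_of_le_of_card_ge (le_sup_right.trans h1.le) ?_
    calc Nat.card (P : Subgroup (Bar G)) = Nat.card (P' : Subgroup (Bar G)) := by
          rw [P.card_eq_multiplicity, P'.card_eq_multiplicity]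
      _ ≤ Nat.card Q := Subgroup.card_le_of_le hP'
  -- the involutions of `M` modulo the centre are those of `Z`
  have hinv : involutionsIn (stabilizer (Bar G) a : Set (Bar G)) = {x | x ∈ img G Z ∧ x ≠ 1} := by
    ext x
    constructor
    · rintro ⟨hxa, hx1, hx2⟩
      have hxQ := CfsgLib.RankOne.invol_mem_Q hR1 hxa hx2
      rw [hQP, hP] at hxQ
      obtain ⟨s, hs, rfl⟩ := hxQ
      rw [← map_mul] at hx2
      rcases h.involution_in_Z hM hs (toBar_eq_one.1 hx2) with hc | ⟨z, hz, -, hzs⟩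
      · exact absurd (toBar_eq_one.2 hc) hx1
      · exact ⟨(mem_img h.Z_le_G).2 ⟨z, hz, hzs⟩, hx1⟩
    · rintro ⟨⟨z, hz, rfl⟩, hx1⟩
      refine ⟨hst.ge (toBar_mem_img (h.D_le_M hM (h.data.Z_le hz))), hx1, ?_⟩
      rw [← map_mul, show z * z = 1 from Subtype.ext (h.data.sq_one _ hz), map_one]
  have hqZ : CfsgLib.SuzukiRankOne.qZ (Bar G) a = Zc.relIndex Z := by
    rw [CfsgLib.SuzukiRankOne.qZ, ← h.card_img_Z, hinv]
    show Nat.card {x : Bar G | x ∈ img G Z ∧ x ≠ 1} + 1 = _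
    rw [Nat.card_coe_set_eq,
      show {x : Bar G | x ∈ img G Z ∧ x ≠ 1} = (img G Z : Set (Bar G)) \ {1} by ext x; simp,
      Set.ncard_sdiff_singleton_add_one (one_mem (img G Z)) (Set.toFinite _)]
    rfl
  -- `S` centralises `Z` modulo the centre
  have hcen : ∀ s ∈ S, ∀ z ∈ Z, ⁅s, z⁆ ∈ Zc := by
    intro s hs z hz
    have hz' : ⁅s, z⁆ ∈ Z := by
      rw [commutatorElement_def]
      exact mul_mem ((Subgroup.mem_normalizer_iff.1 (h.S_le_normalizer_Z hs) z).1 hz) (inv_mem hz)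
    refine h.mem_Zc hz' ?_
    by_cases hzc : z ∈ Zc
    · rw [commutatorElement_eq_one_iff_mul_comm.2 (mem_zentr_comm (h.Zc_le_zentr hzc) (h.S_le hs))]
      exact one_mem _
    have h1 : toBar G ⟨z, h.Z_le_G hz⟩ ∈ involutionsIn (stabilizer (Bar G) a : Set (Bar G)) :=
      hinv.ge ⟨toBar_mem_img hz, h.toBar_Z_ne hz hzc⟩
    exact toBar_comm.1 (CfsgLib.RankOne.invol_central hR1 h4 h1 (y := toBar G ⟨s, h.S_le hs⟩)
      (by rw [hQP, hP]; exact toBar_mem_img hs)).symm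
  -- `S` and `D` agree modulo the centre
  have hSD : img G S = img G D := by
    refine le_antisymm ?_ (Subgroup.map_mono fun x hx => h.D_le_S hx)
    rintro _ ⟨s, hs, rfl⟩
    obtain ⟨d, hd, τ, hτ, hτR, e⟩ := h.exists_decomp hs
    obtain ⟨z, hz, hzτ⟩ := h.fixed_in_Z hM hcen _ τ rfl hτ hτR
    refine (mem_img h.D_le_G).2 ⟨d * z, mul_mem hd (h.data.Z_le hz), ?_⟩
    rw [show ((s : X))⁻¹ * (d * z) = τ⁻¹ * z by
      rw [show (s : X) = d * τ from e]; group]
    exact hzτ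
  have hQcard : Nat.card Q = Zc.relIndex Z * Z.relIndex D := by
    rw [hQP, hP, hSD, h.card_img_D]
  set L := Zc.relIndex Z with hL
  set N := Z.relIndex D with hN
  have hLpos : 0 < L := Nat.pos_of_ne_zero Subgroup.index_ne_zero_of_finite
  have hrN : r ∣ N - 1 := h.dvd_relIndex_D
  -- `L - 1` and `|Q| + 1` divide the order
  have hd1 : L - 1 ∣ Nat.card G := by
    refine Nat.dvd_trans ?_ ((Subgroup.card_subgroup_dvd_card (img G M)).trans (h.bar_dvd hM))
    obtain ⟨z0, hz0, hz0c⟩ := SetLike.not_le_iff_exists.1 h.not_Z_le_Zc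
    set u := toBar G ⟨z0, h.Z_le_G hz0⟩ with hu
    have huI : u ∈ involutionsIn (stabilizer (Bar G) a : Set (Bar G)) :=
      hinv.ge ⟨toBar_mem_img hz0, h.toBar_Z_ne hz0 hz0c⟩
    let c : img G M →* MulAut (Bar G) := (MulAut.conj).comp (img G M).subtype
    letI : MulAction (img G M) (Bar G) := MulAction.compHom (Bar G) c
    have horb : MulAction.orbit (img G M) u = involutionsIn (stabilizer (Bar G) a : Set (Bar G)) := by
      ext x
      constructor
      · rintro ⟨⟨g, hg⟩, rfl⟩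
        refine ⟨hst.ge (mul_mem (mul_mem hg (hst.le huI.1)) (inv_mem hg)), ?_, ?_⟩
        · intro e
          have e' : g * u * g⁻¹ = 1 := e
          exact huI.2.1 (by rwa [mul_inv_eq_one, mul_eq_left] at e')
        · show g * u * g⁻¹ * (g * u * g⁻¹) = 1
          rw [show g * u * g⁻¹ * (g * u * g⁻¹) = g * (u * u) * g⁻¹ by group, huI.2.2, mul_one, mul_inv_cancel]
      · intro hx
        obtain ⟨k, hk, e⟩ := CfsgLib.RankOne.exists_conj_inverted hR1 huI hx
        refine ⟨⟨k⁻¹, inv_mem (hst.le (CfsgLib.RankOne.D_le hR1 hk.1))⟩, ?_⟩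
        show k⁻¹ * u * k⁻¹⁻¹ = x
        rw [inv_inv, e]
    have hcardI : Nat.card (involutionsIn (stabilizer (Bar G) a : Set (Bar G))) = L - 1 := by
      rw [← hqZ, CfsgLib.SuzukiRankOne.qZ, Nat.add_sub_cancel]
    rw [← hcardI, ← horb, Nat.card_congr (MulAction.orbitEquivQuotientStabilizer (img G M) u)]
    exact Subgroup.card_quotient_dvd_card _
  have hd2 : Nat.card Q + 1 ∣ Nat.card G :=
    (Dvd.intro_left _ (CfsgLib.RankOne.card_group hR1).symm).trans (h.bar_dvd hM)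
  rcases hshape with hel | ⟨-, hcube | hsq⟩
  · refine h.D_not_le_Z fun x hx => ?_
    have h2 : x * x ∈ zentr G := toBar_eq_one.1 (by
      have := hel (toBar G ⟨x, h.D_le_G hx⟩) (by rw [hQP, hP]; exact toBar_mem_img (h.D_le_S hx))
      rwa [← map_mul] at this)
    rcases h.involution_in_Z hM (h.D_le_S hx) h2 with hc | ⟨z, hz, -, hzx⟩
    · exact h.data.Zc_le (h.D_inf_zentr.le ⟨hc, hx⟩)
    · have h3 := h.data.Zc_le (h.D_inf_zentr.le ⟨hzx, D.mul_mem (D.inv_mem hx) (h.data.Z_le hz)⟩)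
      have h5 := Z.mul_mem hz (Z.inv_mem h3)
      rwa [mul_inv_rev, inv_inv, mul_inv_cancel_left] at h5
  · have hNeq : N = L * L := by
      have := hcube.1
      rw [hQcard, hqZ, pow_succ, pow_two, mul_comm (L * L) L] at this
      exact Nat.eq_of_mul_eq_mul_left hLpos this
    rw [hNeq, show L * L - 1 = (L + 1) * (L - 1) by rw [← pow_two, ← one_pow 2, Nat.sq_sub_sq, one_pow]] at hrN
    rcases h.data.rprime.dvd_mul.1 hrN with h1 | h1
    · refine h.false_of_card hd2 (h1.trans ?_)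
      rw [hcube.1, hqZ]
      exact Odd.nat_add_dvd_pow_add_pow L 1 (by decide : Odd 3) |>.trans (by simp)
    · exact h.false_of_card hd1 h1
  · have hNeq : N = L := by
      have := hsq.1
      rw [hQcard, hqZ, pow_two] at this
      exact Nat.eq_of_mul_eq_mul_left hLpos this
    rw [hNeq] at hrN
    exact h.false_of_card hd1 hrN

omit hM in
/-- No configuration exists. -/
theorem false : False := by
  obtain ⟨M, hM⟩ := h.exists_max
  exact h.false_of_max hM

end Setup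

end CfsgLib.FlavellA
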