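import Mathlib

/-!
Forms over the field with two elements invariant under an irreducible operator of prime order `2 ^ n + 1`, and
the counting inequality for pairings into a group of order two.

Blueprint: `blueprint/FlavellA.md`, section 0.
-/

set_option autoImplicit false
set_option linter.unusedSectionVars false
set_option linter.style.haveILetI false

namespace CfsgLib.FlavellA

universe u v

/-- Two values. -/
abbrev Two : Type := Multiplicative (ZMod 2)

theorem two_sq (c : Two) : c * c = 1 := by revert c; decide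

/-- A group of exponent two has no more homomorphisms into a group of order two than elements. -/
theorem card_hom_le {Q : Type u} [Group Q] [Finite Q] (h2 : ∀ x : Q, x * x = 1) :
    Nat.card (Q →* Two) ≤ Nat.card Q := by
  letI : CommGroup Q :=
    { mul_comm := fun a b => by
        have ha : a⁻¹ = a := inv_eq_of_mul_eq_one_right (h2 a)
        have hb : b⁻¹ = b := inv_eq_of_mul_eq_one_right (h2 b)
        have hab : (a * b)⁻¹ = a * b := inv_eq_of_mul_eq_one_right (h2 (a * b))
        rw [← hab, mul_inv_rev, ha, hb] }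
  letI : Module (ZMod 2) (Additive Q) :=
    AddCommGroup.zmodModule (n := 2) (G := Additive Q) fun a => by rw [two_nsmul]; exact h2 a.toMul
  haveI : Module.Finite (ZMod 2) (Additive Q) := Module.Finite.of_finite
  let e : (Q →* Two) → Module.Dual (ZMod 2) (Additive Q) := fun f =>
    AddMonoidHom.toZModLinearMap 2 (MonoidHom.toAdditiveLeft f)
  have hinj : Function.Injective e := fun f g h => MonoidHom.ext fun x => by
    have := LinearMap.congr_fun h (Additive.ofMul x)
    exact this
  haveI : Finite (Module.Dual (ZMod 2) (Additive Q)) := Module.finite_of_finite (ZMod 2)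
  refine (Nat.card_le_card_of_injective e hinj).trans ?_
  rw [show Nat.card Q = Nat.card (Additive Q) from rfl, Module.natCard_eq_pow_finrank (K := ZMod 2),
    Module.natCard_eq_pow_finrank (K := ZMod 2) (V := Additive Q), Subspace.dual_finrank_eq]

/-- A pairing into a group of order two: the index of one kernel is at most that of the other. -/
theorem pairing_index_le {A : Type u} {B : Type v} [Group A] [Finite A] [Group B] [Finite B]
    (Φ : A →* B →* Two) : Φ.flip.ker.index ≤ Φ.ker.index := by
  have h2 : ∀ x : A ⧸ Φ.ker, x * x = 1 := fun x => QuotientGroup.induction_on x fun a => by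
    rw [← QuotientGroup.mk_mul, QuotientGroup.eq_one_iff, MonoidHom.mem_ker]
    exact MonoidHom.ext fun b => by rw [map_mul, MonoidHom.mul_apply, MonoidHom.one_apply, two_sq]
  have hrange : Φ.flip.ker.index = Nat.card Φ.flip.range := Subgroup.index_ker _
  rw [hrange, Subgroup.index_eq_card]
  refine le_trans ?_ (card_hom_le h2)
  let e : Φ.flip.range → (A ⧸ Φ.ker →* Two) := fun f => QuotientGroup.lift Φ.ker f.1 fun a ha => by
    obtain ⟨b, hb⟩ := f.2
    rw [MonoidHom.mem_ker, ← hb]
    show Φ a b = 1
    rw [MonoidHom.mem_ker.1 ha, MonoidHom.one_apply]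
  haveI : Finite (A ⧸ Φ.ker →* Two) := Finite.of_injective (fun f => (f : A ⧸ Φ.ker → Two)) DFunLike.coe_injective
  refine Nat.card_le_card_of_injective e fun f g h => Subtype.ext (MonoidHom.ext fun a => ?_)
  exact DFunLike.congr_fun h (QuotientGroup.mk a)

/-- The kernel indices of a pairing agree. -/
theorem pairing_index_eq {A : Type u} {B : Type v} [Group A] [Finite A] [Group B] [Finite B]
    (Φ : A →* B →* Two) : Φ.flip.ker.index = Φ.ker.index := by
  refine le_antisymm (pairing_index_le Φ) ?_
  have h := pairing_index_le Φ.flip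
  exact h

section Operator

open Polynomial

variable {A : Type u} [AddCommGroup A] [Module (ZMod 2) A] [FiniteDimensional (ZMod 2) A]

/-- An irreducible operator. -/
def IsIrred (f : Module.End (ZMod 2) A) : Prop :=
  ∀ W : Submodule (ZMod 2) A, (∀ a ∈ W, f a ∈ W) → W = ⊥ ∨ W = ⊤

theorem span_range_pow {f : Module.End (ZMod 2) A} (hf : IsIrred f) {a : A} (ha : a ≠ 0) :
    Submodule.span (ZMod 2) (Set.range fun i : ℕ => (f ^ i) a) = ⊤ := by
  refine (hf _ ?_).resolve_left fun h => ha ?_
  · intro b hb
    have hle : Submodule.span (ZMod 2) (Set.range fun i : ℕ => (f ^ i) a) ≤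
        (Submodule.span (ZMod 2) (Set.range fun i : ℕ => (f ^ i) a)).comap f := by
      refine Submodule.span_le.2 ?_
      rintro _ ⟨i, rfl⟩
      exact Submodule.subset_span ⟨i + 1, by simp [pow_succ', Module.End.mul_apply]⟩
    exact hle hb
  · have : a ∈ Submodule.span (ZMod 2) (Set.range fun i : ℕ => (f ^ i) a) :=
      Submodule.subset_span ⟨0, by simp⟩
    rwa [h, Submodule.mem_bot] at this

theorem eq_zero_of_pow_eq_zero {f : Module.End (ZMod 2) A} (hf : IsIrred f) {a : A} (ha : a ≠ 0)
    {g : A →ₗ[ZMod 2] A} (h : ∀ i : ℕ, g ((f ^ i) a) = 0) : g = 0 :=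
  LinearMap.ext_on_range (span_range_pow hf ha) fun i => (h i).trans (LinearMap.zero_apply _).symm

/-- An endomorphism commuting with an irreducible operator is a polynomial in it. -/
theorem exists_aeval {f : Module.End (ZMod 2) A} (hf : IsIrred f) {y : Module.End (ZMod 2) A}
    (hy : y * f = f * y) : ∃ P : (ZMod 2)[X], y = aeval f P := by
  by_cases h : ∀ a : A, a = 0
  · exact ⟨0, LinearMap.ext fun a => by rw [h a, map_zero, map_zero]⟩
  push Not at h
  obtain ⟨a, ha⟩ := h
  let Φ : (ZMod 2)[X] →ₗ[ZMod 2] A := (LinearMap.applyₗ a).comp (aeval f).toLinearMap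
  have htop : LinearMap.range Φ = ⊤ := by
    rw [eq_top_iff, ← span_range_pow hf ha, Submodule.span_le]
    rintro _ ⟨i, rfl⟩
    exact ⟨X ^ i, by simp [Φ]⟩
  obtain ⟨P, hP⟩ := (htop.ge Submodule.mem_top : y a ∈ LinearMap.range Φ)
  refine ⟨P, sub_eq_zero.1 (eq_zero_of_pow_eq_zero hf ha fun i => ?_)⟩
  have hPa : aeval f P a = y a := hP
  have h1 : y * f ^ i = f ^ i * y := (Commute.pow_right hy i)
  have h2 : aeval f P * f ^ i = f ^ i * aeval f P := by
    have hc : (X : (ZMod 2)[X]) ^ i * P = P * X ^ i := mul_comm _ _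
    have := congrArg (aeval f) hc
    simpa using this.symm
  rw [LinearMap.sub_apply, ← Module.End.mul_apply, h1, ← Module.End.mul_apply (aeval f P), h2,
    Module.End.mul_apply, Module.End.mul_apply, hPa, sub_self]

/-- Raising a polynomial in an operator to a power of two substitutes that power. -/
theorem aeval_pow_two_pow (f : Module.End (ZMod 2) A) (P : (ZMod 2)[X]) (m : ℕ) :
    aeval f P ^ 2 ^ m = aeval (f ^ 2 ^ m) P := by
  haveI : Fact (Nat.Prime 2) := ⟨Nat.prime_two⟩
  induction m with
  | zero => simp
  | succ m ih =>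
    rw [pow_succ, pow_mul, ih, ← map_pow, ← ZMod.expand_card, expand_aeval, ← pow_mul]

variable {n r : ℕ}

/-- For an invariant form the adjoint of a polynomial in the operator is its `2 ^ n`th power. -/
theorem form_adjoint (hr : r = 2 ^ n + 1) {f : Module.End (ZMod 2) A} (hfr : f ^ r = 1)
    {B : A →ₗ[ZMod 2] A →ₗ[ZMod 2] ZMod 2} (hBf : ∀ a b, B (f a) (f b) = B a b) (P : (ZMod 2)[X]) (a b : A) :
    B (aeval f P a) b = B a ((aeval f P ^ 2 ^ n) b) := by
  rw [aeval_pow_two_pow]
  set g := f ^ 2 ^ n with hg
  have hfg : f * g = 1 := by rw [hg, ← pow_succ', ← hr, hfr]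
  have hpow : ∀ (i : ℕ) (a b : A), B ((f ^ i) a) b = B a ((g ^ i) b) := by
    intro i
    induction i with
    | zero => intro a b; simp
    | succ i ih =>
      intro a b
      rw [pow_succ f, Module.End.mul_apply, ih, pow_succ' g, Module.End.mul_apply,
        ← hBf a (g ((g ^ i) b)), ← Module.End.mul_apply f g, hfg, Module.End.one_apply]
  induction P using Polynomial.induction_on' with
  | add P Q hP hQ => simp [map_add, LinearMap.add_apply, hP, hQ]
  | monomial i c => simp [aeval_monomial, hpow i]

/-- An operator of order prime to `r` commuting with an irreducible operator of order `r` and preserving a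
non-degenerate invariant form is trivial. -/
theorem unitary_trivial (hr : r = 2 ^ n + 1) {f : Module.End (ZMod 2) A} (hfr : f ^ r = 1) (hf : IsIrred f)
    {B : A →ₗ[ZMod 2] A →ₗ[ZMod 2] ZMod 2} (hBf : ∀ a b, B (f a) (f b) = B a b)
    (hnd : ∀ b, (∀ a, B a b = 0) → b = 0) {y : Module.End (ZMod 2) A} (hy : y * f = f * y)
    (hBy : ∀ a b, B (y a) (y b) = B a b) {m : ℕ} (hym : y ^ m = 1) (hm : m.Coprime r) : y = 1 := by
  obtain ⟨P, hP⟩ := exists_aeval hf hy
  have h1 : y ^ r = 1 := by
    refine LinearMap.ext fun b => sub_eq_zero.1 (hnd _ fun a => ?_)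
    rw [Module.End.one_apply, map_sub, sub_eq_zero, ← hBy a b, hr, pow_succ, Module.End.mul_apply]
    conv_lhs => rw [hP]
    conv_rhs => rw [hP]
    rw [form_adjoint hr hfr hBf P a]
  have h2 : y ^ Nat.gcd m r = 1 := pow_gcd_eq_one.2 ⟨hym, h1⟩
  rwa [hm, pow_one] at h2

/-- Self-adjoint operators commuting with an irreducible operator: there are at most `2 ^ n` of them. -/
theorem card_selfAdjoint_le (hr : r = 2 ^ n + 1) {f : Module.End (ZMod 2) A} (hfr : f ^ r = 1) (hf : IsIrred f)
    (hA : Module.finrank (ZMod 2) A ≤ 2 * n) {B : A →ₗ[ZMod 2] A →ₗ[ZMod 2] ZMod 2}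
    (hBf : ∀ a b, B (f a) (f b) = B a b) (halt : ∀ a, B a a = 0) (hnd : ∀ a, (∀ b, B a b = 0) → a = 0)
    (S : Set (Module.End (ZMod 2) A)) (hS : ∀ h ∈ S, h * f = f * h ∧ ∀ a b, B (h a) b = B a (h b)) :
    Nat.card S ≤ 2 ^ n := by
  classical
  by_cases h0 : ∀ a : A, a = 0
  · haveI : Subsingleton (Module.End (ZMod 2) A) := ⟨fun g h => LinearMap.ext fun a => by simp [h0 a]⟩
    exact le_trans (le_of_le_of_eq (Finite.card_le_one_iff_subsingleton.2 inferInstance) rfl) Nat.one_le_two_pow
  push Not at h0
  obtain ⟨a0, ha0⟩ := h0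
  have hsymm : ∀ a b, B a b = B b a := fun a b => by
    have h := halt (a + b)
    rw [map_add, map_add, LinearMap.add_apply, LinearMap.add_apply, halt a, halt b, add_zero, zero_add] at h
    exact (eq_of_sub_eq_zero (by rwa [CharTwo.sub_eq_add])).symm
  let T : S → (Fin n → ZMod 2) := fun h i => B ((h : Module.End (ZMod 2) A) a0) ((f ^ (i.1 + 1)) a0)
  refine le_of_le_of_eq (Nat.card_le_card_of_injective T ?_) (by simp)
  rintro ⟨g, hg⟩ ⟨h, hh⟩ heq
  refine Subtype.ext (sub_eq_zero.1 ?_)
  set k := g - h with hk
  have hkc : k * f = f * k := by rw [hk, sub_mul, mul_sub, (hS g hg).1, (hS h hh).1]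
  have hks : ∀ a b, B (k a) b = B a (k b) := fun a b => by
    simp only [hk, LinearMap.sub_apply, map_sub, LinearMap.sub_apply, (hS g hg).2 a b, (hS h hh).2 a b]
  obtain ⟨P, hP⟩ := exists_aeval hf hkc
  have hkd : k ^ 2 ^ n = k := LinearMap.ext fun b => sub_eq_zero.1 (hnd _ fun a => by
    rw [map_sub, LinearMap.sub_apply, sub_eq_zero, hsymm ((k ^ 2 ^ n) b), hP, ← form_adjoint hr hfr hBf,
      ← hP, hks, hsymm])
  have hdiag : ∀ a, B (k a) a = 0 := by
    intro a
    rcases Nat.eq_zero_or_pos n with hn | hn
    · rw [hn, mul_zero, Nat.le_zero] at hA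
      haveI := Module.finrank_zero_iff.1 hA
      rw [Subsingleton.elim a 0]
      simp
    obtain ⟨j, hj⟩ : ∃ j, 2 ^ n = j + j := ⟨2 ^ (n - 1), by
      rw [← two_mul, ← pow_succ']; congr 1; omega⟩
    have hsa : ∀ (i : ℕ) (a b : A), B ((k ^ i) a) b = B a ((k ^ i) b) := by
      intro i
      induction i with
      | zero => intro a b; simp
      | succ i ih => intro a b; rw [pow_succ' k, Module.End.mul_apply, hks, ih, ← Module.End.mul_apply, ← pow_succ, pow_succ' k]
    rw [← hkd, hj, pow_add, Module.End.mul_apply, hsa, halt]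
  have hzero : ∀ i ≤ n, B (k a0) ((f ^ i) a0) = 0 := by
    intro i hi
    rcases Nat.eq_zero_or_pos i with rfl | hpos
    · simpa using hdiag a0
    · have := congrFun heq ⟨i - 1, by omega⟩
      simp only [T] at this
      rw [show i - 1 + 1 = i by omega] at this
      rw [hk, LinearMap.sub_apply, map_sub, LinearMap.sub_apply, this, sub_self]
  have hk0 : k a0 = 0 := by
    -- the values at `2 n + 1` consecutive powers vanish, and these span
    set v := k a0 with hv
    let W : ℕ → Submodule (ZMod 2) A := fun m => Submodule.span (ZMod 2) ((fun i : ℕ => (f ^ i) a0) '' Set.Iio m)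
    have hkw : ∀ i j, B ((f ^ i) v) ((f ^ i) ((f ^ j) a0)) = B v ((f ^ j) a0) := by
      intro i
      induction i with
      | zero => intro j; simp
      | succ i ih =>
        intro j
        rw [pow_succ' f i, Module.End.mul_apply, Module.End.mul_apply, hBf, ih]
    have hcomm : ∀ i, (f ^ i) v = k ((f ^ i) a0) := fun i => by
      rw [hv, ← Module.End.mul_apply, ← Module.End.mul_apply, (Commute.pow_right hkc i).eq]
    -- negative powers
    have hneg : ∀ i ≤ n, B ((f ^ i) v) a0 = 0 := fun i hi => by rw [hcomm, hks, hsymm, hzero i hi]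
    have hvan : ∀ i < 2 * n + 1, B ((f ^ n) v) ((f ^ i) a0) = 0 := by
      intro i hi
      rcases le_or_gt n i with h | h
      · obtain ⟨j, rfl⟩ := Nat.exists_eq_add_of_le h
        rw [pow_add, Module.End.mul_apply, hkw, hzero j (by omega)]
      · obtain ⟨j, hj⟩ := Nat.exists_eq_add_of_le h.le
        have e : (f ^ n) v = (f ^ i) ((f ^ j) v) := by rw [hj, pow_add, Module.End.mul_apply]
        have hkw' : ∀ (l : ℕ) (x y : A), B ((f ^ l) x) ((f ^ l) y) = B x y := by
          intro l
          induction l with
          | zero => intro x y; simp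
          | succ l ih => intro x y; rw [pow_succ' f l, Module.End.mul_apply, Module.End.mul_apply, hBf, ih]
        rw [e, hkw', hneg j (by omega)]
    have hstab : ∀ m, (f ^ m) a0 ∈ W m → W m = ⊤ := by
      intro m hm
      refine (hf _ fun b hb => ?_).resolve_left fun h => ha0 ?_
      · have hle : W m ≤ (W m).comap f := Submodule.span_le.2 (by
          rintro _ ⟨i, hi, rfl⟩
          show f ((f ^ i) a0) ∈ W m
          rw [← Module.End.mul_apply, ← pow_succ']
          rcases Nat.lt_or_ge (i + 1) m with h | h
          · exact Submodule.subset_span ⟨i + 1, h, rfl⟩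
          · rwa [show i + 1 = m by simp only [Set.mem_Iio] at hi; omega])
        exact hle hb
      · rw [h, Submodule.mem_bot] at hm
        have h2 : f ^ (2 ^ n * m) * f ^ m = 1 := by
          rw [← pow_add, show 2 ^ n * m + m = r * m by rw [hr]; ring, pow_mul, hfr, one_pow]
        have := congrArg (fun g : Module.End (ZMod 2) A => g a0) h2
        simpa [Module.End.mul_apply, hm] using this.symm
    have htop : ∃ m ≤ 2 * n, W m = ⊤ := by
      by_contra hno
      push Not at hno
      have hgrow : ∀ m ≤ 2 * n + 1, m ≤ Module.finrank (ZMod 2) (W m) := by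
        intro m
        induction m with
        | zero => intro; exact Nat.zero_le _
        | succ m ih =>
          intro hm
          refine Nat.succ_le_of_lt (lt_of_le_of_lt (ih (by omega)) (Submodule.finrank_lt_finrank_of_lt ?_))
          refine lt_of_le_of_ne (Submodule.span_mono (Set.image_mono (Set.Iio_subset_Iio (Nat.le_succ m)))) fun h => ?_
          refine hno m (by omega) (hstab m ?_)
          rw [h]
          exact Submodule.subset_span ⟨m, Nat.lt_succ_self m, rfl⟩
      have := (hgrow _ le_rfl).trans ((Submodule.finrank_le _).trans hA)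
      omega
    obtain ⟨m, hm, hWm⟩ := htop
    have hfv : (f ^ n) v = 0 := hnd _ fun b => by
      have hle : W m ≤ LinearMap.ker (B ((f ^ n) v)) := Submodule.span_le.2 (by
        rintro _ ⟨i, hi, rfl⟩
        exact hvan i (by simp only [Set.mem_Iio] at hi; omega))
      exact hle (hWm.ge Submodule.mem_top)
    have h2 : f ^ (r - n) * f ^ n = 1 := by
      rw [← pow_add, Nat.sub_add_cancel (by rw [hr]; exact (Nat.lt_two_pow_self).le.trans (Nat.le_succ _)), hfr]
    have := congrArg (fun g : Module.End (ZMod 2) A => g v) h2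
    simpa [Module.End.mul_apply, hfv] using this.symm
  refine eq_zero_of_pow_eq_zero hf ha0 fun i => ?_
  rw [← Module.End.mul_apply, (Commute.pow_right hkc i).eq, Module.End.mul_apply, hk0, map_zero]

end Operator

end CfsgLib.FlavellA
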