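import Cfsg.Agent.Lib.FlavellA.Max
import Cfsg.Agent.Lib.Signalizer.Functor
import Cfsg.Prelude.Def_Amalgam

/-!
The maximal invariant subgroup `M` containing `N(D)` and the centralisers modulo the centre of the elements of
`Z` outside the centre.

Blueprint: `blueprint/FlavellA.md`, section 2.
-/

set_option autoImplicit false
set_option linter.unusedSectionVars false
set_option linter.style.haveILetI false

namespace CfsgLib.FlavellA

open Cfsg
open scoped commutatorElement Pointwise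

universe u

variable {X : Type u} [Group X]

/-- The properties of `M` used afterwards. -/
structure MaxData (G R D Z Zc M : Subgroup X) : Prop where
  le : M ≤ G
  ne : M ≠ G
  norm : R ≤ Subgroup.normalizer (M : Set X)
  normD : G ⊓ Subgroup.normalizer (D : Set X) ≤ M
  cent : ∀ t ∈ Z, t ∉ Zc → cmod G {t} ≤ M
  uniq : ∀ L ≤ G, L ≠ G → R ≤ Subgroup.normalizer (L : Set X) → D ≤ L → L ≤ M

/-- The signalizer attached to `t`. -/
def thetaAt (G : Subgroup X) (p : ℕ) (t : X) : Subgroup X := pCoreOf p (cmod G {t})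

theorem mem_cmod_singleton {G : Subgroup X} {t x : X} : x ∈ cmod G {t} ↔ x ∈ G ∧ ⁅x, t⁆ ∈ zentr G :=
  ⟨fun hx => ⟨hx.1, hx.2 t rfl⟩, fun hx => ⟨hx.1, fun _ hu => hu ▸ hx.2⟩⟩

theorem thetaAt_le (G : Subgroup X) (p : ℕ) (t : X) : thetaAt G p t ≤ cmod G {t} := Subgroup.map_subtype_le _

theorem thetaAt_pgroup [Finite X] (G : Subgroup X) (p : ℕ) (t : X) : IsPGroup p (thetaAt G p t) :=
  (CfsgLib.isPGroup_pCore p).map _

theorem le_normalizer_thetaAt {G Y : Subgroup X} {p : ℕ} {t : X}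
    (hY : Y ≤ Subgroup.normalizer (cmod G {t} : Set X)) : Y ≤ Subgroup.normalizer (thetaAt G p t : Set X) :=
  (CfsgLib.le_normalizer_map_characteristic hY (pCore p (cmod G {t}))).1

theorem le_thetaAt {G N : Subgroup X} {p : ℕ} {t : X} (hN : N ≤ cmod G {t}) (hp : IsPGroup p N)
    (hn : cmod G {t} ≤ Subgroup.normalizer (N : Set X)) : N ≤ thetaAt G p t := by
  haveI : (N.subgroupOf (cmod G {t})).Normal := (Subgroup.normal_subgroupOf_iff_le_normalizer hN).2 hn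
  have h1 : N.subgroupOf (cmod G {t}) ≤ pCore p (cmod G {t}) :=
    CfsgLib.le_pCore (hp.of_equiv (Subgroup.subgroupOfEquivOfLe hN).symm)
  exact fun x hx => ⟨⟨x, hN hx⟩, h1 hx, rfl⟩

theorem conj_mem_zentr {G : Subgroup X} {g c : X} (hg : g ∈ G) (hc : c ∈ zentr G) : g * c * g⁻¹ = c := by
  rw [mem_zentr_comm hc hg, mul_inv_cancel_right]

theorem cmod_conj {G : Subgroup X} {g t x : X} (hg : g ∈ G) (hx : x ∈ cmod G {t}) :
    g * x * g⁻¹ ∈ cmod G {g * t * g⁻¹} := by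
  obtain ⟨hxG, hxt⟩ := mem_cmod_singleton.1 hx
  refine mem_cmod_singleton.2 ⟨mul_mem (mul_mem hg hxG) (inv_mem hg), ?_⟩
  rw [show ⁅g * x * g⁻¹, g * t * g⁻¹⁆ = g * ⁅x, t⁆ * g⁻¹ by simp only [commutatorElement_def]; group,
    conj_mem_zentr hg hxt]
  exact hxt

theorem thetaAt_conj [Finite X] {G : Subgroup X} {p : ℕ} {g t x : X} (hg : g ∈ G) (hx : x ∈ thetaAt G p t) :
    g * x * g⁻¹ ∈ thetaAt G p (g * t * g⁻¹) := by
  refine le_thetaAt (N := (thetaAt G p t).map (MulAut.conj g).toMonoidHom) ?_ ((thetaAt_pgroup G p t).map _) ?_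
    ⟨x, hx, rfl⟩
  · rintro _ ⟨y, hy, rfl⟩
    exact cmod_conj hg (thetaAt_le G p t hy)
  · have key : ∀ v ∈ cmod G {g * t * g⁻¹}, ∀ y ∈ (thetaAt G p t).map (MulAut.conj g).toMonoidHom,
        v * y * v⁻¹ ∈ (thetaAt G p t).map (MulAut.conj g).toMonoidHom := by
      rintro v hv _ ⟨y, hy, rfl⟩
      have hv' : g⁻¹ * v * g ∈ cmod G {t} := by
        have := cmod_conj (inv_mem hg) hv
        rwa [inv_inv, show g⁻¹ * (g * t * g⁻¹) * g = t by group] at this
      refine ⟨g⁻¹ * v * g * y * (g⁻¹ * v * g)⁻¹,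
        (Subgroup.mem_normalizer_iff.1 (le_normalizer_thetaAt Subgroup.le_normalizer hv') y).1 hy, ?_⟩
      show g * (g⁻¹ * v * g * y * (g⁻¹ * v * g)⁻¹) * g⁻¹ = v * (g * y * g⁻¹) * v⁻¹
      group
    intro v hv
    rw [Subgroup.mem_normalizer_iff]
    refine fun y => ⟨key v hv y, fun hy => ?_⟩
    have := key v⁻¹ (inv_mem hv) _ hy
    simpa [mul_assoc] using this

theorem cmod_mul_central {G : Subgroup X} {t c : X} (hc : c ∈ zentr G) : cmod G {t * c} = cmod G {t} := by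
  ext x
  simp only [mem_cmod_singleton]
  refine and_congr_right fun hx => ?_
  rw [show ⁅x, t * c⁆ = ⁅x, t⁆ * (t * ⁅x, c⁆ * t⁻¹) by simp only [commutatorElement_def]; group,
    commutatorElement_eq_one_iff_mul_comm.2 (mem_zentr_comm hc hx), mul_one, mul_inv_cancel, mul_one]

theorem thetaAt_mul_central {G : Subgroup X} {p : ℕ} {t c : X} (hc : c ∈ zentr G) :
    thetaAt G p (t * c) = thetaAt G p t := by
  rw [thetaAt, thetaAt, cmod_mul_central hc]

namespace Setup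

variable [Finite X] {G R S D Z Zc : Subgroup X} {p r n : ℕ} (h : Setup G R S D Z Zc p r n)
include h

theorem cmod_R {t : X} (ht : t ∈ Z) : R ≤ Subgroup.normalizer (cmod G {t} : Set X) := by
  have key : ∀ σ ∈ R, ∀ x ∈ cmod G {t}, σ * x * σ⁻¹ ∈ cmod G {t} := by
    intro σ hσ x hx
    obtain ⟨hxG, hxt⟩ := mem_cmod_singleton.1 hx
    refine mem_cmod_singleton.2 ⟨(Subgroup.mem_normalizer_iff.1 (h.normG hσ) x).1 hxG, ?_⟩
    have e : σ * t * σ⁻¹ = t := mul_inv_eq_iff_eq_mul.2 (h.data.Z_centralized ht hσ)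
    have e' : σ * ⁅x, t⁆ * σ⁻¹ = ⁅x, t⁆ :=
      mul_inv_eq_iff_eq_mul.2 (Subgroup.mem_centralizer_iff.1 (h.centR hxt) σ hσ)
    rw [show ⁅σ * x * σ⁻¹, t⁆ = ⁅σ * x * σ⁻¹, σ * t * σ⁻¹⁆ by rw [e],
      show ⁅σ * x * σ⁻¹, σ * t * σ⁻¹⁆ = σ * ⁅x, t⁆ * σ⁻¹ by simp only [commutatorElement_def]; group, e']
    exact hxt
  intro σ hσ
  rw [Subgroup.mem_normalizer_iff]
  refine fun x => ⟨key σ hσ x, fun hx => ?_⟩
  have := key σ⁻¹ (inv_mem hσ) _ hx
  simpa [mul_assoc] using this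

theorem D_le_cmod {t : X} (ht : t ∈ Z) : D ≤ cmod G {t} := fun x hx =>
  mem_cmod_singleton.2 ⟨h.D_le_G hx, by
    rw [commutatorElement_eq_one_iff_mul_comm.2 (h.data.central t ht x hx)]
    exact one_mem _⟩

theorem cmod_ne {t : X} (ht : t ∈ Z) (htc : t ∉ Zc) : cmod G {t} ≠ G := fun e => htc <| by
  refine h.mem_Zc ht ⟨h.Z_le_G ht, ?_⟩
  have hle : ⁅G, G⁆ ≤ Subgroup.centralizer ({t} : Set X) := by
    rw [Subgroup.commutator_le]
    intro a ha b hb
    obtain ⟨-, hc⟩ := mem_cmod_singleton.1 (e.ge ha)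
    obtain ⟨-, hd⟩ := mem_cmod_singleton.1 (e.ge hb)
    rw [Subgroup.mem_centralizer_singleton_iff]
    set c := ⁅a, t⁆ with hcdef
    set d := ⁅b, t⁆ with hddef
    have ea : a * t * a⁻¹ = c * t := by rw [hcdef, commutatorElement_def]; group
    have eb : b * t * b⁻¹ = d * t := by rw [hddef, commutatorElement_def]; group
    have ea' : a⁻¹ * t * a = c⁻¹ * t := by
      calc a⁻¹ * t * a = a⁻¹ * (c⁻¹ * (c * t)) * a := by group
        _ = (a⁻¹ * c⁻¹) * (a * t * a⁻¹) * a := by rw [ea]; group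
        _ = c⁻¹ * t := by rw [mem_zentr_comm (inv_mem hc) (inv_mem ha)]; group
    have eb' : b⁻¹ * t * b = d⁻¹ * t := by
      calc b⁻¹ * t * b = b⁻¹ * (d⁻¹ * (d * t)) * b := by group
        _ = (b⁻¹ * d⁻¹) * (b * t * b⁻¹) * b := by rw [eb]; group
        _ = d⁻¹ * t := by rw [mem_zentr_comm (inv_mem hd) (inv_mem hb)]; group
    refine mul_inv_eq_iff_eq_mul.1 ?_
    calc ⁅a, b⁆ * t * ⁅a, b⁆⁻¹ = a * (b * (a⁻¹ * (b⁻¹ * t * b) * a) * b⁻¹) * a⁻¹ := by
          simp only [commutatorElement_def]; group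
      _ = a * (b * (a⁻¹ * d⁻¹ * t * a) * b⁻¹) * a⁻¹ := by rw [eb']; group
      _ = a * (b * (d⁻¹ * (a⁻¹ * t * a)) * b⁻¹) * a⁻¹ := by rw [mem_zentr_comm (inv_mem hd) (inv_mem ha)]; group
      _ = a * ((b * (d⁻¹ * c⁻¹)) * t * b⁻¹) * a⁻¹ := by rw [ea']; group
      _ = a * ((d⁻¹ * c⁻¹) * (b * t * b⁻¹)) * a⁻¹ := by
        rw [mem_zentr_comm (mul_mem (inv_mem hd) (inv_mem hc)) hb]; group
      _ = (a * (d⁻¹ * c⁻¹ * d)) * t * a⁻¹ := by rw [eb]; group
      _ = (d⁻¹ * c⁻¹ * d) * (a * t * a⁻¹) := by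
        rw [mem_zentr_comm (mul_mem (mul_mem (inv_mem hd) (inv_mem hc)) hd) ha]; group
      _ = (d⁻¹ * (c⁻¹ * d)) * (c * t) := by rw [ea]; group
      _ = (d⁻¹ * (d * c⁻¹)) * (c * t) := by rw [← mem_zentr_comm (inv_mem hc) hd.1]
      _ = t := by group
  rw [h.perfect] at hle
  exact Subgroup.mem_centralizer_iff.2 fun x hx => Subgroup.mem_centralizer_singleton_iff.1 (hle hx)

theorem pelement_centralizes {t x : X} (ht : t ∈ Z) (hx : x ∈ cmod G {t}) {i : ℕ} (hi : x ^ p ^ i = 1) :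
    x * t = t * x := by
  obtain ⟨hxG, hxt⟩ := mem_cmod_singleton.1 hx
  set c := ⁅x, t⁆ with hc
  have e : x * t * x⁻¹ = c * t := by rw [hc, commutatorElement_def]; group
  have key : ∀ k : ℕ, x ^ k * t * (x ^ k)⁻¹ = c ^ k * t := by
    intro k
    induction k with
    | zero => simp
    | succ k ih =>
      calc x ^ (k + 1) * t * (x ^ (k + 1))⁻¹ = x ^ k * (x * t * x⁻¹) * (x ^ k)⁻¹ := by rw [pow_succ]; group
        _ = (x ^ k * c) * t * (x ^ k)⁻¹ := by rw [e]; group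
        _ = c * (x ^ k * t * (x ^ k)⁻¹) := by rw [mem_zentr_comm hxt (pow_mem hxG k)]; group
        _ = c ^ (k + 1) * t := by rw [ih, pow_succ']; group
  have h1 : c ^ p ^ i = 1 := by
    have := key (p ^ i)
    rw [hi, one_mul, inv_one, mul_one] at this
    exact mul_eq_right.1 this.symm
  have h2 : c ^ 2 = 1 := by
    have h3 : (c * t) * (c * t) = 1 := by
      rw [← e, show x * t * x⁻¹ * (x * t * x⁻¹) = x * (t * t) * x⁻¹ by group, h.data.sq_one t ht, mul_one,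
        mul_inv_cancel]
    rw [mul_assoc, ← mul_assoc t, mem_zentr_comm hxt (h.Z_le_G ht), mul_assoc c t t, h.data.sq_one t ht,
      mul_one] at h3
    rwa [pow_two]
  have hc1 : c = 1 := eq_one_of_pow_coprime (by simpa using h.cop_two_pow i 1) h1 h2
  rw [hc1, one_mul] at e
  exact mul_inv_eq_iff_eq_mul.1 e

theorem Z_conj {y z : X} (_hy : y ∈ G) (hyD : y ∈ Subgroup.normalizer (D : Set X)) (hz : z ∈ Z) :
    y * z * y⁻¹ ∈ Z := by
  have hU : D ⊓ Subgroup.centralizer (D : Set X) ≤ Z := h.data.abel _ inf_le_left (by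
      intro σ hσ
      rw [Subgroup.mem_normalizer_iff]
      intro x
      have h1 := Subgroup.mem_normalizer_iff.1 (h.data.norm hσ) x
      refine ⟨fun hx => ⟨h1.1 hx.1, Subgroup.mem_centralizer_iff.2 fun v hv => ?_⟩,
        fun hx => ⟨h1.2 hx.1, Subgroup.mem_centralizer_iff.2 fun v hv => ?_⟩⟩
      · have hv' : σ⁻¹ * v * σ ∈ D := by simpa using h.data.conj_mem (inv_mem hσ) hv
        have e := Subgroup.mem_centralizer_iff.1 hx.2 _ hv'
        calc v * (σ * x * σ⁻¹) = σ * ((σ⁻¹ * v * σ) * x) * σ⁻¹ := by group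
          _ = σ * x * σ⁻¹ * v := by rw [e]; group
      · have e := Subgroup.mem_centralizer_iff.1 hx.2 _ (h.data.conj_mem hσ hv)
        calc v * x = σ⁻¹ * ((σ * v * σ⁻¹) * (σ * x * σ⁻¹)) * σ := by group
          _ = x * v := by rw [e]; group)
    (fun a ha b hb => (Subgroup.mem_centralizer_iff.1 hb.2 a ha.1))
  refine hU ⟨(Subgroup.mem_normalizer_iff.1 hyD z).1 (h.data.Z_le hz), Subgroup.mem_centralizer_iff.2 fun v hv => ?_⟩
  have hv' : y⁻¹ * v * y ∈ D := (Subgroup.mem_normalizer_iff''.1 hyD v).1 hv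
  calc v * (y * z * y⁻¹) = y * ((y⁻¹ * v * y) * z) * y⁻¹ := by group
    _ = y * z * y⁻¹ * v := by rw [h.data.central z hz _ hv']; group

theorem Z_conj_not {y z : X} (hy : y ∈ G) (hz : z ∉ Zc) : y * z * y⁻¹ ∉ Zc := fun hc => hz <| by
  have h1 := conj_mem_zentr (inv_mem hy) (h.Zc_le_zentr hc)
  rw [show y⁻¹ * (y * z * y⁻¹) * y⁻¹⁻¹ = z by group] at h1
  exact h1 ▸ hc

/-- A complement of `Zc` in `Z`. -/
theorem exists_compl : ∃ A ≤ Z, (∀ a ∈ A, a ∈ Zc → a = 1) ∧ ∀ z ∈ Z, ∃ a ∈ A, ∃ c ∈ Zc, z = a * c := by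
  by_cases hb : ∀ c ∈ Zc, c = 1
  · exact ⟨Z, le_rfl, fun a _ ha => hb a ha, fun z hz => ⟨z, hz, 1, one_mem _, (mul_one z).symm⟩⟩
  push Not at hb
  obtain ⟨c, hc, hc1⟩ := hb
  obtain ⟨L, hL, hcL⟩ := h.data.cons c (h.data.Zc_le hc) hc1
  refine ⟨L, hL.le, fun a ha ha' => Subgroup.mem_bot.1 (hL.avoid.le ⟨ha, ha'⟩), fun z hz => ?_⟩
  by_cases hzL : z ∈ L
  · exact ⟨z, hzL, 1, one_mem _, (mul_one z).symm⟩
  · exact ⟨z * c, hL.two z hz c (h.data.Zc_le hc) hzL hcL, c, hc,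
      by rw [mul_assoc, h.data.sq_one c (h.data.Zc_le hc), mul_one]⟩

theorem relIndex_eq_card {A : Subgroup X} (hA : A ≤ Z) (hAc : ∀ a ∈ A, a ∈ Zc → a = 1)
    (hAs : ∀ z ∈ Z, ∃ a ∈ A, ∃ c ∈ Zc, z = a * c) : Zc.relIndex Z = Nat.card A := by
  let f : A → Z ⧸ Zc.subgroupOf Z := fun a => QuotientGroup.mk (⟨a, hA a.2⟩ : Z)
  symm
  refine Nat.card_eq_of_bijective f ⟨fun a b hab => ?_, fun y => QuotientGroup.induction_on y fun z => ?_⟩
  · have h1 : (⟨a, hA a.2⟩ : Z)⁻¹ * ⟨b, hA b.2⟩ ∈ Zc.subgroupOf Z := QuotientGroup.eq.1 hab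
    exact Subtype.ext (inv_mul_eq_one.1 (hAc _ (mul_mem (inv_mem a.2) b.2) h1))
  · obtain ⟨a, ha, c, hc, e⟩ := hAs z z.2
    refine ⟨⟨a, ha⟩, QuotientGroup.eq.2 ?_⟩
    rw [Subgroup.mem_subgroupOf]
    show a⁻¹ * (z : X) ∈ Zc
    rw [e, inv_mul_cancel_left]
    exact hc

theorem ea {A : Subgroup X} (hA : A ≤ Z) : IsElementaryAbelian 2 A :=
  ⟨⟨⟨fun a b => Subtype.ext (h.data.central b (hA b.2) a (h.data.Z_le (hA a.2)))⟩⟩,
    fun a ha => by rw [pow_two]; exact h.data.sq_one a (hA ha)⟩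

theorem max_of_small (hsmall : Zc.relIndex Z < p) :
    MaxData G R D Z Zc (G ⊓ Subgroup.normalizer (D : Set X)) := by
  have hfix : ∀ y ∈ G, y ∈ Subgroup.normalizer (D : Set X) → (∃ i : ℕ, y ^ p ^ i = 1) →
      ∀ z ∈ Z, y * z * y⁻¹ * z⁻¹ ∈ Zc := by
    intro y hy hyD hyi z hz
    obtain ⟨i, hi⟩ := hyi
    let c : Z →* Z :=
      { toFun := fun v => ⟨y * v * y⁻¹, h.Z_conj hy hyD v.2⟩
        map_one' := by ext; simp
        map_mul' := fun v w => by ext; simp [mul_assoc] }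
    haveI : IsMulCommutative Z := (h.ea (le_refl Z)).1
    let f : Z ⧸ Zc.subgroupOf Z → Z ⧸ Zc.subgroupOf Z :=
      QuotientGroup.map (Zc.subgroupOf Z) (Zc.subgroupOf Z) c (fun v hv => by
        rw [Subgroup.mem_comap, Subgroup.mem_subgroupOf]
        show y * (v : X) * y⁻¹ ∈ Zc
        rw [conj_mem_zentr hy (h.Zc_le_zentr (Subgroup.mem_subgroupOf.1 hv))]
        exact hv)
    have hf : ∀ v : Z, f (QuotientGroup.mk v) = QuotientGroup.mk (c v) := fun v => rfl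
    have hit : ∀ k : ℕ, ∀ v : Z, f^[k] (QuotientGroup.mk v) = QuotientGroup.mk (c^[k] v) := by
      intro k
      induction k with
      | zero => exact fun v => rfl
      | succ k ih =>
        intro v
        rw [Function.iterate_succ_apply', Function.iterate_succ_apply', ih, hf]
    have hck : ∀ k : ℕ, ∀ v : Z, ((c^[k] v : Z) : X) = y ^ k * v * (y ^ k)⁻¹ := by
      intro k
      induction k with
      | zero => intro v; simp
      | succ k ih =>
        intro v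
        rw [Function.iterate_succ_apply', pow_succ']
        show y * ((c^[k] v : Z) : X) * y⁻¹ = _
        rw [ih]
        group
    set q₀ : Z ⧸ Zc.subgroupOf Z := QuotientGroup.mk ⟨z, hz⟩ with hq₀
    have hper : Function.IsPeriodicPt f (p ^ i) q₀ := by
      show f^[p ^ i] q₀ = q₀
      rw [hq₀, hit]
      exact congrArg _ (Subtype.ext (by rw [hck, hi]; simp))
    obtain ⟨j, -, hj⟩ := (Nat.dvd_prime_pow h.pprime).1 hper.minimalPeriod_dvd
    have hle : Function.minimalPeriod f q₀ ≤ Zc.relIndex Z := by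
      have h2 : Function.Injective (fun k : Fin (Function.minimalPeriod f q₀) => f^[k] q₀) := fun a b hab =>
        Fin.ext (Function.iterate_injOn_Iio_minimalPeriod a.2 b.2 hab)
      simpa [Subgroup.relIndex, Subgroup.index] using Nat.card_le_card_of_injective _ h2
    have hj0 : j = 0 := by
      by_contra hj0
      have := Nat.le_self_pow hj0 p
      omega
    rw [hj0, pow_zero, Function.minimalPeriod_eq_one_iff_isFixedPt] at hj
    have h1 : f q₀ = q₀ := hj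
    rw [hq₀, hf] at h1
    have h2 : (c ⟨z, hz⟩)⁻¹ * ⟨z, hz⟩ ∈ Zc.subgroupOf Z := QuotientGroup.eq.1 h1
    rw [Subgroup.mem_subgroupOf] at h2
    have h3 : (y * z * y⁻¹)⁻¹ * z ∈ Zc := h2
    have h4 := inv_mem h3
    rw [mul_inv_rev, inv_inv, h.data.central _ (h.Z_conj hy hyD hz) _ (h.data.Z_le (inv_mem hz))] at h4
    exact h4
  have hnone : ∀ Q, IsDR G R D p Q → Q = ⊥ := by
    intro Q hQ
    by_contra hne
    obtain ⟨P, hQP, hP⟩ := h.exists_maximal_DR hQ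
    obtain ⟨y, hy, -, hyD, -, hyi, z, hz, hzc⟩ := h.exists_moving hP fun e => hne (eq_bot_iff.2 (e ▸ hQP))
    exact hzc (hfix y hy hyD hyi z hz)
  have huniq : ∀ L ≤ G, L ≠ G → R ≤ Subgroup.normalizer (L : Set X) → D ≤ L →
      L ≤ G ⊓ Subgroup.normalizer (D : Set X) := by
    intro L hLG hLne hRL hDL
    obtain ⟨Q, hQL, hQp, hLQ, hRQ, -, hdec, -, -⟩ := h.loc_D hLG hLne hRL hDL
    have hQ := hnone Q ⟨hQL.trans hLG, hQp, hRQ, hDL.trans hLQ⟩
    intro x hx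
    obtain ⟨q, hq, hqx⟩ := hdec x hx
    rw [hQ, Subgroup.mem_bot] at hq
    rw [hq, inv_one, one_mul] at hqx
    exact ⟨hLG hx, hqx⟩
  exact ⟨inf_le_left, h.normalizer_ne h.D_le_G (Ne.symm h.G_ne_D) h.D_not_central,
    inf_normalizer_normalized h.normG h.data.norm, le_rfl,
    fun t ht htc => huniq _ (fun x hx => hx.1) (h.cmod_ne ht htc) (h.cmod_R ht) (h.D_le_cmod ht), huniq⟩

/-- The join of the signalizers. -/
theorem max_of_theta {A : Subgroup X} (hA : A ≤ Z) (hA2 : 2 < Nat.card A)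
    (hAc : ∀ a ∈ A, a ∈ Zc → a = 1) {Y : Subgroup X} (hY : Y ≤ G) (hYodd : ¬ 2 ∣ Nat.card Y)
    (hθY : ∀ t ∈ Z, t ∉ Zc → thetaAt G p t ≤ Y) : ∃ M, MaxData G R D Z Zc M := by
  haveI : Fact p.Prime := ⟨h.pprime⟩
  haveI : Fact (Nat.Prime 2) := ⟨Nat.prime_two⟩
  set Θ := ⨆ t : {t : X // t ∈ Z ∧ t ∉ Zc}, thetaAt G p t with hΘ
  have hΘY : Θ ≤ Y := iSup_le fun t => hθY t t.2.1 t.2.2
  have hθΘ : ∀ t ∈ Z, t ∉ Zc → thetaAt G p t ≤ Θ := fun t ht htc =>
    le_iSup (fun t : {t : X // t ∈ Z ∧ t ∉ Zc} => thetaAt G p (t : X)) ⟨t, ht, htc⟩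
  have hΘnorm : G ⊓ Subgroup.normalizer (D : Set X) ≤ Subgroup.normalizer (Θ : Set X) := by
    have key : ∀ g ∈ G ⊓ Subgroup.normalizer (D : Set X), ∀ x ∈ Θ, g * x * g⁻¹ ∈ Θ := by
      intro g hg x hx
      have hle : Θ ≤ Θ.comap (MulAut.conj g).toMonoidHom := iSup_le fun t v hv =>
        hθΘ _ (h.Z_conj hg.1 hg.2 t.2.1) (h.Z_conj_not hg.1 t.2.2) (thetaAt_conj hg.1 hv)
      exact hle hx
    intro g hg
    rw [Subgroup.mem_normalizer_iff]
    refine fun x => ⟨key g hg x, fun hx => ?_⟩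
    have := key g⁻¹ (inv_mem hg) _ hx
    simpa [mul_assoc] using this
  have hRΘ : R ≤ Subgroup.normalizer (Θ : Set X) := by
    intro σ hσ
    have key : ∀ τ ∈ R, ∀ x ∈ Θ, τ * x * τ⁻¹ ∈ Θ := by
      intro τ hτ x hx
      have hle : Θ ≤ Θ.comap (MulAut.conj τ).toMonoidHom := iSup_le fun t v hv =>
        hθΘ _ t.2.1 t.2.2 ((Subgroup.mem_normalizer_iff.1 (le_normalizer_thetaAt (h.cmod_R t.2.1) hτ) v).1 hv)
      exact hle hx
    rw [Subgroup.mem_normalizer_iff]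
    refine fun x => ⟨key σ hσ x, fun hx => ?_⟩
    have := key σ⁻¹ (inv_mem hσ) _ hx
    simpa [mul_assoc] using this
  obtain ⟨M, hMle, hMne, hRM, hNM, hΘM⟩ : ∃ M, M ≤ G ∧ M ≠ G ∧ R ≤ Subgroup.normalizer (M : Set X) ∧
      G ⊓ Subgroup.normalizer (D : Set X) ≤ M ∧ Θ ≤ M := by
    by_cases hb : Θ = ⊥
    · exact ⟨G ⊓ Subgroup.normalizer (D : Set X), inf_le_left,
        h.normalizer_ne h.D_le_G (Ne.symm h.G_ne_D) h.D_not_central, inf_normalizer_normalized h.normG h.data.norm,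
        le_rfl, hb ▸ bot_le⟩
    · refine ⟨G ⊓ Subgroup.normalizer (Θ : Set X), inf_le_left, h.normalizer_ne (hΘY.trans hY) ?_ ?_,
        inf_normalizer_normalized h.normG hRΘ, le_inf inf_le_left hΘnorm,
        le_inf (hΘY.trans hY) Subgroup.le_normalizer⟩
      · intro e
        obtain ⟨b, hb'⟩ := IsPGroup.iff_card.1 h.data.two
        have hb0 : b ≠ 0 := fun e0 => h.D_ne (Subgroup.card_eq_one.1 (by rw [hb', e0, pow_zero]))
        exact hYodd (((dvd_pow_self 2 hb0).trans (hb' ▸ Subgroup.card_dvd_of_le h.D_le_G)).trans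
          (Subgroup.card_dvd_of_le (e ▸ hΘY)))
      · intro hcen
        refine hb (eq_bot_iff.2 (iSup_le fun t => ?_))
        exact (h.centP _ (le_inf ((thetaAt_le G p t).trans fun x hx => hx.1)
          ((hθΘ _ t.2.1 t.2.2).trans hcen)) (thetaAt_pgroup G p t)).le
  have hcent : ∀ t ∈ Z, t ∉ Zc → cmod G {t} ≤ M := by
    intro t ht htc x hx
    obtain ⟨Q, hQL, hQp, hLQ, -, -, hdec, -, -⟩ := h.loc_D (M := cmod G {t}) (fun x hx => hx.1) (h.cmod_ne ht htc)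
      (h.cmod_R ht) (h.D_le_cmod ht)
    obtain ⟨q, hq, hqx⟩ := hdec x hx
    have hqM : q ∈ M := hΘM (hθΘ t ht htc (le_thetaAt hQL hQp hLQ hq))
    have := mul_mem hqM (hNM ⟨G.mul_mem (G.inv_mem (hQL hq).1) hx.1, hqx⟩)
    rwa [mul_inv_cancel_left] at this
  refine ⟨M, hMle, hMne, hRM, hNM, hcent, fun L hLG hLne hRL hDL => ?_⟩
  obtain ⟨Q, hQL, hQp, hLQ, -, -, hdec, -, -⟩ := h.loc_D hLG hLne hRL hDL
  haveI := (h.ea hA).1
  have hAD : A ≤ D := hA.trans h.data.Z_le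
  have hcop : (Nat.card A).Coprime (Nat.card Q) := by
    obtain ⟨a, ha⟩ := IsPGroup.iff_card.1 (h.data.two.to_le hAD)
    obtain ⟨b, hb⟩ := IsPGroup.iff_card.1 hQp
    rw [ha, hb]
    exact (h.cop_two_pow b a).symm
  have hQM : Q ≤ M := by
    rw [← CfsgLib.coprime_generated_by_centralizers (Signalizer.ea_not_cyclic (h.ea hA) hA2)
      (hAD.trans (hDL.trans hLQ)) hcop]
    refine iSup₂_le fun a ha => fun x hx => hcent a (hA ha.1) (fun hc => ha.2 (hAc a ha.1 hc)) ?_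
    refine mem_cmod_singleton.2 ⟨hLG (hQL hx.1), ?_⟩
    rw [commutatorElement_eq_one_iff_mul_comm.2 (Subgroup.mem_centralizer_singleton_iff.1 hx.2)]
    exact one_mem _
  intro x hx
  obtain ⟨q, hq, hqx⟩ := hdec x hx
  have := mul_mem (hQM hq) (hNM ⟨G.mul_mem (G.inv_mem (hLG (hQL hq))) (hLG hx), hqx⟩)
  rwa [mul_inv_cancel_left] at this

theorem theta_functor {A : Subgroup X} (hA : A ≤ Z) (hAc : ∀ a ∈ A, a ∈ Zc → a = 1) :
    IsSolvableSignalizerFunctor 2 A (thetaAt G p) := by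
  haveI : Fact p.Prime := ⟨h.pprime⟩
  have hout : ∀ a ∈ A, a ≠ 1 → a ∉ Zc := fun a ha h1 hc => h1 (hAc a ha hc)
  refine ⟨⟨fun a ha _ x hx => ?_, fun a _ _ hd => ?_, fun a ha _ b hb x hx => ?_, fun a ha ha1 b hb hb1 x hx => ?_⟩,
    fun a _ _ => ?_⟩
  · obtain ⟨i, hi⟩ := thetaAt_pgroup G p a ⟨x, hx⟩
    exact Subgroup.mem_centralizer_singleton_iff.2
      (h.pelement_centralizes (hA ha) (thetaAt_le G p a hx) (congrArg Subtype.val hi))
  · obtain ⟨e, he⟩ := IsPGroup.iff_card.1 (thetaAt_pgroup G p a)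
    rw [he] at hd
    exact h.p_two ((Nat.prime_dvd_prime_iff_eq Nat.prime_two h.pprime).1 (Nat.prime_two.dvd_of_dvd_pow hd)).symm
  · exact (Subgroup.mem_normalizer_iff.1 (le_normalizer_thetaAt Subgroup.le_normalizer
      (h.D_le_cmod (hA ha) (h.data.Z_le (hA hb)))) x).1 hx
  · set Cb := cmod G {b} with hCb
    obtain ⟨Q, hQL, hQp, hLQ, -, -, hdec, -, -⟩ := h.loc_D (M := Cb) (fun x hx => hx.1)
      (h.cmod_ne (hA hb) (hout b hb hb1)) (h.cmod_R (hA hb)) (h.D_le_cmod (hA hb))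
    set P := thetaAt G p a ⊓ Subgroup.centralizer ({b} : Set X) with hP
    have hPC : P ≤ Cb := fun v hv => mem_cmod_singleton.2 ⟨((thetaAt_le G p a) hv.1).1, by
      rw [commutatorElement_eq_one_iff_mul_comm.2 (Subgroup.mem_centralizer_singleton_iff.1 hv.2)]
      exact one_mem _⟩
    have hDP : D ≤ Subgroup.normalizer (P : Set X) := by
      have key : ∀ d ∈ D, ∀ v ∈ P, d * v * d⁻¹ ∈ P := by
        intro d hd v hv
        refine ⟨(Subgroup.mem_normalizer_iff.1 (le_normalizer_thetaAt Subgroup.le_normalizer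
          (h.D_le_cmod (hA ha) hd)) v).1 hv.1, Subgroup.mem_centralizer_singleton_iff.2 ?_⟩
        have e := Subgroup.mem_centralizer_singleton_iff.1 hv.2
        have e2 := h.data.central b (hA hb)
        calc d * v * d⁻¹ * b = d * v * (d⁻¹ * b) := by group
          _ = d * (v * b) * d⁻¹ := by rw [e2 _ (inv_mem hd)]; group
          _ = (d * b) * v * d⁻¹ := by rw [e]; group
          _ = b * (d * v * d⁻¹) := by rw [e2 _ hd]; group
      intro d hd
      rw [Subgroup.mem_normalizer_iff]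
      refine fun v => ⟨key d hd v, fun hv => ?_⟩
      have := key d⁻¹ (inv_mem hd) _ hv
      simpa [mul_assoc] using this
    set P' := Q ⊔ P with hP'
    have hP'p : IsPGroup p P' := by
      rw [hP', sup_comm]
      exact ((thetaAt_pgroup G p a).to_le inf_le_left).to_sup_of_normal_right' hQp (hPC.trans hLQ)
    have hP'C : P' ≤ Cb := sup_le hQL hPC
    have hDP' : D ≤ Subgroup.normalizer (P' : Set X) :=
      le_trans (le_inf ((h.D_le_cmod (hA hb)).trans hLQ) hDP) (Subgroup.normalizer_inf_normalizer_le_normalizer_sup Q P)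
    -- the part of `P'` centralising `D`
    set W := Cb ⊓ Subgroup.normalizer (D : Set X) ⊓ Subgroup.centralizer (Z : Set X) with hW
    have hWP' : W ≤ Subgroup.normalizer (P' : Set X) := by
      intro w hw
      have hwa : w ∈ cmod G {a} := mem_cmod_singleton.2 ⟨hw.1.1.1, by
        rw [commutatorElement_eq_one_iff_mul_comm.2 (Subgroup.mem_centralizer_iff.1 hw.2 a (hA ha)).symm]
        exact one_mem _⟩
      have hwθ : w ∈ Subgroup.normalizer (thetaAt G p a : Set X) := le_normalizer_thetaAt Subgroup.le_normalizer hwa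
      have hwb : w ∈ Subgroup.normalizer ((Subgroup.centralizer ({b} : Set X) : Subgroup X) : Set X) :=
        Subgroup.le_normalizer (Subgroup.mem_centralizer_singleton_iff.2
          (Subgroup.mem_centralizer_iff.1 hw.2 b (hA hb)).symm)
      have hwP : w ∈ Subgroup.normalizer (P : Set X) := Subgroup.mem_normalizer_iff.2 fun v =>
        ⟨fun hv => ⟨(Subgroup.mem_normalizer_iff.1 hwθ v).1 hv.1, (Subgroup.mem_normalizer_iff.1 hwb v).1 hv.2⟩,
          fun hv => ⟨(Subgroup.mem_normalizer_iff.1 hwθ v).2 hv.1, (Subgroup.mem_normalizer_iff.1 hwb v).2 hv.2⟩⟩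
      exact Subgroup.normalizer_inf_normalizer_le_normalizer_sup Q P ⟨hLQ hw.1.1, hwP⟩
    set N := pCoreOf p W with hN
    have hNp : IsPGroup p N := (CfsgLib.isPGroup_pCore p).map _
    have hNW : N ≤ W := Subgroup.map_subtype_le _
    have hPW : P' ⊓ W ≤ N := by
      haveI : ((P' ⊓ W).subgroupOf W).Normal := (Subgroup.normal_subgroupOf_iff_le_normalizer inf_le_right).2
        (le_trans (le_inf hWP' Subgroup.le_normalizer) (fun w hw => Subgroup.mem_normalizer_iff.2 fun v =>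
          ⟨fun hv => ⟨(Subgroup.mem_normalizer_iff.1 hw.1 v).1 hv.1, (Subgroup.mem_normalizer_iff.1 hw.2 v).1 hv.2⟩,
           fun hv => ⟨(Subgroup.mem_normalizer_iff.1 hw.1 v).2 hv.1,
            (Subgroup.mem_normalizer_iff.1 hw.2 v).2 hv.2⟩⟩))
      have h1 : (P' ⊓ W).subgroupOf W ≤ pCore p W :=
        CfsgLib.le_pCore ((hP'p.to_le inf_le_left).of_equiv (Subgroup.subgroupOfEquivOfLe inf_le_right).symm)
      exact fun v hv => ⟨⟨v, hv.2⟩, h1 hv, rfl⟩
    have hND : ∀ v ∈ Cb, v ∈ Subgroup.normalizer (D : Set X) → v ∈ Subgroup.normalizer (N : Set X) := by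
      intro v hv hvD
      have hvW : (Cb ⊓ Subgroup.normalizer (D : Set X) : Subgroup X) ≤ Subgroup.normalizer (W : Set X) := by
        have key : ∀ y ∈ Cb ⊓ Subgroup.normalizer (D : Set X), ∀ w ∈ W, y * w * y⁻¹ ∈ W := by
          intro y hy w hw
          refine ⟨Subgroup.mul_mem _ (Subgroup.mul_mem _ hy hw.1) (Subgroup.inv_mem _ hy), Subgroup.mem_centralizer_iff.2 fun z hz => ?_⟩
          have hz' : y⁻¹ * z * y ∈ Z := by
            simpa using h.Z_conj (inv_mem hy.1.1) (inv_mem hy.2) hz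
          have e := Subgroup.mem_centralizer_iff.1 hw.2 _ hz'
          calc z * (y * w * y⁻¹) = y * ((y⁻¹ * z * y) * w) * y⁻¹ := by group
            _ = y * w * y⁻¹ * z := by rw [e]; group
        intro y hy
        rw [Subgroup.mem_normalizer_iff]
        refine fun w => ⟨key y hy w, fun hw => ?_⟩
        have := key y⁻¹ (inv_mem hy) _ hw
        simpa [mul_assoc] using this
      exact (CfsgLib.le_normalizer_map_characteristic hvW (pCore p W)).1 ⟨hv, hvD⟩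
    have hQN : Q ⊔ N ≤ Cb := sup_le hQL (hNW.trans (inf_le_left.trans inf_le_left))
    have hQNn : Cb ≤ Subgroup.normalizer ((Q ⊔ N : Subgroup X) : Set X) := by
      intro v hv
      obtain ⟨q, hq, hqv⟩ := hdec v hv
      have h1 : q ∈ Subgroup.normalizer ((Q ⊔ N : Subgroup X) : Set X) :=
        Subgroup.le_normalizer (Subgroup.mem_sup_left hq)
      have hm : q⁻¹ * v ∈ Cb := Cb.mul_mem (Cb.inv_mem (hQL hq)) hv
      have h2 : q⁻¹ * v ∈ Subgroup.normalizer ((Q ⊔ N : Subgroup X) : Set X) :=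
        Subgroup.normalizer_inf_normalizer_le_normalizer_sup Q N ⟨hLQ hm, hND _ hm hqv⟩
      have := mul_mem h1 h2
      rwa [mul_inv_cancel_left] at this
    have hQNp : IsPGroup p (Q ⊔ N : Subgroup X) := by
      rw [sup_comm]
      exact hNp.to_sup_of_normal_right' hQp ((hNW.trans (inf_le_left.trans inf_le_left)).trans hLQ)
    refine le_thetaAt hQN hQNp hQNn ?_
    obtain ⟨q, hq, hqx⟩ := hdec x (hPC hx)
    set y := q⁻¹ * x with hy
    have hyP' : y ∈ P' := mul_mem (inv_mem (Subgroup.mem_sup_left hq)) (Subgroup.mem_sup_right hx)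
    have hyD : ∀ d ∈ D, d * y = y * d := by
      intro d hd
      have h1 : d * y * d⁻¹ * y⁻¹ ∈ P' := mul_mem ((Subgroup.mem_normalizer_iff.1 (hDP' hd) y).1 hyP') (inv_mem hyP')
      have h2 : d * y * d⁻¹ * y⁻¹ ∈ D := by
        rw [show d * y * d⁻¹ * y⁻¹ = d * (y * d⁻¹ * y⁻¹) by group]
        exact mul_mem hd ((Subgroup.mem_normalizer_iff.1 hqx _).1 (inv_mem hd))
      obtain ⟨k, hk⟩ := hP'p ⟨_, h1⟩
      obtain ⟨l, hl⟩ := h.data.two ⟨_, h2⟩
      exact mul_inv_eq_iff_eq_mul.1 (mul_inv_eq_one.1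
        (eq_one_of_pow_coprime (h.cop_two_pow k l) (congrArg Subtype.val hk) (congrArg Subtype.val hl)))
    have hyW : y ∈ W := ⟨⟨hP'C hyP', hqx⟩, Subgroup.mem_centralizer_iff.2 fun z hz => hyD z (h.data.Z_le hz)⟩
    have := Subgroup.mul_mem_sup hq (hPW ⟨hyP', hyW⟩)
    rwa [hy, mul_inv_cancel_left] at this
  · haveI : Group.IsNilpotent (thetaAt G p a) := (thetaAt_pgroup G p a).isNilpotent
    infer_instance

/-- The three classes of `Z` outside `Zc` are permuted transitively. -/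
theorem orbit_three (hcard : Zc.relIndex Z = 4) {y z : X} (hy : y ∈ G) (hyD : y ∈ Subgroup.normalizer (D : Set X))
    {i : ℕ} (hi : y ^ p ^ i = 1) (hz : z ∈ Z) (hmove : y * z * y⁻¹ * z⁻¹ ∉ Zc) {t : X} (ht : t ∈ Z)
    (htc : t ∉ Zc) : ∃ k : ℕ, (y ^ k * z * (y ^ k)⁻¹)⁻¹ * t ∈ Zc := by
  have hzc : z ∉ Zc := fun hc => hmove <| by
    rw [conj_mem_zentr hy (h.Zc_le_zentr hc), mul_inv_cancel]; exact one_mem _
  have hyk : ∀ k : ℕ, y ^ k ∈ Subgroup.normalizer (D : Set X) := fun k => pow_mem hyD k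
  let e : ℕ → Z := fun k => ⟨y ^ k * z * (y ^ k)⁻¹, h.Z_conj (pow_mem hy k) (hyk k) hz⟩
  let q : Z → Z ⧸ Zc.subgroupOf Z := QuotientGroup.mk
  have hq : ∀ a b : Z, q a = q b ↔ (a : X)⁻¹ * b ∈ Zc := fun a b => QuotientGroup.eq
  have hne0 : ∀ k, q (e k) ≠ q 1 := fun k hk => by
    rw [hq] at hk
    have h2 : (y ^ k * z * (y ^ k)⁻¹)⁻¹ * 1 ∈ Zc := hk
    rw [mul_one] at h2
    exact h.Z_conj_not (pow_mem hy k) hzc (by simpa using inv_mem h2)
  have h01 : q (e 0) ≠ q (e 1) := fun hk => hmove <| by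
    rw [hq] at hk
    have h2 : (y ^ 0 * z * (y ^ 0)⁻¹)⁻¹ * (y ^ 1 * z * (y ^ 1)⁻¹) ∈ Zc := hk
    rw [pow_zero, one_mul, inv_one, mul_one, pow_one,
      h.data.central _ (h.Z_conj hy hyD hz) _ (h.data.Z_le (inv_mem hz))] at h2
    exact h2
  have h12 : q (e 1) ≠ q (e 2) := fun hk => h01 <| by
    rw [hq] at hk ⊢
    have h2 : (y ^ 1 * z * (y ^ 1)⁻¹)⁻¹ * (y ^ 2 * z * (y ^ 2)⁻¹) ∈ Zc := hk
    have h3 := conj_mem_zentr (inv_mem hy) (h.Zc_le_zentr h2)
    show (y ^ 0 * z * (y ^ 0)⁻¹)⁻¹ * (y ^ 1 * z * (y ^ 1)⁻¹) ∈ Zc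
    rw [← h3] at h2
    rw [pow_two, pow_one] at h2
    rw [pow_zero, one_mul, inv_one, mul_one, pow_one]
    rwa [show y⁻¹ * ((y * z * y⁻¹)⁻¹ * (y * y * z * (y * y)⁻¹)) * y⁻¹⁻¹ = z⁻¹ * (y * z * y⁻¹) by group] at h2
  have h02 : q (e 0) ≠ q (e 2) := fun hk => hmove <| by
    rw [hq] at hk
    have h2 : (y ^ 0 * z * (y ^ 0)⁻¹)⁻¹ * (y ^ 2 * z * (y ^ 2)⁻¹) ∈ Zc := hk
    rw [pow_zero, one_mul, inv_one, mul_one,
      h.data.central _ (h.Z_conj (pow_mem hy 2) (hyk 2) hz) _ (h.data.Z_le (inv_mem hz))] at h2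
    have h3 := h.fix_of_disp (pow_mem hy 2) (i := i) (by rw [← pow_mul, mul_comm, pow_mul, hi, one_pow]) h2
    obtain ⟨m, hm⟩ := Nat.Prime.odd_of_ne_two h.pprime h.p_two |>.pow (n := i)
    have h4 : y = (y ^ 2) ^ (m + 1) := by
      rw [← pow_mul, show 2 * (m + 1) = p ^ i + 1 by omega, pow_succ, hi, one_mul]
    have h5 : Commute y z := h4 ▸ Commute.pow_left h3 (m + 1)
    rw [h5.eq, mul_inv_cancel_right, mul_inv_cancel]
    exact one_mem _
  classical
  haveI : Fintype (Z ⧸ Zc.subgroupOf Z) := Fintype.ofFinite _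
  have hs : ({q 1, q (e 0), q (e 1), q (e 2)} : Finset (Z ⧸ Zc.subgroupOf Z)) = Finset.univ := by
    refine Finset.eq_univ_of_card _ ?_
    rw [← Nat.card_eq_fintype_card, ← Subgroup.index_eq_card]
    change _ = Zc.relIndex Z
    rw [hcard]
    simp [(hne0 0).symm, (hne0 1).symm, (hne0 2).symm, h01, h12, h02]
  have hmem := Finset.mem_univ (q ⟨t, ht⟩)
  rw [← hs] at hmem
  simp only [Finset.mem_insert, Finset.mem_singleton] at hmem
  rcases hmem with h1 | h1 | h1 | h1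
  · exact absurd (by
      rw [hq] at h1
      have h2 : t⁻¹ * 1 ∈ Zc := h1
      simpa using h2) htc
  · exact ⟨0, (hq _ _).1 h1.symm⟩
  · exact ⟨1, (hq _ _).1 h1.symm⟩
  · exact ⟨2, (hq _ _).1 h1.symm⟩

theorem exists_max : ∃ M, MaxData G R D Z Zc M := by
  haveI : Fact (Nat.Prime 2) := ⟨Nat.prime_two⟩
  haveI : Fact p.Prime := ⟨h.pprime⟩
  by_cases hsmall : Zc.relIndex Z < p
  · exact ⟨_, h.max_of_small hsmall⟩
  obtain ⟨A, hA, hAc, hAs⟩ := h.exists_compl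
  have hcardA := h.relIndex_eq_card hA hAc hAs
  have hp3 : 3 ≤ p := by
    have := h.pprime.two_le
    have := h.p_two
    omega
  obtain ⟨l, hl⟩ := IsPGroup.iff_card.1 (h.data.two.to_le (hA.trans h.data.Z_le))
  have hA2 : 2 < Nat.card A := by omega
  by_cases h8 : 2 ^ 3 ≤ Nat.card A
  · have hθ := h.theta_functor hA hAc
    obtain ⟨-, Y, -, hYodd, hYeq⟩ := Signalizer.complete_of_qGroups (h.ea hA) h8 hθ (q := p)
      (fun a _ _ => thetaAt_pgroup G p a)
    refine h.max_of_theta hA hA2 hAc (Y := Y ⊓ G) inf_le_right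
      (fun hd => hYodd (hd.trans (Subgroup.card_dvd_of_le inf_le_left))) fun t ht htc => ?_
    obtain ⟨a, ha, c, hc, rfl⟩ := hAs t ht
    have ha1 : a ≠ 1 := fun e => htc (by rw [e, one_mul]; exact hc)
    refine le_inf ?_ ((thetaAt_le G p _).trans fun x hx => hx.1)
    rw [thetaAt_mul_central (h.Zc_le_zentr hc), ← hYeq a ha ha1]
    exact inf_le_left
  have h4 : Nat.card A = 4 := by
    rw [hl] at h8 hA2 ⊢
    have h1 : l < 3 := by
      by_contra hc
      exact h8 (Nat.pow_le_pow_right two_pos (not_lt.1 hc))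
    interval_cases l <;> norm_num at *
  by_cases hall : ∀ t ∈ Z, t ∉ Zc → thetaAt G p t = ⊥
  · refine h.max_of_theta hA hA2 hAc (Y := ⊥) bot_le (by simp) fun t ht htc => (hall t ht htc).le
  push Not at hall
  obtain ⟨t₁, ht₁, htc₁, hne⟩ := hall
  obtain ⟨P, hP₀, hP⟩ := h.exists_maximal_DR (P₀ := thetaAt G p t₁)
    ⟨(thetaAt_le G p t₁).trans fun x hx => hx.1, thetaAt_pgroup G p t₁, le_normalizer_thetaAt (h.cmod_R ht₁),
      le_normalizer_thetaAt ((h.D_le_cmod ht₁).trans Subgroup.le_normalizer)⟩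
  obtain ⟨y, hy, hyP, hyD, -, ⟨i, hi⟩, z, hz, hzc⟩ := h.exists_moving hP fun e => hne (eq_bot_iff.2 (e ▸ hP₀))
  have horb : ∀ k : ℕ, ∀ t, t ∈ Z → (y ^ k * z * (y ^ k)⁻¹)⁻¹ * t ∈ Zc →
      thetaAt G p t = thetaAt G p (y ^ k * z * (y ^ k)⁻¹) := by
    intro k t _ htk
    conv_lhs => rw [← mul_inv_cancel_left (y ^ k * z * (y ^ k)⁻¹) t]
    exact thetaAt_mul_central (h.Zc_le_zentr htk)
  have hcard : Zc.relIndex Z = 4 := hcardA.trans h4
  obtain ⟨k₁, hk₁⟩ := h.orbit_three hcard hy hyD hi hz hzc ht₁ htc₁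
  have hzP : thetaAt G p z ≤ P := by
    intro x hx
    have h1 := thetaAt_conj (p := p) (pow_mem hy k₁) hx
    rw [← horb k₁ t₁ ht₁ hk₁] at h1
    exact (Subgroup.mem_normalizer_iff.1 (pow_mem hyP k₁) x).2 (hP₀ h1)
  obtain ⟨b, hb⟩ := IsPGroup.iff_card.1 hP.1.pgroup
  refine h.max_of_theta hA hA2 hAc (Y := P) hP.1.le (fun hd => ?_) fun t ht htc x hx => ?_
  · rw [hb] at hd
    exact h.p_two ((Nat.prime_dvd_prime_iff_eq Nat.prime_two h.pprime).1 (Nat.prime_two.dvd_of_dvd_pow hd)).symm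
  · obtain ⟨k, hk⟩ := h.orbit_three hcard hy hyD hi hz hzc ht htc
    rw [horb k t ht hk] at hx
    have h1 := thetaAt_conj (p := p) (inv_mem (pow_mem hy k)) hx
    rw [show (y ^ k)⁻¹ * (y ^ k * z * (y ^ k)⁻¹) * (y ^ k)⁻¹⁻¹ = z by group] at h1
    exact (Subgroup.mem_normalizer_iff.1 (inv_mem (pow_mem hyP k)) x).2 (hzP h1)

/-- `M` is its own normaliser in `G`. -/
theorem normalizer_M {M : Subgroup X} (hM : MaxData G R D Z Zc M) : G ⊓ Subgroup.normalizer (M : Set X) ≤ M := by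
  have hDM : D ≤ M := (le_inf h.D_le_G Subgroup.le_normalizer).trans hM.normD
  exact hM.uniq _ inf_le_left (h.normalizer_ne hM.le hM.ne fun hc => h.D_not_central (hDM.trans hc))
    (inf_normalizer_normalized h.normG hM.norm) (le_inf h.D_le_G (hDM.trans Subgroup.le_normalizer))

end Setup

end CfsgLib.FlavellA
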