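import Cfsg.Agent.Lib.FlavellA.Functor

/-!
Conjugates of elements of `Z` inside `M`: the centralising case and the normal form of a moving element.

Blueprint: `blueprint/FlavellA.md`, section 3.
-/

set_option autoImplicit false
set_option linter.unusedSectionVars false
set_option linter.style.haveILetI false

namespace CfsgLib.FlavellA

open Cfsg
open scoped commutatorElement Pointwise

universe u

variable {X : Type u} [Group X]

/-- The elements normalising `D` and centralising it modulo the centre. -/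
def almostCent (G D : Subgroup X) : Subgroup X := cmod G (D : Set X) ⊓ Subgroup.normalizer (D : Set X)

/-- An element outside `M` in normal form. -/
structure Config (G D S M : Subgroup X) (g : X) : Prop where
  mem : g ∈ G
  notMem : g ∉ M
  left : ∀ x ∈ D, g * x * g⁻¹ ∈ M → g * x * g⁻¹ ∈ S
  right : ∀ x ∈ D, g⁻¹ * x * g ∈ M → g⁻¹ * x * g ∈ S

theorem Config.symm {G D S M : Subgroup X} {g : X} (hg : Config G D S M g) : Config G D S M g⁻¹ :=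
  ⟨inv_mem hg.mem, fun hh => hg.notMem (by simpa using inv_mem hh),
    fun x hx => by rw [inv_inv]; exact hg.right x hx,
    fun x hx => by rw [inv_inv]; exact hg.left x hx⟩

theorem cmod_normalized {G : Subgroup X} {T : Set X} {σ : X} (hG : σ ∈ Subgroup.normalizer (G : Set X))
    (hc : ∀ c ∈ zentr G, σ * c * σ⁻¹ = c) (hT : ∀ t ∈ T, σ * t * σ⁻¹ ∈ T) (hT' : ∀ t ∈ T, σ⁻¹ * t * σ ∈ T) :
    σ ∈ Subgroup.normalizer (cmod G T : Set X) := by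
  rw [Subgroup.mem_normalizer_iff]
  intro x
  refine ⟨fun hx => ⟨(Subgroup.mem_normalizer_iff.1 hG x).1 hx.1, fun t ht => ?_⟩,
    fun hx => ⟨(Subgroup.mem_normalizer_iff.1 hG x).2 hx.1, fun t ht => ?_⟩⟩
  · have e := hc _ (hx.2 _ (hT' t ht))
    rw [show σ * ⁅x, σ⁻¹ * t * σ⁆ * σ⁻¹ = ⁅σ * x * σ⁻¹, t⁆ by simp only [commutatorElement_def]; group] at e
    rw [e]
    exact hx.2 _ (hT' t ht)
  · have hm := hx.2 _ (hT t ht)
    rw [show ⁅σ * x * σ⁻¹, σ * t * σ⁻¹⁆ = σ * ⁅x, t⁆ * σ⁻¹ by simp only [commutatorElement_def]; group] at hm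
    have e := hc _ hm
    have : σ * ⁅x, t⁆ * σ⁻¹ = ⁅x, t⁆ := mul_left_cancel (mul_right_cancel e)
    rwa [this] at hm

namespace Setup

variable [Finite X] {G R S D Z Zc : Subgroup X} {p r n : ℕ} (h : Setup G R S D Z Zc p r n)
include h

theorem R_fix_zentr {σ c : X} (hσ : σ ∈ R) (hc : c ∈ zentr G) : σ * c * σ⁻¹ = c :=
  mul_inv_eq_iff_eq_mul.2 (Subgroup.mem_centralizer_iff.1 (h.centR hc) σ hσ)

theorem inter_R : G ⊓ R = ⊥ := by
  refine (Subgroup.disjoint_of_coprime_natCard ?_).eq_bot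
  exact (h.cop_le le_rfl).symm

/-- An element of `G` normalising `R` centralises it. -/
theorem centralizes_R {c : X} (hc : c ∈ G) (hcR : ∀ σ ∈ R, c * σ * c⁻¹ ∈ R) : ∀ σ ∈ R, σ * c = c * σ := by
  intro σ hσ
  have h1 : c * (σ * c⁻¹ * σ⁻¹) ∈ G :=
    mul_mem hc ((Subgroup.mem_normalizer_iff.1 (h.normG hσ) _).1 (inv_mem hc))
  have h2 : c * (σ * c⁻¹ * σ⁻¹) ∈ R := by
    rw [show c * (σ * c⁻¹ * σ⁻¹) = c * σ * c⁻¹ * σ⁻¹ by group]
    exact mul_mem (hcR σ hσ) (inv_mem hσ)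
  have h3 : c * (σ * c⁻¹ * σ⁻¹) = 1 := Subgroup.mem_bot.1 (h.inter_R.le ⟨h1, h2⟩)
  exact ((commutatorElement_eq_one_iff_mul_comm (g₁ := c) (g₂ := σ)).1
    (by rw [commutatorElement_def, ← h3]; group)).symm

theorem D_le_M {M : Subgroup X} (hM : MaxData G R D Z Zc M) : D ≤ M :=
  (le_inf h.D_le_G Subgroup.le_normalizer).trans hM.normD

theorem S_le_M {M : Subgroup X} (hM : MaxData G R D Z Zc M) : S ≤ M :=
  (le_inf h.S_le h.S_normalizes_D).trans hM.normD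

/-- Two-subgroups of `K` containing `S`, invariant under `R`, move into `S` by fixed elements. -/
theorem conj_into_S_fixed {K : Subgroup X} (hKG : K ≤ G) (hSK : S ≤ K) (hRK : R ≤ Subgroup.normalizer (K : Set X))
    {P : Subgroup X} (hP : P ≤ K) (hP2 : IsPGroup 2 P) (hRP : R ≤ Subgroup.normalizer (P : Set X)) :
    ∃ c ∈ K, (∀ σ ∈ R, σ * c = c * σ) ∧ ∀ x ∈ P, c * x * c⁻¹ ∈ S := by
  haveI : Fact (Nat.Prime 2) := ⟨Nat.prime_two⟩
  obtain ⟨P1, hPP1, hRP1⟩ := CfsgLib.coprime_le_invariant_sylow hRK (h.cop_le hKG) (Or.inl h.R_solvable) hP hP2 hRP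
  obtain ⟨S1, hSS1, hRS1⟩ := CfsgLib.coprime_le_invariant_sylow hRK (h.cop_le hKG) (Or.inl h.R_solvable)
    hSK h.S_two h.S_norm
  have hS1 : (S1 : Subgroup K).map K.subtype = S := (Subgroup.eq_of_le_of_card_ge hSS1
    (Nat.le_of_dvd Nat.card_pos (h.S_max _ ((Subgroup.map_subtype_le _).trans hKG) (S1.2.map _)))).symm
  obtain ⟨c, hcR, hc⟩ := CfsgLib.coprime_invariant_sylow_conj hRK (h.cop_le hKG) (Or.inl h.R_solvable)
    P1 S1 hRP1 hRS1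
  refine ⟨c, c.2, fun σ hσ => Subgroup.mem_centralizer_iff.1 hcR σ hσ, fun x hx => ?_⟩
  obtain ⟨y, hy, rfl⟩ := hPP1 hx
  rw [← hS1, ← hc]
  refine ⟨c * y * c⁻¹, ?_, by simp⟩
  rw [Sylow.pointwise_smul_def, SetLike.mem_coe, Subgroup.mem_pointwise_smul_iff_inv_smul_mem]
  simp [mul_assoc]
  exact hy

/-- Two-subgroups of `M` move into `S`. -/
theorem conj_into_S {M : Subgroup X} (hM : MaxData G R D Z Zc M) {P : Subgroup X} (hP : P ≤ M) (hP2 : IsPGroup 2 P) :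
    ∃ m ∈ M, ∀ x ∈ P, m * x * m⁻¹ ∈ S := by
  haveI : Fact (Nat.Prime 2) := ⟨Nat.prime_two⟩
  obtain ⟨P1, hP1⟩ := (hP2.comap_subtype (K := M)).exists_le_sylow
  obtain ⟨S1, hS1⟩ := (h.S_two.comap_subtype (K := M)).exists_le_sylow
  have hSle : S ≤ (S1 : Subgroup M).map M.subtype := fun x hx => ⟨⟨x, h.S_le_M hM hx⟩, hS1 hx, rfl⟩
  have hSeq : (S1 : Subgroup M).map M.subtype = S := (Subgroup.eq_of_le_of_card_ge hSle
    (Nat.le_of_dvd Nat.card_pos (h.S_max _ ((Subgroup.map_subtype_le _).trans hM.le) (S1.2.map _)))).symm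
  obtain ⟨m, hm⟩ := MulAction.exists_smul_eq M P1 S1
  refine ⟨m, m.2, fun x hx => ?_⟩
  rw [← hSeq, ← hm]
  refine ⟨m * ⟨x, hP hx⟩ * m⁻¹, ?_, by simp⟩
  rw [SetLike.mem_coe, Sylow.smul_def, Sylow.pointwise_smul_def, Subgroup.mem_pointwise_smul_iff_inv_smul_mem]
  have hxP : (⟨x, hP hx⟩ : M) ∈ (P1 : Subgroup M) := hP1 hx
  simpa [mul_assoc] using hxP

/-- Invariant two-subgroups containing `D` have commutator `D` with `R`. -/
theorem commutator_two {P : Subgroup X} (hP : P ≤ G) (hP2 : IsPGroup 2 P) (hRP : R ≤ Subgroup.normalizer (P : Set X))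
    (hDP : D ≤ P) : ⁅P, R⁆ = D := by
  obtain ⟨c, -, hcR, hcP⟩ := h.conj_into_S_fixed le_rfl h.S_le h.normG hP hP2 hRP
  have hge : D ≤ ⁅P, R⁆ := h.data.gen.ge.trans (Subgroup.commutator_mono hDP le_rfl)
  have hle : ⁅P, R⁆ ≤ D.map (MulAut.conj c⁻¹).toMonoidHom := by
    rw [Subgroup.commutator_le]
    intro x hx σ hσ
    refine ⟨c * ⁅x, σ⁆ * c⁻¹, ?_, ?_⟩
    · have e : c * ⁅x, σ⁆ * c⁻¹ = ⁅c * x * c⁻¹, σ⁆ := by
        rw [show c * ⁅x, σ⁆ * c⁻¹ = ⁅c * x * c⁻¹, c * σ * c⁻¹⁆ by simp only [commutatorElement_def]; group,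
          ← hcR σ hσ, mul_inv_cancel_right]
      rw [e, h.D_eq]
      exact Subgroup.commutator_mem_commutator (hcP x hx) hσ
    · show c⁻¹ * (c * ⁅x, σ⁆ * c⁻¹) * c⁻¹⁻¹ = ⁅x, σ⁆
      group
  refine (Subgroup.eq_of_le_of_card_ge hge ?_).symm
  exact (Subgroup.card_le_of_le hle).trans (le_of_eq (Subgroup.card_map_of_injective (MulAut.conj c⁻¹).injective))

/-- `Z` is weakly closed in `S` with respect to `M`. -/
theorem fusion_M {M : Subgroup X} (hM : MaxData G R D Z Zc M) {m z : X} (hm : m ∈ M) (hz : z ∈ Z)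
    (hS : m * z * m⁻¹ ∈ S) : m * z * m⁻¹ ∈ Z := by
  obtain ⟨Q, hQM, hQp, hMQ, -, -, hdec, -, -⟩ := h.loc_D hM.le hM.ne hM.norm (h.D_le_M hM)
  obtain ⟨q, hq, hy⟩ := hdec m hm
  set w := q⁻¹ * m * z * (q⁻¹ * m)⁻¹ with hw
  have hwZ : w ∈ Z := h.Z_conj (G.mul_mem (G.inv_mem (hM.le (hQM hq))) (hM.le hm)) hy hz
  have e : m * z * m⁻¹ = q * w * q⁻¹ := by rw [hw]; group
  rw [e] at hS ⊢
  have hwD := h.data.Z_le hwZ
  have h1 : q * w * q⁻¹ * w⁻¹ ∈ Q := by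
    rw [show q * w * q⁻¹ * w⁻¹ = q * (w * q⁻¹ * w⁻¹) by group]
    exact mul_mem hq ((Subgroup.mem_normalizer_iff.1 (hMQ (h.D_le_M hM hwD)) _).1 (inv_mem hq))
  have h2 : q * w * q⁻¹ * w⁻¹ ∈ S := mul_mem hS (inv_mem (h.D_le_S hwD))
  obtain ⟨i, hi⟩ := hQp ⟨_, h1⟩
  obtain ⟨j, hj⟩ := h.S_two ⟨_, h2⟩
  have h3 := eq_one_of_pow_coprime (h.cop_two_pow i j) (congrArg Subtype.val hi) (congrArg Subtype.val hj)
  rw [mul_inv_eq_one.1 h3]
  exact hwZ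

theorem mem_almostCent {x d : X} (hx : x ∈ almostCent G D) (hd : d ∈ D) : ⁅x, d⁆ ∈ Zc := by
  have h1 := hx.1.2 d hd
  have h2 : ⁅x, d⁆ ∈ D := by
    rw [commutatorElement_def]
    exact mul_mem ((Subgroup.mem_normalizer_iff.1 hx.2 d).1 hd) (inv_mem hd)
  exact h.mem_Zc (h.data.mem_Z h2 fun σ hσ => Subgroup.mem_centralizer_iff.1 (h.centR h1) σ hσ) h1

theorem almostCent_le {M : Subgroup X} (hM : MaxData G R D Z Zc M) : almostCent G D ≤ M :=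
  fun _ hx => hM.normD ⟨hx.1.1, hx.2⟩

theorem R_le_normalizer_almostCent : R ≤ Subgroup.normalizer (almostCent G D : Set X) := by
  intro σ hσ
  have h1 : σ ∈ Subgroup.normalizer (cmod G (D : Set X) : Set X) :=
    cmod_normalized (h.normG hσ) (fun c hc => h.R_fix_zentr hσ hc) (fun t ht => h.data.conj_mem hσ ht)
      (fun t ht => by simpa using h.data.conj_mem (inv_mem hσ) ht)
  have hn := h.data.norm hσ
  rw [Subgroup.mem_normalizer_iff]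
  intro x
  refine ⟨fun hx => ⟨(Subgroup.mem_normalizer_iff.1 h1 x).1 hx.1,
    Subgroup.mul_mem _ (Subgroup.mul_mem _ hn hx.2) (Subgroup.inv_mem _ hn)⟩,
    fun hx => ⟨(Subgroup.mem_normalizer_iff.1 h1 x).2 hx.1, ?_⟩⟩
  have h2 := Subgroup.mul_mem _ (Subgroup.mul_mem _ (Subgroup.inv_mem _ hn) hx.2) hn
  rwa [show σ⁻¹ * (σ * x * σ⁻¹) * σ = x by group] at h2

/-- Two conjugates of `R` in `Y` differ by an element of `G ∩ Y`, up to the centraliser of `R`. -/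
theorem exists_fixed_conj {Y : Subgroup X} (hY : Y ≤ G ⊔ R) {g : X} (hg : g ∈ G) (hRY : R ≤ Y)
    (hgY : ∀ σ ∈ R, g * σ * g⁻¹ ∈ Y) : ∃ k ∈ G ⊓ Y, ∀ σ ∈ R, σ * (k⁻¹ * g) = k⁻¹ * g * σ := by
  haveI : Fact r.Prime := ⟨h.data.rprime⟩
  set R' := R.map (MulAut.conj g).toMonoidHom with hR'
  have hR'Y : R' ≤ Y := by rintro _ ⟨σ, hσ, rfl⟩; exact hgY σ hσ
  have hcardR' : Nat.card R' = r := by
    rw [hR', Subgroup.card_map_of_injective (MulAut.conj g).injective, h.data.cardR]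
  have hdvd : Nat.card Y ∣ Nat.card G * r := by
    refine (Subgroup.card_dvd_of_le hY).trans ?_
    rw [sup_comm G R]
    have := Signalizer.card_sup_dvd (X := G) (Y := R) h.normG
    rw [h.data.cardR, mul_comm, sup_comm G R] at this
    exact this
  have hsyl : ∀ (U : Subgroup X), Nat.card U = r → U ≤ Y →
      ∃ P : Sylow r Y, (P : Subgroup Y).map Y.subtype = U := by
    intro U hU hUY
    obtain ⟨P, hP⟩ := ((IsPGroup.of_card (n := 1) (by rw [pow_one]; exact hU) : IsPGroup r U).comap_subtype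
      (K := Y)).exists_le_sylow
    have hUP : U ≤ (P : Subgroup Y).map Y.subtype := fun x hx => ⟨⟨x, hUY hx⟩, hP hx, rfl⟩
    refine ⟨P, (Subgroup.eq_of_le_of_card_ge hUP ?_).symm⟩
    rw [hU, Subgroup.card_map_of_injective Y.subtype_injective]
    obtain ⟨v, hv⟩ := IsPGroup.iff_card.1 P.2
    rw [hv]
    have h1 : r ^ v ∣ Nat.card G * r := by
      rw [← hv]; exact (Subgroup.card_subgroup_dvd_card _).trans hdvd
    have h2 : r ^ v ∣ r := (Nat.Coprime.pow_left v h.cop.symm).dvd_of_dvd_mul_left h1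
    exact Nat.le_of_dvd h.data.rprime.pos h2
  obtain ⟨P, hP⟩ := hsyl R h.data.cardR hRY
  obtain ⟨P', hP'⟩ := hsyl R' hcardR' hR'Y
  obtain ⟨y, hy⟩ := MulAction.exists_smul_eq Y P P'
  have hconj : ∀ σ ∈ R, (y : X) * σ * (y : X)⁻¹ ∈ R' := by
    intro σ hσ
    rw [← hP', ← hy]
    obtain ⟨σ', hσ', e⟩ := hP.ge hσ
    refine ⟨y * σ' * y⁻¹, ?_, by simp [← e]⟩
    rw [SetLike.mem_coe, Sylow.smul_def, Sylow.pointwise_smul_def, Subgroup.mem_pointwise_smul_iff_inv_smul_mem]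
    simp [mul_assoc]
    exact hσ'
  obtain ⟨k, hk, τ, hτ, e⟩ := CfsgLib.mem_sup_of_le_normalizer h.normG (hY y.2)
  have hkY : k ∈ Y := by
    have := Y.mul_mem y.2 (Y.inv_mem (hRY hτ))
    rwa [← e, mul_inv_cancel_right] at this
  refine ⟨k, ⟨hk, hkY⟩, fun σ hσ => ?_⟩
  have hkg : ∀ ρ ∈ R, g⁻¹ * k * ρ * (g⁻¹ * k)⁻¹ ∈ R := by
    intro ρ hρ
    obtain ⟨ρ', hρ', e'⟩ := hconj (τ⁻¹ * ρ * τ) (mul_mem (mul_mem (inv_mem hτ) hρ) hτ)
    rw [← e, show k * τ * (τ⁻¹ * ρ * τ) * (k * τ)⁻¹ = k * ρ * k⁻¹ by group] at e'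
    have e'' : g * ρ' * g⁻¹ = k * ρ * k⁻¹ := e'
    rw [show g⁻¹ * k * ρ * (g⁻¹ * k)⁻¹ = g⁻¹ * (k * ρ * k⁻¹) * g by group, ← e'',
      show g⁻¹ * (g * ρ' * g⁻¹) * g = ρ' by group]
    exact hρ'
  have h1 := h.centralizes_R (mul_mem (inv_mem hg) hk) hkg σ hσ
  rw [show k⁻¹ * g = (g⁻¹ * k)⁻¹ by group]
  calc σ * (g⁻¹ * k)⁻¹ = (g⁻¹ * k)⁻¹ * ((g⁻¹ * k) * σ) * (g⁻¹ * k)⁻¹ := by group
    _ = (g⁻¹ * k)⁻¹ * σ := by rw [← h1]; group

/-- F2: a conjugate of an element of `Z` centralising `D` modulo the centre comes from `M`. -/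
theorem fusion_centralizing {M : Subgroup X} (hM : MaxData G R D Z Zc M) {g t : X} (hg : g ∈ G) (ht : t ∈ Z)
    (htc : t ∉ Zc) (hu : g * t * g⁻¹ ∈ almostCent G D) : g ∈ M := by
  haveI : Fact (Nat.Prime 2) := ⟨Nat.prime_two⟩
  set K0 := almostCent G D with hK0
  have hK0G : K0 ≤ G := fun x hx => hx.1.1
  obtain ⟨P, -, hRP⟩ := CfsgLib.coprime_le_invariant_sylow h.R_le_normalizer_almostCent (h.cop_le hK0G)
    (Or.inl h.R_solvable) (p := 2) bot_le (IsPGroup.of_bot (G := X))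
    (fun σ _ => Subgroup.mem_normalizer_iff.2 fun y => by simp)
  set P' := (P : Subgroup K0).map K0.subtype with hP'
  have hP'K : P' ≤ K0 := Subgroup.map_subtype_le _
  have hPC : ∀ x ∈ P', ∀ σ ∈ R, σ * x = x * σ := by
    have hPD : R ≤ Subgroup.normalizer ((P' ⊔ D : Subgroup X) : Set X) :=
      le_trans (le_inf hRP h.data.norm) (Subgroup.normalizer_inf_normalizer_le_normalizer_sup P' D)
    have h2 : IsPGroup 2 (P' ⊔ D : Subgroup X) :=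
      (P.2.map _).to_sup_of_normal_right' h.data.two (fun x hx => (hP'K hx).2)
    have hc := h.commutator_two (sup_le (hP'K.trans hK0G) h.D_le_G) h2 hPD le_sup_right
    have hnd : ¬ Z ≤ Zc := fun hle => htc (hle ht)
    have hle : ⁅P', R⁆ ≤ Z := fun v hv => h.data.rad_Zc_le hnd
      (h.data.mem_rad_iff.2 ⟨hc.le (Subgroup.commutator_mono le_sup_left le_rfl hv),
        fun d hd => h.mem_almostCent (hP'K (CfsgLib.commutator_le_of_le_normalizer hRP hv)) hd⟩)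
    have hbot : ⁅P', R⁆ ≤ ⊥ := by
      rw [← CfsgLib.coprime_commutator_commutator hRP (h.cop_le (hP'K.trans hK0G)) (Or.inl h.R_solvable),
        Subgroup.commutator_le]
      intro v hv σ hσ
      rw [Subgroup.mem_bot, commutatorElement_eq_one_iff_mul_comm]
      exact (h.data.Z_centralized (hle hv) hσ).symm
    intro x hx σ hσ
    exact (commutatorElement_eq_one_iff_mul_comm.1
      (Subgroup.mem_bot.1 (hbot (Subgroup.commutator_mem_commutator hx hσ)))).symm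
  obtain ⟨x, hxK, hxP⟩ : ∃ x ∈ K0, x * (g * t * g⁻¹) * x⁻¹ ∈ P' := by
    have hu2 : IsPGroup 2 (Subgroup.zpowers (⟨g * t * g⁻¹, hu⟩ : K0)) := by
      refine fun y => ⟨1, ?_⟩
      obtain ⟨y, k, rfl⟩ := y
      refine Subtype.ext ?_
      show ((⟨g * t * g⁻¹, hu⟩ : K0) ^ k) ^ 2 ^ 1 = 1
      rw [← zpow_natCast, ← zpow_mul, mul_comm, zpow_mul, zpow_natCast, pow_one, pow_two]
      have e : (⟨g * t * g⁻¹, hu⟩ : K0) * ⟨g * t * g⁻¹, hu⟩ = 1 := Subtype.ext (by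
        show g * t * g⁻¹ * (g * t * g⁻¹) = 1
        rw [show g * t * g⁻¹ * (g * t * g⁻¹) = g * (t * t) * g⁻¹ by group, h.data.sq_one t ht]
        group)
      rw [e, one_zpow]
    obtain ⟨P1, hP1⟩ := hu2.exists_le_sylow
    obtain ⟨x, hx⟩ := MulAction.exists_smul_eq K0 P1 P
    refine ⟨x, x.2, x * ⟨g * t * g⁻¹, hu⟩ * x⁻¹, ?_, rfl⟩
    rw [← hx, SetLike.mem_coe, Sylow.smul_def, Sylow.pointwise_smul_def,
      Subgroup.mem_pointwise_smul_iff_inv_smul_mem]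
    simpa [mul_assoc] using hP1 (Subgroup.mem_zpowers _)
  set g' := x * g with hg'
  have hg'G : g' ∈ G := mul_mem (hK0G hxK) hg
  set b := g' * t * g'⁻¹ with hb
  have hbP : b ∈ P' := by
    rwa [hb, hg', show x * g * t * (x * g)⁻¹ = x * (g * t * g⁻¹) * x⁻¹ by group]
  suffices hg'M : g' ∈ M by
    have := M.mul_mem (M.inv_mem (h.almostCent_le hM hxK)) hg'M
    rwa [hg', inv_mul_cancel_left] at this
  set L := cmod G {b} with hL
  have hbR : ∀ σ ∈ R, σ * b * σ⁻¹ = b := fun σ hσ => mul_inv_eq_iff_eq_mul.2 (hPC b hbP σ hσ)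
  have hRL : R ≤ Subgroup.normalizer (L : Set X) := fun σ hσ => cmod_normalized (h.normG hσ)
    (fun c hc => h.R_fix_zentr hσ hc) (fun v hv => by rw [Set.mem_singleton_iff.1 hv]; exact hbR σ hσ)
    (fun v hv => by
      rw [Set.mem_singleton_iff.1 hv]
      simpa using hbR σ⁻¹ (inv_mem hσ))
  have hLG : L ≤ G := fun v hv => hv.1
  have hback : ∀ v ∈ L, g'⁻¹ * v * g' ∈ cmod G {t} := by
    intro v hv
    have h1 := cmod_conj (inv_mem hg'G) hv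
    rwa [inv_inv, hb, show g'⁻¹ * (g' * t * g'⁻¹) * g' = t by group] at h1
  have hLne : L ≠ G := fun e => h.cmod_ne ht htc (le_antisymm (fun v hv => hv.1) fun v hv => by
    have h1 := hback (g' * v * g'⁻¹) (e.ge (mul_mem (mul_mem hg'G hv) (inv_mem hg'G)))
    rwa [show g'⁻¹ * (g' * v * g'⁻¹) * g' = v by group] at h1)
  have hDL : D ≤ L := fun d hd => mem_cmod_singleton.2 ⟨h.D_le_G hd, by
    rw [← commutatorElement_inv]
    exact inv_mem (h.Zc_le_zentr (h.mem_almostCent (hP'K hbP) hd))⟩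
  have hLM : L ≤ M := hM.uniq L hLG hLne hRL hDL
  set Y := (G ⊔ R) ⊓ Subgroup.normalizer (L : Set X) with hY
  obtain ⟨k, ⟨hkG, hkY⟩, hkR⟩ := h.exists_fixed_conj (Y := Y) inf_le_left hg'G
    (le_inf le_sup_right hRL) (fun σ hσ => ⟨Subgroup.mul_mem _ (Subgroup.mul_mem _
      (Subgroup.mem_sup_left hg'G) (Subgroup.mem_sup_right hσ)) (Subgroup.inv_mem _ (Subgroup.mem_sup_left hg'G)),
      CfsgLib.Comp.mem_normalizer_of_maps fun v hv => by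
        have h1 := (Subgroup.mem_normalizer_iff.1 (h.cmod_R ht hσ) _).1 (hback v hv)
        have h2 := cmod_conj hg'G h1
        rwa [← hb, show g' * (σ * (g'⁻¹ * v * g') * σ⁻¹) * g'⁻¹ = g' * σ * g'⁻¹ * v * (g' * σ * g'⁻¹)⁻¹ by
          group] at h2⟩)
  have hkN : k ∈ G ⊓ Subgroup.normalizer (L : Set X) := ⟨hkG, hkY.2⟩
  have hNM : G ⊓ Subgroup.normalizer (L : Set X) ≤ M := hM.uniq _ inf_le_left
    (h.normalizer_ne hLG hLne fun hc => h.D_not_central (hDL.trans hc))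
    (inf_normalizer_normalized h.normG hRL) (le_inf h.D_le_G (hDL.trans Subgroup.le_normalizer))
  set c := k⁻¹ * g' with hc
  have hcG : c ∈ G := mul_mem (inv_mem hkG) hg'G
  -- `c D c⁻¹` is in `L`
  have hcD : ∀ d ∈ D, c * d * c⁻¹ ∈ L := by
    intro d hd
    have h1 := cmod_conj hg'G (h.D_le_cmod ht hd)
    rw [← hb] at h1
    rw [hc, show k⁻¹ * g' * d * (k⁻¹ * g')⁻¹ = k⁻¹ * (g' * d * g'⁻¹) * k by group]
    exact (Subgroup.mem_normalizer_iff''.1 hkY.2 _).1 h1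
  obtain ⟨Q, hQL, -, -, -, -, -, hconj, -⟩ := h.loc_D hLG hLne hRL hDL
  have hsub : D.map (MulAut.conj c).toMonoidHom ≤ ⁅L, R⁆ := by
    rw [← h.data.gen, Subgroup.map_commutator]
    refine Subgroup.commutator_mono ?_ ?_
    · rintro _ ⟨d, hd, rfl⟩; exact hcD d hd
    · rintro _ ⟨σ, hσ, rfl⟩
      show c * σ * c⁻¹ ∈ R
      rw [← hkR σ hσ, mul_inv_cancel_right]
      exact hσ
  obtain ⟨q, hq, hqD⟩ := hconj _ hsub (h.data.two.map _)
  have hqc : q⁻¹ * c ∈ M := hM.normD ⟨G.mul_mem (G.inv_mem (hLG (hQL hq))) hcG,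
    CfsgLib.Comp.mem_normalizer_of_maps fun d hd => by
      have := hqD _ ⟨d, hd, rfl⟩
      rw [show q⁻¹ * c * d * (q⁻¹ * c)⁻¹ = q⁻¹ * (c * d * c⁻¹) * q by group]
      exact this⟩
  have h2 := M.mul_mem (hNM hkN) (M.mul_mem (hLM (hQL hq)) hqc)
  rwa [mul_inv_cancel_left, hc, mul_inv_cancel_left] at h2

/-- Normal form of a moving element, relative to a subgroup `E` of `R` fixing it. -/
theorem exists_config {M : Subgroup X} (hM : MaxData G R D Z Zc M) {E : Subgroup X} (hE : E ≤ R)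
    (hconj : ∀ P ≤ M, IsPGroup 2 P → E ≤ Subgroup.normalizer (P : Set X) →
      ∃ m ∈ M, (∀ σ ∈ E, σ * m = m * σ) ∧ ∀ x ∈ P, m * x * m⁻¹ ∈ S)
    {g t : X} (hg : g ∈ G) (hgM : g ∉ M) (hgE : ∀ σ ∈ E, σ * g = g * σ) (ht : t ∈ Z) (htc : t ∉ Zc)
    (hu : g * t * g⁻¹ ∈ M) :
    ∃ g' t', Config G D S M g' ∧ (∀ σ ∈ E, σ * g' = g' * σ) ∧ t' ∈ Z ∧ t' ∉ Zc ∧ g' * t' * g'⁻¹ ∈ M ∧
      ∃ m ∈ M, ∃ m' ∈ M, g' = m * g * m'⁻¹ := by
  haveI : Fact (Nat.Prime 2) := ⟨Nat.prime_two⟩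
  set u := g * t * g⁻¹ with hudef
  have htM : t ∈ M := h.D_le_M hM (h.data.Z_le ht)
  set H0 := M ⊓ M.comap (MulAut.conj g⁻¹).toMonoidHom with hH0
  have memH0 : ∀ {x : X}, x ∈ H0 ↔ x ∈ M ∧ g⁻¹ * x * g ∈ M := fun {x} => by
    rw [hH0, Subgroup.mem_inf, Subgroup.mem_comap]; simp
  have hEinv : ∀ σ ∈ E, ∀ v, g⁻¹ * (σ * v * σ⁻¹) * g = σ * (g⁻¹ * v * g) * σ⁻¹ := by
    intro σ hσ v
    have e : g⁻¹ * σ = σ * g⁻¹ := by
      calc g⁻¹ * σ = g⁻¹ * (σ * g) * g⁻¹ := by group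
        _ = σ * g⁻¹ := by rw [hgE σ hσ]; group
    calc g⁻¹ * (σ * v * σ⁻¹) * g = (g⁻¹ * σ) * v * (g⁻¹ * σ)⁻¹ := by group
      _ = σ * g⁻¹ * v * (σ * g⁻¹)⁻¹ := by rw [e]
      _ = _ := by group
  have hu2 : u * u = 1 := by
    rw [hudef, show g * t * g⁻¹ * (g * t * g⁻¹) = g * (t * t) * g⁻¹ by group, h.data.sq_one t ht]; group
  have hEu : ∀ σ ∈ E, σ * u * σ⁻¹ = u := by
    intro σ hσ
    rw [hudef]
    calc σ * (g * t * g⁻¹) * σ⁻¹ = (σ * g) * t * (σ * g)⁻¹ := by group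
      _ = g * (σ * t * σ⁻¹) * g⁻¹ := by rw [hgE σ hσ]; group
      _ = g * t * g⁻¹ := by rw [h.data.Z_centralized ht (hE hσ), mul_inv_cancel_right]
  obtain ⟨P0, hP0, hP0max⟩ := (Set.toFinite {P : Subgroup X | P ≤ H0 ∧ IsPGroup 2 P ∧
      E ≤ Subgroup.normalizer (P : Set X) ∧ u ∈ P}).exists_maximal ⟨Subgroup.zpowers u,
    Subgroup.zpowers_le.2 (memH0.2 ⟨hu, by rwa [hudef, show g⁻¹ * (g * t * g⁻¹) * g = t by group]⟩),
    fun y => ⟨1, by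
      obtain ⟨y, k, rfl⟩ := y
      refine Subtype.ext ?_
      show (u ^ k) ^ 2 ^ 1 = 1
      rw [← zpow_natCast, ← zpow_mul, mul_comm, zpow_mul, zpow_natCast, pow_one, pow_two, hu2, one_zpow]⟩,
    fun σ hσ => CfsgLib.Comp.mem_normalizer_of_maps fun v hv => by
      obtain ⟨k, rfl⟩ := hv
      show σ * u ^ k * σ⁻¹ ∈ _
      rw [← conj_zpow, hEu σ hσ]
      exact ⟨k, rfl⟩,
    Subgroup.mem_zpowers u⟩
  obtain ⟨hP0H, hP02, hEP0, huP0⟩ := hP0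
  obtain ⟨m, hm, hmE, hmS⟩ := hconj P0 (hP0H.trans inf_le_left) hP02 hEP0
  set P1 := P0.map (MulAut.conj g⁻¹).toMonoidHom with hP1
  obtain ⟨m', hm', hm'E, hm'S⟩ := hconj P1
    (by rintro _ ⟨v, hv, rfl⟩; simpa using (memH0.1 (hP0H hv)).2) (hP02.map _)
    (fun σ hσ => CfsgLib.Comp.mem_normalizer_of_maps fun v hv => by
      obtain ⟨w, hw, rfl⟩ := hv
      refine ⟨σ * w * σ⁻¹, (Subgroup.mem_normalizer_iff.1 (hEP0 hσ) w).1 hw, ?_⟩
      show g⁻¹ * (σ * w * σ⁻¹) * g⁻¹⁻¹ = σ * (g⁻¹ * w * g⁻¹⁻¹) * σ⁻¹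
      rw [inv_inv]
      exact hEinv σ hσ w)
  set g' := m * g * m'⁻¹ with hg'
  set t' := m' * t * m'⁻¹ with ht'
  have ht'S : t' ∈ S := hm'S t ⟨u, huP0, by
    show g⁻¹ * u * g⁻¹⁻¹ = t
    rw [hudef]; group⟩
  have ht'Z : t' ∈ Z := h.fusion_M hM hm' ht ht'S
  have ht'c : t' ∉ Zc := h.Z_conj_not (hM.le hm') htc
  have hg'G : g' ∈ G := mul_mem (mul_mem (hM.le hm) hg) (inv_mem (hM.le hm'))
  have hg'M : g' ∉ M := fun hh => hgM (by
    have := M.mul_mem (M.mul_mem (M.inv_mem hm) hh) hm'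
    rwa [hg', show m⁻¹ * (m * g * m'⁻¹) * m' = g by group] at this)
  have hu' : g' * t' * g'⁻¹ = m * u * m⁻¹ := by rw [hg', ht', hudef]; group
  have hg'E : ∀ σ ∈ E, σ * g' = g' * σ := by
    intro σ hσ
    have h1 : Commute σ g' := Commute.mul_right (Commute.mul_right (hmE σ hσ) (hgE σ hσ))
      (Commute.inv_right (hm'E σ hσ))
    exact h1
  -- a subgroup of `H0` normalised by `P0` lies in it
  have hclos : ∀ V ≤ H0, IsPGroup 2 V → E ≤ Subgroup.normalizer (V : Set X) →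
      P0 ≤ Subgroup.normalizer (V : Set X) → V ≤ P0 := fun V hV hV2 hEV hPV =>
    le_sup_right.trans (hP0max ⟨sup_le hP0H hV, hP02.to_sup_of_normal_right' hV2 hPV,
      le_trans (le_inf hEP0 hEV) (Subgroup.normalizer_inf_normalizer_le_normalizer_sup P0 V),
      Subgroup.mem_sup_left huP0⟩ le_sup_left)
  refine ⟨g', t', ⟨hg'G, hg'M, ?_, ?_⟩, hg'E, ht'Z, ht'c,
    hu' ▸ mul_mem (mul_mem hm hu) (inv_mem hm), m, hm, m', hm', rfl⟩
  · intro x hx hxM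
    -- `V = g (m'⁻¹ D m') g⁻¹ ∩ M`
    set V := M ⊓ D.map (MulAut.conj (g * m'⁻¹)).toMonoidHom with hV
    have hVP : V ≤ P0 := by
      refine hclos V (fun v hv => memH0.2 ⟨hv.1, ?_⟩) ((h.data.two.map _).to_le inf_le_right) ?_ ?_
      · obtain ⟨d, hd, rfl⟩ := hv.2
        show g⁻¹ * (g * m'⁻¹ * d * (g * m'⁻¹)⁻¹) * g ∈ M
        rw [show g⁻¹ * (g * m'⁻¹ * d * (g * m'⁻¹)⁻¹) * g = m'⁻¹ * d * m' by group]
        exact mul_mem (mul_mem (inv_mem hm') (h.D_le_M hM hd)) hm'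
      · intro σ hσ
        refine CfsgLib.Comp.mem_normalizer_of_maps fun v hv => ⟨(Subgroup.mem_normalizer_iff.1 (hM.norm (hE hσ)) v).1 hv.1, ?_⟩
        obtain ⟨d, hd, rfl⟩ := hv.2
        refine ⟨σ * d * σ⁻¹, h.data.conj_mem (hE hσ) hd, ?_⟩
        have h1 : Commute σ (g * m'⁻¹) := Commute.mul_right (hgE σ hσ) (Commute.inv_right (hm'E σ hσ))
        show g * m'⁻¹ * (σ * d * σ⁻¹) * (g * m'⁻¹)⁻¹ = σ * (g * m'⁻¹ * d * (g * m'⁻¹)⁻¹) * σ⁻¹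
        calc g * m'⁻¹ * (σ * d * σ⁻¹) * (g * m'⁻¹)⁻¹ = (g * m'⁻¹ * σ) * d * (g * m'⁻¹ * σ)⁻¹ := by group
          _ = (σ * (g * m'⁻¹)) * d * (σ * (g * m'⁻¹))⁻¹ := by rw [h1.eq]
          _ = _ := by group
      · intro w hw
        refine CfsgLib.Comp.mem_normalizer_of_maps fun v hv =>
          ⟨M.mul_mem (M.mul_mem (memH0.1 (hP0H hw)).1 hv.1) (M.inv_mem (memH0.1 (hP0H hw)).1), ?_⟩
        obtain ⟨d, hd, rfl⟩ := hv.2
        have hw' := hm'S _ ⟨w, hw, rfl⟩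
        refine ⟨_, (Subgroup.mem_normalizer_iff.1 (h.S_normalizes_D hw') d).1 hd, ?_⟩
        show g * m'⁻¹ * (m' * (g⁻¹ * w * g⁻¹⁻¹) * m'⁻¹ * d * (m' * (g⁻¹ * w * g⁻¹⁻¹) * m'⁻¹)⁻¹) * (g * m'⁻¹)⁻¹ =
          w * (g * m'⁻¹ * d * (g * m'⁻¹)⁻¹) * w⁻¹
        group
    have e : g' * x * g'⁻¹ = m * (g * m'⁻¹ * x * (g * m'⁻¹)⁻¹) * m⁻¹ := by rw [hg']; group
    rw [e] at hxM ⊢
    refine hmS _ (hVP ⟨?_, x, hx, rfl⟩)
    have := M.mul_mem (M.mul_mem (M.inv_mem hm) hxM) hm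
    rwa [show m⁻¹ * (m * (g * m'⁻¹ * x * (g * m'⁻¹)⁻¹) * m⁻¹) * m = g * m'⁻¹ * x * (g * m'⁻¹)⁻¹ by group] at this
  · intro x hx hxM
    -- `V = m⁻¹ D m ∩ g M g⁻¹`
    set V := D.map (MulAut.conj m⁻¹).toMonoidHom ⊓ M.comap (MulAut.conj g⁻¹).toMonoidHom with hV
    have hVP : V ≤ P0 := by
      refine hclos V (le_inf (fun v hv => ?_) inf_le_right) ((h.data.two.map _).to_le inf_le_left) ?_ ?_
      · obtain ⟨d, hd, rfl⟩ := hv.1
        show m⁻¹ * d * m⁻¹⁻¹ ∈ M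
        rw [inv_inv]
        exact mul_mem (mul_mem (inv_mem hm) (h.D_le_M hM hd)) hm
      · intro σ hσ
        refine CfsgLib.Comp.mem_normalizer_of_maps fun v hv => ⟨?_, ?_⟩
        · obtain ⟨d, hd, rfl⟩ := hv.1
          refine ⟨σ * d * σ⁻¹, h.data.conj_mem (hE hσ) hd, ?_⟩
          have h1 : Commute σ m⁻¹ := Commute.inv_right (hmE σ hσ)
          show m⁻¹ * (σ * d * σ⁻¹) * m⁻¹⁻¹ = σ * (m⁻¹ * d * m⁻¹⁻¹) * σ⁻¹
          calc m⁻¹ * (σ * d * σ⁻¹) * m⁻¹⁻¹ = (m⁻¹ * σ) * d * (m⁻¹ * σ)⁻¹ := by group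
            _ = (σ * m⁻¹) * d * (σ * m⁻¹)⁻¹ := by rw [h1.eq]
            _ = _ := by group
        · have hv2 : g⁻¹ * v * g ∈ M := by simpa using Subgroup.mem_comap.1 hv.2
          show g⁻¹ * (σ * v * σ⁻¹) * g⁻¹⁻¹ ∈ M
          rw [inv_inv, hEinv σ hσ]
          exact (Subgroup.mem_normalizer_iff.1 (hM.norm (hE hσ)) _).1 hv2
      · intro w hw
        refine CfsgLib.Comp.mem_normalizer_of_maps fun v hv => ⟨?_, ?_⟩
        · obtain ⟨d, hd, rfl⟩ := hv.1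
          refine ⟨_, (Subgroup.mem_normalizer_iff.1 (h.S_normalizes_D (hmS w hw)) d).1 hd, ?_⟩
          show m⁻¹ * (m * w * m⁻¹ * d * (m * w * m⁻¹)⁻¹) * m⁻¹⁻¹ = w * (m⁻¹ * d * m⁻¹⁻¹) * w⁻¹
          group
        · exact Subgroup.mul_mem _ (Subgroup.mul_mem _ (hP0H hw).2 hv.2) (Subgroup.inv_mem _ (hP0H hw).2)
    have e : g'⁻¹ * x * g' = m' * (g⁻¹ * (m⁻¹ * x * m) * g) * m'⁻¹ := by rw [hg']; group
    rw [e] at hxM ⊢
    refine hm'S _ ⟨m⁻¹ * x * m, hVP ⟨⟨x, hx, by simp⟩, ?_⟩, by simp⟩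
    have := M.mul_mem (M.mul_mem (M.inv_mem hm') hxM) hm'
    rw [show m'⁻¹ * (m' * (g⁻¹ * (m⁻¹ * x * m) * g) * m'⁻¹) * m' = g⁻¹ * (m⁻¹ * x * m) * g by group] at this
    show g⁻¹ * (m⁻¹ * x * m) * g⁻¹⁻¹ ∈ M
    rwa [inv_inv]

end Setup

end CfsgLib.FlavellA
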