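import Cfsg.Agent.Lib.FlavellA.Outer
import Cfsg.Agent.Lib.FlavellA.DFlipBound

/-!
No element of `Z` outside the centre is moved into `M`: an element of `G` doing so lies in `M`.

Blueprint: `blueprint/FlavellA.md`, section 3 (INNER).
-/

set_option autoImplicit false
set_option linter.unusedSectionVars false
set_option linter.style.haveILetI false

namespace CfsgLib.FlavellA

open Cfsg
open scoped commutatorElement Pointwise

universe u

variable {X : Type u} [Group X]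

theorem sq_central_eq {v c : X} (hc : c * c = 1) (hcv : v * c = c * v) {z : X} (hz : v * z * v⁻¹ = c * z) :
    v * v * z = z * (v * v) := by
  refine mul_inv_eq_iff_eq_mul.1 ?_
  calc v * v * z * (v * v)⁻¹ = v * (v * z * v⁻¹) * v⁻¹ := by group
    _ = (v * c) * z * v⁻¹ := by rw [hz]; group
    _ = c * (v * z * v⁻¹) := by rw [hcv]; group
    _ = c * c * z := by rw [hz, mul_assoc]
    _ = z := by rw [hc, one_mul]

namespace Setup

variable [Finite X] {G R S D Z Zc M : Subgroup X} {p r n : ℕ} (h : Setup G R S D Z Zc p r n)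
include h

theorem dvd_relIndex_D : r ∣ Z.relIndex D - 1 := by
  haveI : Fact r.Prime := ⟨h.data.rprime⟩
  letI : MulAction R D :=
    { smul := fun σ x => ⟨σ * x * (σ : X)⁻¹, h.data.conj_mem σ.2 x.2⟩
      one_smul := fun x => Subtype.ext (by show (1 : X) * x * (1 : X)⁻¹ = x; group)
      mul_smul := fun a b x => Subtype.ext (by
        show (a : X) * b * x * ((a : X) * b)⁻¹ = a * (b * x * (b : X)⁻¹) * (a : X)⁻¹
        group) }
  have hmod := (IsPGroup.of_card (n := 1) (by rw [pow_one]; exact h.data.cardR) : IsPGroup r R)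
    |>.card_modEq_card_fixedPoints D
  have hfix : Nat.card (MulAction.fixedPoints R D) = Nat.card Z := by
    refine Nat.card_congr
      { toFun := fun x => ⟨(x : D), h.data.mem_Z (x : D).2 fun σ hσ => by
          have e : σ * ((x : D) : X) * σ⁻¹ = ((x : D) : X) := congrArg Subtype.val (x.2 ⟨σ, hσ⟩)
          exact mul_inv_eq_iff_eq_mul.1 e⟩
        invFun := fun z => ⟨⟨z, h.data.Z_le z.2⟩, fun σ => Subtype.ext (by
          show (σ : X) * z * (σ : X)⁻¹ = z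
          rw [h.data.Z_centralized z.2 σ.2, mul_inv_cancel_right])⟩
        left_inv := fun x => rfl
        right_inv := fun z => rfl }
  rw [hfix] at hmod
  have hidx : Nat.card Z * Z.relIndex D = Nat.card D := by
    have := Subgroup.relIndex_mul_relIndex ⊥ Z D bot_le h.data.Z_le
    rwa [Subgroup.relIndex_bot_left, Subgroup.relIndex_bot_left] at this
  have h1 := (Nat.modEq_iff_dvd' (Subgroup.card_le_of_le h.data.Z_le)).1 hmod.symm
  rw [← hidx] at h1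
  have h2 : r ∣ Nat.card Z * (Z.relIndex D - 1) := by rwa [Nat.mul_sub, mul_one]
  have hc := h.data.coprime_D
  rw [h.data.cardR] at hc
  exact (Nat.Coprime.coprime_dvd_right (Subgroup.card_dvd_of_le h.data.Z_le) hc).dvd_of_dvd_mul_left h2

variable (hM : MaxData G R D Z Zc M) {g : X}
include hM

theorem all_inside (hg : Config G D S M g) {t : X} (ht : t ∈ Z) (htc : t ∉ Zc) (htM : g * t * g⁻¹ ∈ M)
    {z : X} (hz : z ∈ Z) : g⁻¹ * z * g ∈ M :=
  h.inside_of_comm hM hg.mem ht htc (h.Z_le_G hz) (by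
    rw [commutatorElement_eq_one_iff_mul_comm.2 (h.moved_central hM hg ht htc htM z hz).symm]
    exact one_mem _)

theorem all_moved (hg : Config G D S M g) {t : X} (ht : t ∈ Z) (htc : t ∉ Zc) (htM : g * t * g⁻¹ ∈ M)
    {z : X} (hz : z ∈ Z) : g * z * g⁻¹ ∈ M := by
  obtain ⟨t', ht', ht'c, ht'M⟩ := h.exists_back hM hg ⟨t, ht, htc, htM⟩
  have := h.all_inside hM hg.symm ht' ht'c (by rwa [inv_inv]) hz
  rwa [inv_inv] at this

theorem moved_comm_Z (hg : Config G D S M g) (hall : ∀ z ∈ Z, g * z * g⁻¹ ∈ M) {z w : X} (hz : z ∈ Z)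
    (hw : w ∈ Z) : g * z * g⁻¹ * w = w * (g * z * g⁻¹) := by
  by_cases hzc : z ∈ Zc
  · rw [h.conj_Zc hM hg.mem hzc]
    exact h.data.central w hw z (h.data.Z_le hz)
  · exact h.moved_central hM hg hz hzc (hall z hz) w hw

/-- Conjugates of `Z` act on `D` as inner automorphisms. -/
theorem inner_part (hg : Config G D S M g) (hall : ∀ z ∈ Z, g * z * g⁻¹ ∈ M) {z : X} (hz : z ∈ Z) :
    ∃ d ∈ D, d * (g * z * g⁻¹) = g * z * g⁻¹ * d ∧ ∀ x ∈ D, ⁅x, g * z * g⁻¹⁆ = ⁅x, d⁆ := by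
  have hsS := hg.left z (h.data.Z_le hz) (hall z hz)
  obtain ⟨d, hd, τ, hτ, hτa, hτd, -, hs⟩ := h.decomp_involution hsS (h.ss_one hz)
  have hτZ : ∀ w ∈ Z, τ * w = w * τ := fun w hw => by
    have e := h.moved_comm_Z hM hg hall hz hw
    rw [hs, ← mul_assoc w, ← h.data.central w hw d hd] at e
    rw [mul_assoc, mul_assoc] at e
    exact mul_left_cancel e
  have hτD := h.centralizes_of_S hτ hτa.commR hτZ
  refine ⟨d, hd, by rw [hs, mul_assoc, hτd], fun x hx => ?_⟩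
  rw [hs, show ⁅x, d * τ⁆ = ⁅x, d⁆ * (d * ⁅x, τ⁆ * d⁻¹) by simp only [commutatorElement_def]; group,
    commutatorElement_eq_one_iff_mul_comm.2 (hτD x hx), mul_one, mul_inv_cancel, mul_one]

theorem mem_inside_iff (hg : Config G D S M g) (hall : ∀ z ∈ Z, g * z * g⁻¹ ∈ M) {z x : X} (hz : z ∈ Z)
    (hx : x ∈ inside D M g) : ⁅x, g * z * g⁻¹⁆ ∈ Zc ∧ ⁅g⁻¹ * x * g, z⁆ ∈ Zc := by
  obtain ⟨hxD, hxM⟩ := mem_inside.1 hx
  obtain ⟨d, hd, -, hxd⟩ := h.inner_part hM hg hall hz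
  have h1 : ⁅x, g * z * g⁻¹⁆ ∈ Z := by rw [hxd x hxD]; exact h.data.comm x hxD d hd
  have h2 : ⁅g⁻¹ * x * g, z⁆ ∈ Z := by
    rw [commutatorElement_def]
    exact mul_mem ((Subgroup.mem_normalizer_iff.1 (h.S_le_normalizer_Z (hg.right x hxD hxM)) z).1 hz) (inv_mem hz)
  have e : ⁅x, g * z * g⁻¹⁆ = g * ⁅g⁻¹ * x * g, z⁆ * g⁻¹ := by simp only [commutatorElement_def]; group
  have h3 := h.inter_Zc hM hg h2 (e ▸ h1)
  exact ⟨by rw [e, h.conj_Zc hM hg.mem h3]; exact h3, h3⟩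

theorem kernel_sq (hg : Config G D S M g) {v : X} (hv : v ∈ inside D M g)
    (hcomm : ∀ z ∈ Z, v * (g * z * g⁻¹) = g * z * g⁻¹ * v) : v * v ∈ Zc := by
  by_contra hα
  obtain ⟨hvD, hvM⟩ := mem_inside.1 hv
  have hv'S := hg.right v hvD hvM
  obtain ⟨d, hd, τ, hτ, hτR, e⟩ := h.exists_decomp hv'S
  have hv'Z : ∀ z ∈ Z, g⁻¹ * v * g * z = z * (g⁻¹ * v * g) := fun z hz => by
    calc g⁻¹ * v * g * z = g⁻¹ * (v * (g * z * g⁻¹)) * g := by group
      _ = g⁻¹ * (g * z * g⁻¹ * v) * g := by rw [hcomm z hz]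
      _ = z * (g⁻¹ * v * g) := by group
  have hτZ : ∀ z ∈ Z, τ * z = z * τ := fun z hz => by
    have e' := hv'Z z hz
    rw [e, ← mul_assoc z, ← h.data.central z hz d hd] at e'
    rw [mul_assoc, mul_assoc] at e'
    exact mul_left_cancel e'
  have hτD := h.centralizes_of_S hτ hτR hτZ
  refine hg.symm.notMem (h.fusion_centralizing hM hg.symm.mem (h.data.sq v hvD) hα ?_)
  have e2 : g⁻¹ * (v * v) * g⁻¹⁻¹ = d * d * (τ * τ) := by
    calc g⁻¹ * (v * v) * g⁻¹⁻¹ = (g⁻¹ * v * g) * (g⁻¹ * v * g) := by group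
      _ = d * (τ * d) * τ := by rw [e]; group
      _ = d * d * (τ * τ) := by rw [← hτD d hd]; group
  rw [e2]
  refine ⟨⟨G.mul_mem (h.D_le_G (mul_mem hd hd)) (h.S_le (mul_mem hτ hτ)), fun x hx => ?_⟩,
    Subgroup.mul_mem _ (Subgroup.le_normalizer (mul_mem hd hd)) (h.S_normalizes_D (mul_mem hτ hτ))⟩
  rw [commutatorElement_eq_one_iff_mul_comm.2 (?_ : d * d * (τ * τ) * x = x * (d * d * (τ * τ)))]
  · exact one_mem _
  · have hτ2x : τ * τ * x = x * (τ * τ) := by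
      rw [mul_assoc, ← hτD x hx, ← mul_assoc, ← hτD x hx, mul_assoc]
    calc d * d * (τ * τ) * x = d * d * (τ * τ * x) := mul_assoc _ _ _
      _ = (d * d * x) * (τ * τ) := by rw [hτ2x, mul_assoc (d * d) x]
      _ = x * (d * d * (τ * τ)) := by rw [← h.data.central _ (h.data.sq d hd) x hx, mul_assoc]

/-- Conjugating an element of `g Z g⁻¹` by `D` reaches every class of `Z`, and `r` divides the number of classes. -/
theorem transfer (hg : Config G D S M g) (hall : ∀ z ∈ Z, g * z * g⁻¹ ∈ M) {t₀ : X} (ht₀ : t₀ ∈ Z) (ht₀c : t₀ ∉ Zc) :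
    r ∣ Zc.relIndex Z * Zc.relIndex Z - 1 ∧
      ∀ z ∈ Z, z ∉ Zc → ∀ w ∈ Z, ∃ x ∈ D, ⁅x, g * z * g⁻¹⁆ * w ∈ Zc := by
  classical
  have hnd : ¬ Z ≤ Zc := fun hle => ht₀c (hle ht₀)
  set B := inside D M g with hB
  set L := Zc.relIndex Z with hL
  haveI : IsMulCommutative Z := (h.ea le_rfl).1
  have hZB : Z ≤ B := fun z hz => mem_inside.2 ⟨h.data.Z_le hz,
    h.all_inside hM hg ht₀ ht₀c (hall t₀ ht₀) hz⟩
  have hBD : B ≤ D := inside_le
  choose! dd hdD hdcomm hdeq using fun z (hz : z ∈ Z) => h.inner_part hM hg hall hz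
  have hdB : ∀ z ∈ Z, z ∉ Zc → dd z ∈ B := fun z hz hzc => mem_inside.2 ⟨hdD z hz,
    h.inside_of_comm hM hg.mem hz hzc (h.D_le_G (hdD z hz))
      (by rw [commutatorElement_eq_one_iff_mul_comm.2 (hdcomm z hz)]; exact one_mem _)⟩
  -- the map `x ↦ [x, s]`
  let ψ : X → (D →* Z ⧸ Zc.subgroupOf Z) := fun z => if hz : z ∈ Z then
      (QuotientGroup.mk' (Zc.subgroupOf Z)).comp
        (MonoidHom.mk' (fun x : D => (⟨⁅(x : X), dd z⁆, h.data.comm x x.2 _ (hdD z hz)⟩ : Z)) fun a b =>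
          Subtype.ext (h.data.comm_mul_left a.2 b.2 (hdD z hz)))
    else 1
  have hψval : ∀ z ∈ Z, ∀ x : D, ∀ v : Z, (v : X) = ⁅(x : X), dd z⁆ → ψ z x = QuotientGroup.mk v :=
    fun z hz x v hv => by
      simp only [ψ, dif_pos hz]
      exact congrArg QuotientGroup.mk (Subtype.ext hv.symm)
  have hψker : ∀ z ∈ Z, z ∉ Zc → (ψ z).ker = B.subgroupOf D := by
    intro z hz hzc
    ext x
    rw [MonoidHom.mem_ker, hψval z hz x ⟨_, h.data.comm x x.2 _ (hdD z hz)⟩ rfl, QuotientGroup.eq_one_iff,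
      Subgroup.mem_subgroupOf, Subgroup.mem_subgroupOf]
    show ⁅(x : X), dd z⁆ ∈ Zc ↔ _
    rw [← hdeq z hz x x.2]
    exact ⟨fun hc => mem_inside.2 ⟨x.2, h.inside_of_comm hM hg.mem hz hzc (h.D_le_G x.2) (h.Zc_le_zentr hc)⟩,
      fun hx => (h.mem_inside_iff hM hg hall hz hx).1⟩
  have hcard : ∀ z ∈ Z, z ∉ Zc → Nat.card (ψ z).range = B.relIndex D := fun z hz hzc => by
    rw [← Subgroup.index_ker, hψker z hz hzc]; rfl
  have hc : B.relIndex D ≤ L := by
    rw [← hcard t₀ ht₀ ht₀c]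
    exact Subgroup.card_le_card_group _
  -- `z ↦ d` is injective
  have hb : L ≤ Z.relIndex B := by
    let F : Z ⧸ Zc.subgroupOf Z → B ⧸ Z.subgroupOf B := fun q =>
      if hq : (q.out : X) ∈ Zc then QuotientGroup.mk 1 else QuotientGroup.mk ⟨dd q.out, hdB _ q.out.2 hq⟩
    refine Nat.card_le_card_of_injective F fun q q' hqq => ?_
    have key : ∀ a : Z, (a : X) ∉ Zc → dd a ∈ Z → False := fun a ha hda => by
      refine hg.notMem (h.fusion_centralizing hM hg.mem a.2 ha ⟨⟨h.S_le (hg.left _ (h.data.Z_le a.2) (hall _ a.2)),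
        fun x hx => ?_⟩, h.S_normalizes_D (hg.left _ (h.data.Z_le a.2) (hall _ a.2))⟩)
      rw [← commutatorElement_inv, hdeq _ a.2 x hx,
        commutatorElement_eq_one_iff_mul_comm.2 (h.data.central _ hda x hx), inv_one]
      exact one_mem _
    have hrel : ∀ a b : Z, (a : X)⁻¹ * b ∈ Zc → (QuotientGroup.mk a : Z ⧸ Zc.subgroupOf Z) = QuotientGroup.mk b :=
      fun a b hab => QuotientGroup.eq.2 hab
    suffices hqq' : (q.out : X)⁻¹ * q'.out ∈ Zc by
      rw [← q.out_eq', ← q'.out_eq']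
      exact hrel _ _ hqq'
    by_cases hq : (q.out : X) ∈ Zc <;> by_cases hq' : (q'.out : X) ∈ Zc
    · exact mul_mem (inv_mem hq) hq'
    · exfalso
      simp only [F, dif_pos hq, dif_neg hq'] at hqq
      have h1 := QuotientGroup.eq.1 hqq
      rw [inv_one, one_mul, Subgroup.mem_subgroupOf] at h1
      exact key _ hq' h1
    · exfalso
      simp only [F, dif_neg hq, dif_pos hq'] at hqq
      have h1 := QuotientGroup.eq.1 hqq.symm
      rw [inv_one, one_mul, Subgroup.mem_subgroupOf] at h1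
      exact key _ hq h1
    · simp only [F, dif_neg hq, dif_neg hq'] at hqq
      have h1 : (dd q.out)⁻¹ * dd q'.out ∈ Z := Subgroup.mem_subgroupOf.1 (QuotientGroup.eq.1 hqq)
      by_contra hne
      have hzz : (q.out : X)⁻¹ * q'.out ∈ Z := mul_mem (inv_mem q.out.2) q'.out.2
      refine hg.notMem (h.fusion_centralizing hM hg.mem hzz hne ⟨⟨h.S_le (hg.left _ (h.data.Z_le hzz) (hall _ hzz)),
        fun x hx => ?_⟩, h.S_normalizes_D (hg.left _ (h.data.Z_le hzz) (hall _ hzz))⟩)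
      have hia : (q.out : X)⁻¹ = q.out := inv_eq_of_mul_eq_one_right (h.data.sq_one _ q.out.2)
      have hd1 := hdD _ q.out.2
      have hd2 := hdD _ q'.out.2
      have e : ⁅x, g * ((q.out : X)⁻¹ * q'.out) * g⁻¹⁆ = 1 := by
        rw [hia, show g * ((q.out : X) * q'.out) * g⁻¹ = (g * q.out * g⁻¹) * (g * q'.out * g⁻¹) by group,
          show ⁅x, g * (q.out : X) * g⁻¹ * (g * q'.out * g⁻¹)⁆ = ⁅x, g * (q.out : X) * g⁻¹⁆ *
            ((g * (q.out : X) * g⁻¹) * ⁅x, g * q'.out * g⁻¹⁆ * (g * (q.out : X) * g⁻¹)⁻¹) by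
            simp only [commutatorElement_def]; group, hdeq _ q.out.2 x hx, hdeq _ q'.out.2 x hx,
          h.moved_comm_Z hM hg hall q.out.2 (h.data.comm x hx _ hd2), mul_inv_cancel_right]
        rw [show dd (q'.out : X) = dd q.out * ((dd q.out)⁻¹ * dd q'.out) by group,
          h.data.comm_mul_right hx hd1 (h.data.Z_le h1),
          (commutatorElement_eq_one_iff_mul_comm (g₁ := x)).2 (h.data.central _ h1 x hx), mul_one,
          h.data.sq_one _ (h.data.comm x hx _ hd1)]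
      rw [← commutatorElement_inv, e, inv_one]
      exact one_mem _
  have hN : Z.relIndex B * B.relIndex D = Z.relIndex D := Subgroup.relIndex_mul_relIndex Z B D hZB hBD
  -- the kernel of the action on `g Z g⁻¹`
  set K := B ⊓ Subgroup.centralizer ((Z.map (MulAut.conj g).toMonoidHom : Subgroup X) : Set X) with hK
  have hmemK : ∀ {v}, v ∈ K → v ∈ B ∧ ∀ z ∈ Z, v * (g * z * g⁻¹) = g * z * g⁻¹ * v := fun {v} hv =>
    ⟨hv.1, fun z hz => (Subgroup.mem_centralizer_iff.1 hv.2 _ ⟨z, hz, rfl⟩).symm⟩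
  have hZK : Z ≤ K := le_inf hZB fun z hz => Subgroup.mem_centralizer_iff.2 fun v hv => by
    obtain ⟨w, hw, rfl⟩ := hv
    exact h.moved_comm_Z hM hg hall hw hz
  have hKsq : ∀ v ∈ K, v * v ∈ Zc := fun v hv => h.kernel_sq hM hg (hmemK hv).1 (hmemK hv).2
  have hKb : Z.relIndex K ^ 2 ≤ Z.relIndex D := by
    refine h.data.small_bound (inf_le_left.trans hBD) hZK (fun a ha b hb => ?_) hnd
    have h1 := hKsq _ (mul_mem ha hb)
    rw [h.data.sq_mul (hBD ha.1) (hBD hb.1)] at h1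
    have h2 := mul_mem (mul_mem (inv_mem (hKsq b hb)) (inv_mem (hKsq a ha))) h1
    rwa [show (b * b)⁻¹ * (a * a)⁻¹ * (a * a * (b * b) * ⁅a, b⁆) = ⁅a, b⁆ by group] at h2
  have hpos : ∀ U V : Subgroup X, 0 < U.relIndex V := fun U V => by
    rw [Subgroup.relIndex]
    exact Nat.pos_of_ne_zero Subgroup.index_ne_zero_of_finite
  suffices hmain : B.relIndex D = L ∧ r ∣ L * L - 1 by
    refine ⟨hmain.2, fun z hz hzc w hw => ?_⟩
    have htop : (ψ z).range = ⊤ := Subgroup.eq_top_of_card_eq _ (by rw [hcard z hz hzc, hmain.1]; rfl)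
    obtain ⟨x, hx⟩ : (QuotientGroup.mk (⟨w, hw⟩ : Z)) ∈ (ψ z).range := htop ▸ Subgroup.mem_top _
    refine ⟨x, x.2, ?_⟩
    rw [hψval z hz x ⟨_, h.data.comm x x.2 _ (hdD z hz)⟩ rfl, QuotientGroup.eq] at hx
    have h1 : (⁅(x : X), dd z⁆)⁻¹ * w ∈ Zc := hx
    rw [inv_eq_of_mul_eq_one_right (h.data.sq_one _ (h.data.comm x x.2 _ (hdD z hz))), ← hdeq z hz x x.2] at h1
    exact h1
  by_cases hflip : ∃ τ, InvAct R D Z τ ∧ (∀ z ∈ Z, disp τ z ∈ Zc) ∧ ∃ z ∈ Z, z * τ ≠ τ * z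
  · obtain ⟨τ, hτ, hτz, z, hz, hne⟩ := hflip
    have hD4 := (InvAct.relIndex_moved_eq hτz h.data hτ ⟨z, h.data.Z_le hz, hne⟩).2.2
    have hL2 := InvAct.central_bound h.data hτ hτz ⟨z, hz, hne⟩
    have hKB : K.relIndex B ≤ L := by
      have hval : ∀ (v : B) (w : Z), ⁅(v : X), g * (w : X) * g⁻¹⁆ ∈ Zc := fun v w =>
        (h.mem_inside_iff hM hg hall w.2 v.2).1
      have hsign : ∀ a ∈ Zc, ∀ b ∈ Zc, signOf (⊥ : Subgroup X) (a * b) = signOf ⊥ a * signOf ⊥ b := fun a ha b hb =>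
        signOf_mul bot_le (fun u hu v hv hu1 hv1 => by
          rw [Subgroup.mem_bot] at hu1 hv1 ⊢
          have h2 : Nat.card Zc ≤ 2 := h.data.Zc_card
          by_contra h3
          have h4 : u ≠ v := fun e => h3 (by rw [e]; exact h.data.sq_one v (h.data.Zc_le hv))
          haveI : Fintype Zc := Fintype.ofFinite _
          rw [Nat.card_eq_fintype_card] at h2
          have h5 : ({⟨u, hu⟩, ⟨v, hv⟩, 1} : Finset Zc).card ≤ 2 := (Finset.card_le_univ _).trans h2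
          simp [h4, hu1, hv1] at h5) ha hb
      let Φ : B →* Z →* Two :=
        MonoidHom.mk' (fun v => MonoidHom.mk' (fun w : Z => signOf ⊥ ⁅(v : X), g * (w : X) * g⁻¹⁆) fun a b => by
            rw [← hsign _ (hval v a) _ (hval v b), Subgroup.coe_mul,
              show g * ((a : X) * b) * g⁻¹ = g * a * g⁻¹ * (g * b * g⁻¹) by group,
              show ⁅(v : X), g * (a : X) * g⁻¹ * (g * b * g⁻¹)⁆ = ⁅(v : X), g * (a : X) * g⁻¹⁆ *
                ((g * (a : X) * g⁻¹) * ⁅(v : X), g * b * g⁻¹⁆ * (g * (a : X) * g⁻¹)⁻¹) by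
                simp only [commutatorElement_def]; group,
              h.moved_comm_Z hM hg hall a.2 (h.data.Zc_le (hval v b)), mul_inv_cancel_right])
          fun u v => MonoidHom.ext fun w => by
            rw [MonoidHom.mk'_apply, MonoidHom.mul_apply, MonoidHom.mk'_apply, MonoidHom.mk'_apply,
              ← hsign _ (hval u w) _ (hval v w), Subgroup.coe_mul,
              show ⁅(u : X) * v, g * (w : X) * g⁻¹⁆ = (u : X) * ⁅(v : X), g * (w : X) * g⁻¹⁆ * (u : X)⁻¹ *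
                ⁅(u : X), g * (w : X) * g⁻¹⁆ by simp only [commutatorElement_def]; group,
              h.conj_Zc hM (h.D_le_G (hBD u.2)) (hval v w),
              ← mem_zentr_comm (h.Zc_le_zentr (hval v w)) (h.Z_le_G (h.data.Zc_le (hval u w)))]
      have hker : Φ.ker = K.subgroupOf B := by
        ext v
        rw [MonoidHom.mem_ker, Subgroup.mem_subgroupOf]
        refine ⟨fun hv => ⟨v.2, Subgroup.mem_centralizer_iff.2 ?_⟩, fun hv => MonoidHom.ext fun w => ?_⟩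
        · rintro _ ⟨w, hw, rfl⟩
          have h1 : signOf (⊥ : Subgroup X) ⁅(v : X), g * w * g⁻¹⁆ = 1 := DFunLike.congr_fun hv ⟨w, hw⟩
          rw [signOf_eq_one, Subgroup.mem_bot] at h1
          exact (commutatorElement_eq_one_iff_mul_comm.1 h1).symm
        · show signOf (⊥ : Subgroup X) ⁅(v : X), g * (w : X) * g⁻¹⁆ = 1
          rw [signOf_eq_one, Subgroup.mem_bot, commutatorElement_eq_one_iff_mul_comm]
          exact (hmemK hv).2 w w.2
      have hle : Zc.subgroupOf Z ≤ Φ.flip.ker := fun w hw => MonoidHom.ext fun v => by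
        show signOf (⊥ : Subgroup X) ⁅(v : X), g * (w : X) * g⁻¹⁆ = 1
        rw [signOf_eq_one, Subgroup.mem_bot, commutatorElement_eq_one_iff_mul_comm,
          h.conj_Zc hM hg.mem (Subgroup.mem_subgroupOf.1 hw : (w : X) ∈ Zc)]
        exact mem_zentr_comm (h.Zc_le_zentr hw) (h.D_le_G (hBD v.2))
      show (K.subgroupOf B).index ≤ L
      rw [← hker, ← pairing_index_eq Φ]
      exact Nat.le_of_dvd (hpos Zc Z) (Subgroup.index_dvd_of_le hle)
    have hsplit : Z.relIndex B = Z.relIndex K * K.relIndex B :=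
      (Subgroup.relIndex_mul_relIndex Z K B hZK inf_le_left).symm
    have hk : Z.relIndex K ≤ 2 ^ (2 * n) := by
      refine (Nat.pow_le_pow_iff_left two_ne_zero).1 (hKb.trans (le_of_eq ?_))
      rw [hD4, ← pow_mul]; congr 1; omega
    have hmain : 2 ^ (2 * n) * 2 ^ (2 * n) ≤ 2 ^ (2 * n) * (L * B.relIndex D) := by
      calc 2 ^ (2 * n) * 2 ^ (2 * n) = Z.relIndex D := by rw [hD4, ← pow_add]; congr 1; omega
        _ = Z.relIndex K * K.relIndex B * B.relIndex D := by rw [← hsplit, hN]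
        _ ≤ 2 ^ (2 * n) * L * B.relIndex D := Nat.mul_le_mul_right _ (Nat.mul_le_mul hk hKB)
        _ = _ := mul_assoc _ _ _
    have h2n : 2 ^ (2 * n) ≤ L * B.relIndex D := Nat.le_of_mul_le_mul_left hmain (Nat.two_pow_pos _)
    have e2 : (2 : ℕ) ^ (2 * n) = 2 ^ n * 2 ^ n := by rw [two_mul, pow_add]
    have hpn : 0 < (2 : ℕ) ^ n := Nat.two_pow_pos n
    have hLeq : L = 2 ^ n := by
      refine le_antisymm hL2 ?_
      by_contra hlt
      have : L * B.relIndex D < 2 ^ n * 2 ^ n :=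
        lt_of_le_of_lt (Nat.mul_le_mul_left _ hc) (Nat.mul_lt_mul'' (not_le.1 hlt) (not_le.1 hlt))
      omega
    refine ⟨le_antisymm hc ?_, ?_⟩
    · rw [hLeq] at h2n ⊢
      exact Nat.le_of_mul_le_mul_left (e2.symm.le.trans h2n) hpn
    · rw [hLeq, h.data.r_eq, ← pow_two, ← one_pow 2, Nat.sq_sub_sq, one_pow]
      exact dvd_mul_right _ _
  · have hBK : B ≤ K := by
      intro v hv
      refine ⟨hv, Subgroup.mem_centralizer_iff.2 ?_⟩
      rintro _ ⟨z₁, hz₁, rfl⟩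
      obtain ⟨hvD, hvM⟩ := mem_inside.1 hv
      have hv'S := hg.right v hvD hvM
      obtain ⟨d, hd, τ, hτ, hτR, e⟩ := h.exists_decomp hv'S
      have hτconj : ∀ z ∈ Z, τ * z * τ⁻¹ = ⁅g⁻¹ * v * g, z⁆ * z := fun z hz => by
        have hτz := (Subgroup.mem_normalizer_iff.1 (h.S_le_normalizer_Z hτ) z).1 hz
        rw [show ⁅g⁻¹ * v * g, z⁆ * z = d * (τ * z * τ⁻¹) * d⁻¹ by rw [e]; simp only [commutatorElement_def]; group,
          h.data.central _ hτz d hd, mul_inv_cancel_right]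
      have hdisp : ∀ z ∈ Z, disp τ z ∈ Zc := fun z hz => by
        rw [disp, hτconj z hz, mul_inv_cancel_right]
        exact (h.mem_inside_iff hM hg hall hz hv).2
      have hτ2 := h.centralizes_of_S (mul_mem hτ hτ)
        (fun σ hσ => Commute.mul_right (hτR σ hσ) (hτR σ hσ))
        (fun z hz => sq_central_eq (h.data.sq_one _ (h.data.Zc_le (hdisp z hz)))
          (mem_zentr_comm (h.Zc_le_zentr (hdisp z hz)) (h.S_le hτ)) (by rw [disp]; group))
      have hτa : InvAct R D Z τ := ⟨h.S_normalizes_D hτ, hτR, hτ2,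
        fun z hz => (Subgroup.mem_normalizer_iff.1 (h.S_le_normalizer_Z hτ) z).1 hz⟩
      have hτz : z₁ * τ = τ * z₁ := by
        by_contra h3
        exact hflip ⟨τ, hτa, hdisp, z₁, hz₁, h3⟩
      have hv'z : g⁻¹ * v * g * z₁ = z₁ * (g⁻¹ * v * g) := by
        rw [e, mul_assoc, ← hτz, ← mul_assoc, h.data.central z₁ hz₁ d hd, mul_assoc]
      show g * z₁ * g⁻¹ * v = v * (g * z₁ * g⁻¹)
      calc g * z₁ * g⁻¹ * v = g * (z₁ * (g⁻¹ * v * g)) * g⁻¹ := by group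
        _ = g * (g⁻¹ * v * g * z₁) * g⁻¹ := by rw [hv'z]
        _ = v * (g * z₁ * g⁻¹) := by group
    have hKeq : K = B := le_antisymm inf_le_left hBK
    rw [hKeq, ← hN, pow_two] at hKb
    have hbc : Z.relIndex B ≤ B.relIndex D := Nat.le_of_mul_le_mul_left hKb (hpos Z B)
    have hc' : B.relIndex D = L := le_antisymm hc (hb.trans hbc)
    refine ⟨hc', ?_⟩
    have hb' : Z.relIndex B = L := le_antisymm (hbc.trans hc) hb
    have := h.dvd_relIndex_D
    rwa [← hN, hb', hc'] at this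

/-- No configuration exists. -/
theorem config_false (hg : Config G D S M g) (hex : ∃ t ∈ Z, t ∉ Zc ∧ g * t * g⁻¹ ∈ M) : False := by
  classical
  obtain ⟨t₀, ht₀, ht₀c, ht₀M⟩ := hex
  have hall : ∀ z ∈ Z, g * z * g⁻¹ ∈ M := fun z hz => h.all_moved hM hg ht₀ ht₀c ht₀M hz
  have hall' : ∀ z ∈ Z, g⁻¹ * z * g⁻¹⁻¹ ∈ M := fun z hz => by
    rw [inv_inv]; exact h.all_inside hM hg ht₀ ht₀c ht₀M hz
  obtain ⟨hr, htr⟩ := h.transfer hM hg hall ht₀ ht₀c
  obtain ⟨-, htr'⟩ := h.transfer hM hg.symm hall' ht₀ ht₀c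
  set Z' := Z.map (MulAut.conj g).toMonoidHom with hZ'
  have hZ'n : Z' ≤ Subgroup.normalizer (Z : Set X) := by
    rintro _ ⟨b, hb, rfl⟩
    exact h.S_le_normalizer_Z (hg.left b (h.data.Z_le hb) (hall b hb))
  set V := Z ⊔ Z' with hV
  have hsplit : ∀ v ∈ V, ∃ a ∈ Z, ∃ b ∈ Z, v = a * (g * b * g⁻¹) := by
    intro v hv
    obtain ⟨a, ha, _, ⟨b, hb, rfl⟩, e⟩ := CfsgLib.mem_sup_of_le_normalizer hZ'n hv
    exact ⟨a, ha, b, hb, e.symm⟩
  have hmk : ∀ {a b : X}, a ∈ Z → b ∈ Z → a * (g * b * g⁻¹) ∈ V := fun ha hb =>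
    Subgroup.mul_mem_sup ha ⟨_, hb, rfl⟩
  have hVG : V ≤ G := sup_le h.Z_le_G (by
    rintro _ ⟨b, hb, rfl⟩
    exact mul_mem (mul_mem hg.mem (h.Z_le_G hb)) (inv_mem hg.mem))
  haveI : (Zc.subgroupOf V).Normal := ⟨fun c hc v => by
    rw [Subgroup.mem_subgroupOf] at hc ⊢
    show (v : X) * c * (v : X)⁻¹ ∈ Zc
    rw [h.conj_Zc hM (hVG v.2) hc]
    exact hc⟩
  set H := D ⊔ D.map (MulAut.conj g).toMonoidHom with hH
  have hHG : H ≤ G := sup_le h.D_le_G (by
    rintro _ ⟨d, hd, rfl⟩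
    exact mul_mem (mul_mem hg.mem (h.D_le_G hd)) (inv_mem hg.mem))
  -- `D` and its conjugate normalise `V`
  have hcl : ∀ g₁, ∀ hg₁ : Config G D S M g₁, (∀ z ∈ Z, g₁ * z * g₁⁻¹ ∈ M) → ∀ x ∈ D, ∀ a ∈ Z, ∀ b ∈ Z,
      ∃ c ∈ Z, x * (a * (g₁ * b * g₁⁻¹)) * x⁻¹ = c * a * (g₁ * b * g₁⁻¹) ∧ c = ⁅x, g₁ * b * g₁⁻¹⁆ := by
    intro g₁ hg₁ hall₁ x hx a ha b hb
    obtain ⟨d, hd, -, hxd⟩ := h.inner_part hM hg₁ hall₁ hb
    have hc : ⁅x, g₁ * b * g₁⁻¹⁆ ∈ Z := by rw [hxd x hx]; exact h.data.comm x hx d hd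
    refine ⟨_, hc, ?_, rfl⟩
    calc x * (a * (g₁ * b * g₁⁻¹)) * x⁻¹ = (x * a) * (g₁ * b * g₁⁻¹) * x⁻¹ := by group
      _ = a * (x * (g₁ * b * g₁⁻¹) * x⁻¹) := by rw [h.data.central a ha x hx]; group
      _ = a * ⁅x, g₁ * b * g₁⁻¹⁆ * (g₁ * b * g₁⁻¹) := by simp only [commutatorElement_def]; group
      _ = _ := by rw [h.data.central _ hc a (h.data.Z_le ha)]
  have hswap : ∀ {a b : X}, a ∈ Z → b ∈ Z → g * ((g⁻¹ * a * g⁻¹⁻¹) * b) * g⁻¹ = a * (g * b * g⁻¹) := fun _ _ => by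
    group
  have hcl' : ∀ y ∈ D, ∀ a ∈ Z, ∀ b ∈ Z, ∃ c ∈ Z,
      g * y * g⁻¹ * (a * (g * b * g⁻¹)) * (g * y * g⁻¹)⁻¹ = a * (g * (c * b) * g⁻¹) ∧
        c = ⁅y, g⁻¹ * a * g⁻¹⁻¹⁆ := by
    intro y hy a ha b hb
    obtain ⟨c, hc, e, hce⟩ := hcl g⁻¹ hg.symm hall' y hy b hb a ha
    refine ⟨c, hc, ?_, hce⟩
    have e1 : b * (g⁻¹ * a * g⁻¹⁻¹) = g⁻¹ * a * g⁻¹⁻¹ * b :=
      (h.moved_comm_Z hM hg.symm hall' ha hb).symm
    calc g * y * g⁻¹ * (a * (g * b * g⁻¹)) * (g * y * g⁻¹)⁻¹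
        = g * (y * ((g⁻¹ * a * g⁻¹⁻¹) * b) * y⁻¹) * g⁻¹ := by group
      _ = g * (c * b * (g⁻¹ * a * g⁻¹⁻¹)) * g⁻¹ := by rw [← e1, e]
      _ = g * ((g⁻¹ * a * g⁻¹⁻¹) * (c * b)) * g⁻¹ := by
        rw [h.moved_comm_Z hM hg.symm hall' ha (mul_mem hc hb)]
      _ = _ := by group
  have hHV : H ≤ Subgroup.normalizer (V : Set X) := by
    refine sup_le (fun x hx => CfsgLib.Comp.mem_normalizer_of_maps fun v hv => ?_) ?_
    · obtain ⟨a, ha, b, hb, rfl⟩ := hsplit v hv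
      obtain ⟨c, hc, e, -⟩ := hcl g hg hall x hx a ha b hb
      rw [e]
      exact hmk (mul_mem hc ha) hb
    · rintro _ ⟨y, hy, rfl⟩
      refine CfsgLib.Comp.mem_normalizer_of_maps fun v hv => ?_
      obtain ⟨a, ha, b, hb, rfl⟩ := hsplit v hv
      obtain ⟨c, hc, e, -⟩ := hcl' y hy a ha b hb
      show g * y * g⁻¹ * _ * (g * y * g⁻¹)⁻¹ ∈ V
      rw [e]
      exact hmk ha (mul_mem hc hb)
  let conjV : H → (V →* V) := fun k => MonoidHom.mk'
    (fun v => (⟨(k : X) * v * (k : X)⁻¹, (Subgroup.mem_normalizer_iff.1 (hHV k.2) v).1 v.2⟩ : V))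
    (fun v w => Subtype.ext (by
      show (k : X) * ((v : X) * w) * (k : X)⁻¹ = (k : X) * v * (k : X)⁻¹ * ((k : X) * w * (k : X)⁻¹)
      group))
  have hconjV : ∀ k : H, Zc.subgroupOf V ≤ (Zc.subgroupOf V).comap (conjV k) := fun k c hc => by
    rw [Subgroup.mem_comap, Subgroup.mem_subgroupOf]
    show (k : X) * (c : X) * (k : X)⁻¹ ∈ Zc
    rw [h.conj_Zc hM (hHG k.2) (Subgroup.mem_subgroupOf.1 hc)]
    exact hc
  letI : MulAction H (V ⧸ Zc.subgroupOf V) :=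
    { smul := fun k => QuotientGroup.map _ _ (conjV k) (hconjV k)
      one_smul := fun q => QuotientGroup.induction_on q fun v =>
        congrArg QuotientGroup.mk (Subtype.ext (show (1 : X) * v * (1 : X)⁻¹ = v by group))
      mul_smul := fun a b q => QuotientGroup.induction_on q fun v =>
        congrArg QuotientGroup.mk (Subtype.ext (show ((a : X) * b) * v * ((a : X) * b)⁻¹ =
          a * (b * v * (b : X)⁻¹) * (a : X)⁻¹ by group)) }
  let cls : Z × Z → V ⧸ Zc.subgroupOf V := fun q => QuotientGroup.mk ⟨_, hmk q.1.2 q.2.2⟩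
  have hsmul : ∀ (k : H) (v : V) (w : V), (k : X) * v * (k : X)⁻¹ = w →
      k • (QuotientGroup.mk v : V ⧸ Zc.subgroupOf V) = QuotientGroup.mk w := fun k v w e =>
    congrArg QuotientGroup.mk (Subtype.ext e)
  have hcls : ∀ q q' : Z × Z, cls q = cls q' ↔ (q.1 : X)⁻¹ * q'.1 ∈ Zc ∧ (q.2 : X)⁻¹ * q'.2 ∈ Zc := by
    intro q q'
    rw [QuotientGroup.eq]
    show ((q.1 : X) * (g * q.2 * g⁻¹))⁻¹ * (q'.1 * (g * q'.2 * g⁻¹)) ∈ Zc ↔ _
    have hz : (q.1 : X)⁻¹ * q'.1 ∈ Z := mul_mem (inv_mem q.1.2) q'.1.2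
    have e : ((q.1 : X) * (g * q.2 * g⁻¹))⁻¹ * (q'.1 * (g * q'.2 * g⁻¹)) =
        (q.1 : X)⁻¹ * q'.1 * (g * ((q.2 : X)⁻¹ * q'.2) * g⁻¹) := by
      rw [show ((q.1 : X) * (g * q.2 * g⁻¹))⁻¹ * (q'.1 * (g * q'.2 * g⁻¹)) =
        (g * (q.2 : X)⁻¹ * g⁻¹ * ((q.1 : X)⁻¹ * q'.1)) * (g * q'.2 * g⁻¹) by group,
        h.moved_comm_Z hM hg hall (inv_mem q.2.2) hz]
      group
    rw [e]
    constructor
    · intro hh
      have h2 := mul_mem (inv_mem hz) (h.data.Zc_le hh)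
      rw [inv_mul_cancel_left] at h2
      have h3 := h.inter_Zc hM hg (mul_mem (inv_mem q.2.2) q'.2.2) h2
      refine ⟨?_, h3⟩
      rw [h.conj_Zc hM hg.mem h3] at hh
      have h4 := mul_mem hh (inv_mem h3)
      rwa [mul_inv_cancel_right] at h4
    · intro ⟨h1, h2⟩
      rw [h.conj_Zc hM hg.mem h2]
      exact mul_mem h1 h2
  set q₀ : V ⧸ Zc.subgroupOf V := cls (1, ⟨t₀, ht₀⟩) with hq₀
  set O := MulAction.orbit H q₀ with hO
  have hclosO : ∀ (k : H) (q : V ⧸ Zc.subgroupOf V), q ∈ O → k • q ∈ O := fun k q hq => by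
    rw [hO, ← MulAction.orbit_eq_iff.2 hq]; exact MulAction.mem_orbit q k
  have hmoveA : ∀ a a' b : Z, (b : X) ∉ Zc → cls (a, b) ∈ O → cls (a', b) ∈ O := by
    intro a a' b hb hab
    obtain ⟨x, hx, hxw⟩ := htr b b.2 hb ((a : X) * a') (mul_mem a.2 a'.2)
    obtain ⟨c, hc, e, hce⟩ := hcl g hg hall x hx a a.2 b b.2
    have h1 := hclosO ⟨x, Subgroup.mem_sup_left hx⟩ _ hab
    rw [hsmul ⟨x, Subgroup.mem_sup_left hx⟩ _ ⟨_, hmk (mul_mem hc a.2) b.2⟩ e] at h1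
    have h2 : cls (⟨c * a, mul_mem hc a.2⟩, b) = cls (a', b) := by
      rw [hcls]
      refine ⟨?_, by simp⟩
      show (c * (a : X))⁻¹ * a' ∈ Zc
      rw [inv_eq_of_mul_eq_one_right (h.data.sq_one _ (mul_mem hc a.2)), mul_assoc, hce]
      exact hxw
    rw [← h2]
    exact h1
  have hmoveB : ∀ a b b' : Z, (a : X) ∉ Zc → cls (a, b) ∈ O → cls (a, b') ∈ O := by
    intro a b b' ha hab
    obtain ⟨y, hy, hyw⟩ := htr' a a.2 ha ((b : X) * b') (mul_mem b.2 b'.2)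
    obtain ⟨c, hc, e, hce⟩ := hcl' y hy a a.2 b b.2
    have hyH : g * y * g⁻¹ ∈ H := Subgroup.mem_sup_right ⟨y, hy, rfl⟩
    have h1 := hclosO ⟨_, hyH⟩ _ hab
    rw [hsmul ⟨_, hyH⟩ _ ⟨_, hmk a.2 (mul_mem hc b.2)⟩ e] at h1
    have h2 : cls (a, ⟨c * b, mul_mem hc b.2⟩) = cls (a, b') := by
      rw [hcls]
      refine ⟨by simp, ?_⟩
      show (c * (b : X))⁻¹ * b' ∈ Zc
      rw [inv_eq_of_mul_eq_one_right (h.data.sq_one _ (mul_mem hc b.2)), mul_assoc, hce]
      exact hyw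
    rw [← h2]
    exact h1
  have h1t : cls (⟨t₀, ht₀⟩, ⟨t₀, ht₀⟩) ∈ O := hmoveA 1 _ _ ht₀c (MulAction.mem_orbit_self q₀)
  have hOeq : O = {q | q ≠ cls (1, 1)} := by
    ext q
    constructor
    · rintro ⟨k, rfl⟩ he
      have e1 : cls (1, 1) = (1 : V ⧸ Zc.subgroupOf V) := by
        refine (QuotientGroup.eq_one_iff _).2 ?_
        rw [Subgroup.mem_subgroupOf]
        show (1 : X) * (g * 1 * g⁻¹) ∈ Zc
        simp
      have h2 : q₀ = 1 := by
        have h3 := congrArg (k⁻¹ • ·) he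
        simp only [inv_smul_smul] at h3
        rw [h3, e1]
        exact map_one (QuotientGroup.map _ _ (conjV k⁻¹) (hconjV k⁻¹))
      rw [← e1, hq₀, hcls] at h2
      exact ht₀c (by simpa using inv_mem h2.2)
    · intro hne
      induction q using QuotientGroup.induction_on with
      | H v =>
        obtain ⟨a, ha, b, hb, e⟩ := hsplit v v.2
        have hv : (QuotientGroup.mk v : V ⧸ Zc.subgroupOf V) = cls (⟨a, ha⟩, ⟨b, hb⟩) :=
          congrArg QuotientGroup.mk (Subtype.ext e)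
        rw [hv]
        by_cases hbc : b ∈ Zc
        · have hac : a ∉ Zc := fun hac => hne (by
            rw [hv, hcls]
            exact ⟨by simpa using inv_mem hac, by simpa using inv_mem hbc⟩)
          exact hmoveB _ ⟨t₀, ht₀⟩ _ hac (hmoveA _ _ _ ht₀c h1t)
        · exact hmoveA ⟨t₀, ht₀⟩ _ _ hbc (hmoveB _ _ _ ht₀c h1t)
  have hcardV : Nat.card (V ⧸ Zc.subgroupOf V) = Zc.relIndex Z * Zc.relIndex Z := by
    let F : (Z ⧸ Zc.subgroupOf Z) × (Z ⧸ Zc.subgroupOf Z) → V ⧸ Zc.subgroupOf V := fun q => cls (q.1.out, q.2.out)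
    have hF : Function.Bijective F := by
      refine ⟨fun q q' hqq => ?_, fun q => QuotientGroup.induction_on q fun v => ?_⟩
      · obtain ⟨h1, h2⟩ := (hcls _ _).1 hqq
        refine Prod.ext ?_ ?_
        · rw [← q.1.out_eq', ← q'.1.out_eq']; exact QuotientGroup.eq.2 h1
        · rw [← q.2.out_eq', ← q'.2.out_eq']; exact QuotientGroup.eq.2 h2
      · obtain ⟨a, ha, b, hb, e⟩ := hsplit v v.2
        refine ⟨(QuotientGroup.mk ⟨a, ha⟩, QuotientGroup.mk ⟨b, hb⟩), ?_⟩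
        rw [show (QuotientGroup.mk v : V ⧸ Zc.subgroupOf V) = cls (⟨a, ha⟩, ⟨b, hb⟩) from
          congrArg QuotientGroup.mk (Subtype.ext e)]
        rw [hcls]
        exact ⟨(QuotientGroup.eq (s := Zc.subgroupOf Z)).1 (QuotientGroup.out_eq' _),
          (QuotientGroup.eq (s := Zc.subgroupOf Z)).1 (QuotientGroup.out_eq' _)⟩
    rw [← Nat.card_eq_of_bijective F hF, Nat.card_prod]
    rfl
  have hcardO : Nat.card O = Zc.relIndex Z * Zc.relIndex Z - 1 := by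
    rw [hOeq, ← hcardV, Nat.card_coe_set_eq, show {q | q ≠ cls (1, 1)} = ({cls (1, 1)} : Set _)ᶜ from rfl,
      Set.ncard_compl, Set.ncard_singleton]
  have hdvd : Nat.card O ∣ Nat.card H := by
    haveI : Fintype H := Fintype.ofFinite _
    haveI : Fintype O := Fintype.ofFinite _
    haveI : Fintype (MulAction.stabilizer H q₀) := Fintype.ofFinite _
    rw [Nat.card_eq_fintype_card, Nat.card_eq_fintype_card,
      ← MulAction.card_orbit_mul_card_stabilizer_eq_card_group H q₀]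
    exact dvd_mul_right _ _
  rw [hcardO] at hdvd
  have := (hr.trans hdvd).trans (Subgroup.card_dvd_of_le hHG)
  exact (h.data.rprime.coprime_iff_not_dvd.1 h.cop.symm) this

/-- An element moving a non-central element of `Z` into `M` lies in `M`. -/
theorem moved_mem (hg : g ∈ G) {t : X} (ht : t ∈ Z) (htc : t ∉ Zc) (hu : g * t * g⁻¹ ∈ M) : g ∈ M := by
  by_contra hgM
  obtain ⟨g', t', hcfg, -, ht', ht'c, ht'M, -⟩ := h.exists_config hM (E := ⊥) bot_le
    (fun P hP hP2 _ => by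
      obtain ⟨m, hm, hmS⟩ := h.conj_into_S hM hP hP2
      exact ⟨m, hm, fun σ hσ => by rw [Subgroup.mem_bot.1 hσ, one_mul, mul_one], hmS⟩)
    hg hgM (fun σ hσ => by rw [Subgroup.mem_bot.1 hσ, one_mul, mul_one]) ht htc hu
  exact h.config_false hM hcfg ⟨t', ht', ht'c, ht'M⟩

end Setup

end CfsgLib.FlavellA
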