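import Cfsg.Agent.Lib.FlavellA.BarBasics
import Cfsg.Agent.Lib.TransferApps

/-!
`Z` is not in the centre of `G`: otherwise `M = G ∩ N(D)` controls the fusion of a Sylow 2-subgroup modulo the
centre.

Blueprint: `blueprint/FlavellA.md`, section 2.
-/

set_option autoImplicit false
set_option linter.unusedSectionVars false
set_option linter.style.haveILetI false

namespace CfsgLib.FlavellA

open Cfsg
open scoped commutatorElement Pointwise

universe u

variable {X : Type u} [Group X]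

namespace Setup

variable [Finite X] {G R S D Z Zc : Subgroup X} {p r n : ℕ} (h : Setup G R S D Z Zc p r n)
include h

/-- The image of `S` is a Sylow 2-subgroup of `G` modulo the centre. -/
theorem exists_sylow_bar : ∃ P : Sylow 2 (Bar G), (P : Subgroup (Bar G)) = img G S := by
  haveI : Fact (Nat.Prime 2) := ⟨Nat.prime_two⟩
  obtain ⟨P, hP⟩ := (h.S_two.comap_subtype (K := G)).exists_le_sylow
  have hle : S ≤ (P : Subgroup G).map G.subtype := fun x hx => ⟨⟨x, h.S_le hx⟩, hP hx, rfl⟩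
  have he : S = (P : Subgroup G).map G.subtype := Subgroup.eq_of_le_of_card_ge hle
    (Nat.le_of_dvd Nat.card_pos (h.S_max _ (Subgroup.map_subtype_le _) (P.2.map _)))
  refine ⟨P.mapSurjective (toBar_surjective G), ?_⟩
  rw [Sylow.coe_mapSurjective, img]
  congr 1
  rw [he, Subgroup.subgroupOf, Subgroup.comap_map_eq_self_of_injective G.subtype_injective]

/-- No non-trivial `p`-subgroup is normalised by `D` and `R` when `Z` is central. -/
theorem no_DR_of_central (hZ : Z ≤ Zc) {Q : Subgroup X} (hQ : IsDR G R D p Q) : Q = ⊥ := by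
  by_contra hne
  obtain ⟨P, hQP, hP⟩ := h.exists_maximal_DR hQ
  obtain ⟨y, hy, -, -, -, -, z, hz, hzc⟩ := h.exists_moving hP fun e => hne (eq_bot_iff.2 (e ▸ hQP))
  refine hzc ?_
  rw [conj_mem_zentr hy (h.Zc_le_zentr (hZ hz)), mul_inv_cancel]
  exact one_mem _

/-- `Z` is not central. -/
theorem not_Z_le_Zc : ¬ Z ≤ Zc := by
  intro hZ
  haveI : Fact (Nat.Prime 2) := ⟨Nat.prime_two⟩
  set M := G ⊓ Subgroup.normalizer (D : Set X) with hMdef
  have hM : MaxData G R D Z Zc M := h.max_of_small (by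
    rw [Subgroup.relIndex_eq_one.2 hZ]; exact h.pprime.one_lt)
  have hDM : D ≤ M := h.D_le_M hM
  -- `[M, R] = D`
  have hMR : ⁅M, R⁆ ≤ D := by
    obtain ⟨Q, hQM, hQp, hMQ, hRQ, hK, -⟩ := h.loc_D hM.le hM.ne hM.norm hDM
    rw [hK, h.no_DR_of_central hZ ⟨hQM.trans hM.le, hQp, hRQ, hDM.trans hMQ⟩]
    exact sup_le bot_le le_rfl
  -- fixed elements of `M` centralise `D`
  have hfix : ∀ c ∈ M, (∀ σ ∈ R, σ * c = c * σ) → ∀ d ∈ D, d * c = c * d := by
    intro c hc hcR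
    refine h.data.centralizes_of_fix hc.2 hcR (fun z hz => mem_zentr_comm (h.Zc_le_zentr (hZ hz)) hc.1) ?_
    exact Nat.Coprime.coprime_dvd_left (Subgroup.orderOf_dvd_natCard _ hc.1) h.cop
  have hdec : ∀ x ∈ M, ∃ d ∈ D, ∃ c ∈ M, (∀ σ ∈ R, σ * c = c * σ) ∧ (∀ v ∈ D, v * c = c * v) ∧ x = d * c := by
    intro x hx
    obtain ⟨u, hu, c, hc, e⟩ := CfsgLib.coprime_decomp hM.norm (h.cop_le hM.le) (Or.inl h.R_solvable) hx
    have hcR : ∀ σ ∈ R, σ * c = c * σ := fun σ hσ => Subgroup.mem_centralizer_iff.1 hc.2 σ hσ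
    exact ⟨u, hMR hu, c, hc.1, hcR, hfix c hc.1 hcR, e⟩
  -- subgroups between `D` and `M` are invariant, so their normalisers lie in `M`
  have hA : ∀ U : Subgroup X, D ≤ U → U ≤ M → G ⊓ Subgroup.normalizer (U : Set X) ≤ M := by
    intro U hDU hUM
    have hUG : U ≤ G := hUM.trans hM.le
    have hUne : U ≠ G := fun e => hM.ne (le_antisymm hM.le (e.symm.le.trans hUM))
    have hRU : R ≤ Subgroup.normalizer (U : Set X) := fun σ hσ =>
      CfsgLib.Comp.mem_normalizer_of_maps fun v hv => by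
        have h1 : ⁅v, σ⁆ ∈ D := hMR (Subgroup.commutator_mem_commutator (hUM hv) hσ)
        rw [show σ * v * σ⁻¹ = ⁅v, σ⁆⁻¹ * v by simp only [commutatorElement_def]; group]
        exact mul_mem (inv_mem (hDU h1)) hv
    exact hM.uniq _ inf_le_left (h.normalizer_ne hUG hUne fun hc => h.D_not_central (hDU.trans hc))
      (inf_normalizer_normalized h.normG hRU) (le_inf h.D_le_G (hDU.trans Subgroup.le_normalizer))
  -- two-subgroups containing `D` lie in `M`
  have hB : ∀ P : Subgroup X, P ≤ G → IsPGroup 2 P → D ≤ P → P ≤ M := by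
    intro P hPG hP2 hDP
    by_contra hPM
    haveI := hP2.isNilpotent
    set U := P ⊓ M with hU
    have hlt : U.subgroupOf P < ⊤ := lt_top_iff_ne_top.2 fun e =>
      hPM ((Subgroup.subgroupOf_eq_top.1 e).trans inf_le_right)
    obtain ⟨x, hxn, hxU⟩ := SetLike.exists_of_lt (Group.normalizerCondition_of_isNilpotent (U.subgroupOf P) hlt)
    have hxN : (x : X) ∈ Subgroup.normalizer (U : Set X) := CfsgLib.Comp.mem_normalizer_of_maps fun v hv =>
      (Subgroup.mem_normalizer_iff.1 hxn ⟨v, hv.1⟩).1 hv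
    exact hxU (Subgroup.mem_subgroupOf.2 ⟨x.2, hA U (le_inf hDP hDM) inf_le_right ⟨hPG x.2, hxN⟩⟩)
  -- conjugates of `D` inside `S` come from `M`
  have hC : ∀ g ∈ G, (∀ d ∈ D, g * d * g⁻¹ ∈ S) → g ∈ M := by
    intro g hg hgD
    set S' := S.map (MulAut.conj g⁻¹).toMonoidHom with hS'
    have hS'G : S' ≤ G := by
      rintro _ ⟨s, hs, rfl⟩
      show g⁻¹ * s * g⁻¹⁻¹ ∈ G
      exact G.mul_mem (G.mul_mem (G.inv_mem hg) (h.S_le hs)) (G.inv_mem (G.inv_mem hg))
    have hDS' : D ≤ S' := fun d hd => ⟨g * d * g⁻¹, hgD d hd, by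
      show g⁻¹ * (g * d * g⁻¹) * g⁻¹⁻¹ = d
      group⟩
    obtain ⟨m, hm, hmS⟩ := h.conj_into_S hM (hB S' hS'G (h.S_two.map _) hDS') (h.S_two.map _)
    have hNS : m * g⁻¹ ∈ Subgroup.normalizer (S : Set X) := CfsgLib.Comp.mem_normalizer_of_maps fun s hs => by
      have := hmS _ ⟨s, hs, rfl⟩
      rwa [show m * (MulAut.conj g⁻¹).toMonoidHom s * m⁻¹ = m * g⁻¹ * s * (m * g⁻¹)⁻¹ by
        simp [mul_assoc]] at this
    have hmg : m * g⁻¹ ∈ M :=
      hA S h.D_le_S (h.S_le_M hM) ⟨G.mul_mem (hM.le hm) (G.inv_mem hg), hNS⟩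
    have := mul_mem (inv_mem hmg) hm
    rwa [mul_inv_rev, inv_inv, inv_mul_cancel_right] at this
  -- modulo the centre
  obtain ⟨P, hP⟩ := h.exists_sylow_bar
  set W := img G D with hW
  have hWP : W ≤ (P : Subgroup (Bar G)) := by
    rw [hP]
    exact Subgroup.map_mono (fun x hx => h.D_le_S hx)
  have hlift : ∀ g : G, (∀ w ∈ W, toBar G g * w * (toBar G g)⁻¹ ∈ img G S) → (g : X) ∈ M := by
    intro g hg
    refine hC g g.2 fun d hd => ?_
    have h1 := hg (toBar G ⟨d, h.D_le_G hd⟩) (toBar_mem_img hd)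
    rw [← map_inv, ← map_mul, ← map_mul] at h1
    obtain ⟨s, hs, e⟩ := (mem_img h.S_le).1 h1
    obtain ⟨i, hi⟩ := h.data.two ⟨d, hd⟩
    refine h.mem_S_of_cong hs e (i := i) ?_
    show ((g : X) * d * (g : X)⁻¹) ^ 2 ^ i = 1
    rw [conj_pow, show d ^ 2 ^ i = 1 from congrArg Subtype.val hi, mul_one, mul_inv_cancel]
  have hWc : W ≤ Subgroup.centralizer ((P : Subgroup (Bar G)) : Set (Bar G)) := by
    rw [hP]
    rintro _ ⟨d, hd, rfl⟩
    rw [Subgroup.mem_centralizer_iff]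
    rintro _ ⟨s, hs, rfl⟩
    obtain ⟨d', hd', τ, hτ, hτR, e⟩ := h.exists_decomp hs
    have hc := hfix τ (h.S_le_M hM hτ) hτR
    refine toBar_comm.2 (h.Zc_le_zentr (hZ ?_))
    show ⁅(s : X), (d : X)⁆ ∈ Z
    rw [show (G.subtype s : X) = (s : X) from rfl] at e
    rw [e, show ⁅d' * τ, (d : X)⁆ = d' * (τ * d * τ⁻¹) * d'⁻¹ * (d : X)⁻¹ by
      simp only [commutatorElement_def]; group, ← hc (d : X) hd, mul_inv_cancel_right]
    exact h.data.comm d' hd' d hd
  have hweak : IsWeaklyClosed W (P : Subgroup (Bar G)) := by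
    refine ⟨hWP, fun g hg => ?_⟩
    obtain ⟨g, rfl⟩ := toBar_surjective G g
    have hgM : (g : X) ∈ M := hlift g fun w hw => hP.le (hg ⟨w, hw, rfl⟩)
    refine Subgroup.eq_of_le_of_card_ge ?_ (le_of_eq (Subgroup.card_map_of_injective (MulAut.conj _).injective).symm)
    rintro _ ⟨_, ⟨d, hd, rfl⟩, rfl⟩
    exact ⟨g * d * g⁻¹, (Subgroup.mem_normalizer_iff.1 hgM.2 _).1 hd, by simp⟩
  set N := Subgroup.normalizer (W : Set (Bar G)) with hN
  have hNM : N ≤ img G M := by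
    intro x hx
    obtain ⟨g, rfl⟩ := toBar_surjective G x
    exact toBar_mem_img (hlift g fun w hw => hP.le (hWP ((Subgroup.mem_normalizer_iff.1 hx w).1 hw)))
  have hPN : (P : Subgroup (Bar G)) ≤ N := fun x hx => CfsgLib.Comp.mem_normalizer_of_maps fun w hw => by
    rw [Subgroup.mem_centralizer_iff.1 (hWc hw) x hx, mul_inv_cancel_right]
    exact hw
  have hfoc := CfsgLib.TransferApps.commutator_inf_sylow_eq_of_control P N
    (fun x hx g hg => CfsgLib.TransferApps.exists_normalizer_conj P hweak hWc hx hg) hPN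
  rw [h.commutator_bar, top_inf_eq] at hfoc
  -- the image of `[M, M]` is fixed by `R`
  set C := Subgroup.centralizer (R : Set X) with hCdef
  have hMM : ⁅img G M, img G M⁆ ≤ (C.subgroupOf G).map (toBar G) := by
    rw [Subgroup.commutator_le]
    rintro _ ⟨a, ha, rfl⟩ _ ⟨b, hb, rfl⟩
    refine ⟨⁅a, b⁆, ?_, map_commutatorElement _ _ _⟩
    show ⁅(a : X), (b : X)⁆ ∈ C
    obtain ⟨d, hd, c, -, hcR, hcD, ea⟩ := hdec _ ha
    obtain ⟨d', hd', c', -, hc'R, hc'D, eb⟩ := hdec _ hb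
    rw [show (a : X) = d * c from ea, show (b : X) = d' * c' from eb]
    have e : ⁅d * c, d' * c'⁆ = ⁅d, d'⁆ * ⁅c, c'⁆ := by
      have h1 : c * d' = d' * c := (hcD d' hd').symm
      have hk : ∀ v ∈ D, Commute v (c * c' * c⁻¹) := fun v hv =>
        (Commute.mul_right (Commute.mul_right (hcD v hv) (hc'D v hv)) (Commute.inv_right (hcD v hv)))
      have hk2 : ∀ v ∈ D, Commute v (c * c' * c⁻¹ * c'⁻¹) := fun v hv =>
        Commute.mul_right (hk v hv) (Commute.inv_right (hc'D v hv))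
      calc ⁅d * c, d' * c'⁆ = d * (c * d') * c' * c⁻¹ * d⁻¹ * c'⁻¹ * d'⁻¹ := by
            simp only [commutatorElement_def]; group
        _ = d * d' * ((c * c' * c⁻¹) * d⁻¹) * c'⁻¹ * d'⁻¹ := by rw [h1]; group
        _ = d * d' * (d⁻¹ * (c * c' * c⁻¹)) * c'⁻¹ * d'⁻¹ := by rw [(hk _ (inv_mem hd)).eq]
        _ = d * d' * d⁻¹ * ((c * c' * c⁻¹ * c'⁻¹) * d'⁻¹) := by group
        _ = d * d' * d⁻¹ * (d'⁻¹ * (c * c' * c⁻¹ * c'⁻¹)) := by rw [(hk2 _ (inv_mem hd')).eq]
        _ = ⁅d, d'⁆ * ⁅c, c'⁆ := by simp only [commutatorElement_def]; group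
    rw [e]
    have hcC : c ∈ C := Subgroup.mem_centralizer_iff.2 hcR
    have hc'C : c' ∈ C := Subgroup.mem_centralizer_iff.2 hc'R
    refine mul_mem (Subgroup.mem_centralizer_iff.2 fun σ hσ => h.data.Z_centralized (h.data.comm d hd d' hd') hσ) ?_
    rw [commutatorElement_def]
    exact mul_mem (mul_mem (mul_mem hcC hc'C) (inv_mem hcC)) (inv_mem hc'C)
  refine h.D_not_le_Z fun d hd => h.data.mem_Z hd fun σ hσ => ?_
  have h1 : toBar G ⟨d, h.D_le_G hd⟩ ∈ (C.subgroupOf G).map (toBar G) :=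
    hMM (Subgroup.commutator_mono hNM hNM (hfoc.le (hWP (toBar_mem_img hd))).1)
  obtain ⟨c, hc, e⟩ := h1
  have e' : (c : X)⁻¹ * d ∈ zentr G := toBar_eq.1 e
  have hd' : d ∈ C := by
    have := C.mul_mem (Subgroup.mem_subgroupOf.1 hc) (h.centR e')
    rwa [mul_inv_cancel_left] at this
  exact Subgroup.mem_centralizer_iff.1 hd' σ hσ

end Setup

end CfsgLib.FlavellA
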