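import Cfsg.Agent.Lib.FlavellA.Fusion

/-!
Elements of `Z` moved into `M` by elements centralising `R`.

Blueprint: `blueprint/FlavellA.md`, section 3 (L1).
-/

set_option autoImplicit false
set_option linter.unusedSectionVars false
set_option linter.style.haveILetI false

namespace CfsgLib.FlavellA

open Cfsg
open scoped commutatorElement Pointwise

universe u

variable {X : Type u} [Group X]

/-- The part of `U` inside `g M g⁻¹`. -/
def inside (U M : Subgroup X) (g : X) : Subgroup X := U ⊓ M.comap (MulAut.conj g⁻¹).toMonoidHom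

theorem mem_inside {U M : Subgroup X} {g x : X} : x ∈ inside U M g ↔ x ∈ U ∧ g⁻¹ * x * g ∈ M := by
  rw [inside, Subgroup.mem_inf, Subgroup.mem_comap]; simp

theorem involution_inverts {s x : X} (hss : s * s = 1) :
    s * (s * x * s⁻¹ * x⁻¹) * s⁻¹ = (s * x * s⁻¹ * x⁻¹)⁻¹ := by
  have hsi : s⁻¹ = s := inv_eq_of_mul_eq_one_right hss
  calc s * (s * x * s⁻¹ * x⁻¹) * s⁻¹ = (s * s) * x * (s⁻¹ * x⁻¹ * s⁻¹) := by group
    _ = (s * x * s⁻¹ * x⁻¹)⁻¹ := by
      rw [hss, one_mul, mul_inv_rev, mul_inv_rev, mul_inv_rev, inv_inv, inv_inv, hsi]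
      group

theorem involution_inverts' {s t : X} (hss : s * s = 1) :
    s * (t * s * t⁻¹ * s⁻¹) * s⁻¹ = (t * s * t⁻¹ * s⁻¹)⁻¹ := by
  have hsi : s⁻¹ = s := inv_eq_of_mul_eq_one_right hss
  rw [hsi]
  calc s * (t * s * t⁻¹ * s) * s = s * t * s * t⁻¹ * (s * s) := by group
    _ = (t * s * t⁻¹ * s)⁻¹ := by
      rw [hss, mul_one, mul_inv_rev, mul_inv_rev, mul_inv_rev, inv_inv, hsi]; group

theorem inside_le {U M : Subgroup X} {g : X} : inside U M g ≤ U := inf_le_left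

theorem inside_normalized {U M : Subgroup X} {g σ : X} (hU : σ ∈ Subgroup.normalizer (U : Set X))
    (hM : σ ∈ Subgroup.normalizer (M : Set X)) (hg : σ * g = g * σ) :
    σ ∈ Subgroup.normalizer (inside U M g : Set X) := by
  rw [Subgroup.mem_normalizer_iff]
  intro x
  have e : g⁻¹ * (σ * x * σ⁻¹) * g = σ * (g⁻¹ * x * g) * σ⁻¹ := by
    have e1 : g⁻¹ * σ = σ * g⁻¹ := by
      calc g⁻¹ * σ = g⁻¹ * (σ * g) * g⁻¹ := by group
        _ = σ * g⁻¹ := by rw [hg]; group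
    calc g⁻¹ * (σ * x * σ⁻¹) * g = (g⁻¹ * σ) * x * (g⁻¹ * σ)⁻¹ := by group
      _ = σ * g⁻¹ * x * (σ * g⁻¹)⁻¹ := by rw [e1]
      _ = _ := by group
  rw [mem_inside, mem_inside, e, ← Subgroup.mem_normalizer_iff.1 hU x, ← Subgroup.mem_normalizer_iff.1 hM]

namespace InvAct

variable [Finite X] {R D Z Zc : Subgroup X} {r n : ℕ} {τ : X}

/-- An element fixed modulo `Z` is an element fixed by `τ` times an element of `Z`. -/
theorem fix_split (hd : DData R D Z Zc r n) (hτ : InvAct R D Z τ) {x : X} (hx : x ∈ fixMod D Z τ) :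
    ∃ v ∈ D, τ * v = v * τ ∧ ∃ z ∈ Z, x = v * z := by
  haveI : Fact r.Prime := ⟨hd.rprime⟩
  haveI : IsCyclic R := isCyclic_of_prime_card hd.cardR
  letI : CommGroup R := IsCyclic.commGroup
  have hsolv : Group.IsSolvable R := Group.isSolvable_of_comm fun a b => mul_comm a b
  set W := fixMod D Z τ with hW
  have hWD : W ≤ D := fixMod_le hd hτ
  obtain ⟨v, hv, c, hc, e⟩ := CfsgLib.coprime_decomp (R_le_normalizer_fixMod hd hτ)
    (Nat.Coprime.coprime_dvd_right (Subgroup.card_dvd_of_le hWD) hd.coprime_D) (Or.inl hsolv) hx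
  have hle : ⁅W, R⁆ ≤ Subgroup.centralizer ({τ} : Set X) := by
    rw [Subgroup.commutator_le]
    intro w hw σ hσ
    rw [Subgroup.mem_centralizer_singleton_iff]
    obtain ⟨hwD, hwZ⟩ := (mem_fixMod hd hτ).1 hw
    set k := disp τ w with hk
    have e1 : τ * w * τ⁻¹ = k * w := by rw [hk, disp]; group
    have e2 : τ * σ * τ⁻¹ = σ := by rw [← hτ.commR σ hσ, mul_inv_cancel_right]
    have hkσ := hd.Z_centralized hwZ hσ
    have hm : w * σ * w⁻¹ * σ⁻¹ ∈ D := by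
      rw [show w * σ * w⁻¹ * σ⁻¹ = w * (σ * w⁻¹ * σ⁻¹) by group]
      exact mul_mem hwD (hd.conj_mem hσ (inv_mem hwD))
    have hkm := hd.central k hwZ _ hm
    refine (mul_inv_eq_iff_eq_mul.1 ?_).symm
    calc τ * ⁅w, σ⁆ * τ⁻¹ = (τ * w * τ⁻¹) * (τ * σ * τ⁻¹) * (τ * w * τ⁻¹)⁻¹ * (τ * σ * τ⁻¹)⁻¹ := by
          simp only [commutatorElement_def]; group
      _ = k * (w * σ * w⁻¹) * k⁻¹ * σ⁻¹ := by rw [e1, e2]; group
      _ = k * (w * σ * w⁻¹ * σ⁻¹) * (σ * k⁻¹ * σ⁻¹) := by group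
      _ = (w * σ * w⁻¹ * σ⁻¹) * k * (σ * k⁻¹ * σ⁻¹) := by rw [hkm]
      _ = ⁅w, σ⁆ := by
        rw [show σ * k⁻¹ * σ⁻¹ = (σ * k * σ⁻¹)⁻¹ by group, hkσ, mul_inv_cancel_right, mul_inv_cancel_right,
          commutatorElement_def]
  exact ⟨v, hWD (CfsgLib.commutator_le_of_le_normalizer (R_le_normalizer_fixMod hd hτ) hv),
    (Subgroup.mem_centralizer_singleton_iff.1 (hle hv)).symm, c,
    hd.mem_Z (hWD hc.1) fun σ hσ => Subgroup.mem_centralizer_iff.1 hc.2 σ hσ, e⟩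

end InvAct

namespace Setup

variable [Finite X] {G R S D Z Zc M : Subgroup X} {p r n : ℕ} (h : Setup G R S D Z Zc p r n)
  (hM : MaxData G R D Z Zc M) {g : X}
include h hM

theorem inter_Zc (hg : Config G D S M g) {z : X} (hz : z ∈ Z) (hz' : g * z * g⁻¹ ∈ Z) : z ∈ Zc := by
  by_contra hzc
  refine hg.notMem (h.fusion_centralizing hM hg.mem hz hzc ⟨⟨h.Z_le_G hz', fun d hd => ?_⟩,
    Subgroup.le_normalizer (h.data.Z_le hz')⟩)
  rw [commutatorElement_eq_one_iff_mul_comm.2 (h.data.central _ hz' d hd).symm]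
  exact one_mem _

theorem conj_Zc {x c : X} (hx : x ∈ G) (hc : c ∈ Zc) : x * c * x⁻¹ = c := conj_mem_zentr hx (h.Zc_le_zentr hc)

theorem inside_of_comm (hg : g ∈ G) {t x : X} (ht : t ∈ Z) (htc : t ∉ Zc) (hx : x ∈ G)
    (hcomm : ⁅x, g * t * g⁻¹⁆ ∈ zentr G) : g⁻¹ * x * g ∈ M := by
  refine hM.cent t ht htc ?_
  have h1 := cmod_conj (inv_mem hg) (mem_cmod_singleton.2 ⟨hx, hcomm⟩)
  rwa [inv_inv, show g⁻¹ * (g * t * g⁻¹) * g = t by group] at h1

/-- The two parts commute modulo the centre. -/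
theorem comm_AA (hg : Config G D S M g) {a t : X} (ha : a ∈ Z) (ha' : g⁻¹ * a * g ∈ M) (ht : t ∈ Z)
    (ht' : g * t * g⁻¹ ∈ M) : ⁅a, g * t * g⁻¹⁆ ∈ Zc := by
  have hs := hg.left t (h.data.Z_le ht) ht'
  have ha2 := hg.right a (h.data.Z_le ha) ha'
  have h1 : ⁅a, g * t * g⁻¹⁆ ∈ Z := by
    rw [show ⁅a, g * t * g⁻¹⁆ = a * ((g * t * g⁻¹) * a⁻¹ * (g * t * g⁻¹)⁻¹) by
      simp only [commutatorElement_def]; group]
    exact mul_mem ha ((Subgroup.mem_normalizer_iff.1 (h.S_le_normalizer_Z hs) _).1 (inv_mem ha))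
  have h2 : ⁅g⁻¹ * a * g, t⁆ ∈ Z := by
    rw [commutatorElement_def]
    exact mul_mem ((Subgroup.mem_normalizer_iff.1 (h.S_le_normalizer_Z ha2) _).1 ht) (inv_mem ht)
  have e : ⁅a, g * t * g⁻¹⁆ = g * ⁅g⁻¹ * a * g, t⁆ * g⁻¹ := by simp only [commutatorElement_def]; group
  have h3 := h.inter_Zc hM hg h2 (e ▸ h1)
  rw [e, h.conj_Zc hM hg.mem h3]
  exact h3

/-- The commutator of `R` with the common part. -/
theorem E0_conj (hg : Config G D S M g) (hgR : ∀ σ ∈ R, σ * g = g * σ) {e : X} (he : e ∈ ⁅inside D M g, R⁆) :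
    e ∈ D ∧ g⁻¹ * e * g ∈ ⁅inside D M g⁻¹, R⁆ := by
  set B := inside D M g with hB
  have hRB : R ≤ Subgroup.normalizer (B : Set X) := fun σ hσ =>
    inside_normalized (h.data.norm hσ) (hM.norm hσ) (hgR σ hσ)
  have hconj : ∀ σ ∈ R, g⁻¹ * σ * g = σ := fun σ hσ => by
    rw [mul_assoc, hgR σ hσ, inv_mul_cancel_left]
  have hle : ⁅B, R⁆.map (MulAut.conj g⁻¹).toMonoidHom ≤ inside D M g⁻¹ := by
    rw [Subgroup.map_le_iff_le_comap, Subgroup.commutator_le]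
    intro x hx σ hσ
    obtain ⟨hxD, hxM⟩ := mem_inside.1 hx
    rw [Subgroup.mem_comap]
    show g⁻¹ * ⁅x, σ⁆ * g⁻¹⁻¹ ∈ inside D M g⁻¹
    rw [inv_inv]
    refine mem_inside.2 ⟨?_, ?_⟩
    · rw [h.D_eq, show g⁻¹ * ⁅x, σ⁆ * g = ⁅g⁻¹ * x * g, g⁻¹ * σ * g⁆ by simp only [commutatorElement_def]; group,
        hconj σ hσ]
      exact Subgroup.commutator_mem_commutator (hg.right x hxD hxM) hσ
    · rw [inv_inv, show g * (g⁻¹ * ⁅x, σ⁆ * g) * g⁻¹ = ⁅x, σ⁆ by group]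
      exact h.D_le_M hM (inside_le (CfsgLib.commutator_le_of_le_normalizer hRB
        (Subgroup.commutator_mem_commutator hx hσ)))
  refine ⟨inside_le (CfsgLib.commutator_le_of_le_normalizer hRB he), ?_⟩
  have hEE := (CfsgLib.coprime_commutator_commutator hRB (h.cop_le (inside_le.trans h.D_le_G))
    (Or.inl h.R_solvable)).ge he
  have hm : ⁅⁅B, R⁆, R⁆.map (MulAut.conj g⁻¹).toMonoidHom ≤ ⁅inside D M g⁻¹, R⁆ := by
    rw [Subgroup.map_commutator]
    refine Subgroup.commutator_mono hle ?_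
    rintro _ ⟨σ, hσ, rfl⟩
    show g⁻¹ * σ * g⁻¹⁻¹ ∈ R
    rw [inv_inv, hconj σ hσ]
    exact hσ
  have h1 := hm ⟨e, hEE, rfl⟩
  simpa using h1

theorem E0_small (hg : Config G D S M g) (hgR : ∀ σ ∈ R, σ * g = g * σ) {e e' : X}
    (he : e ∈ ⁅inside D M g, R⁆) (he' : e' ∈ ⁅inside D M g, R⁆) : ⁅e, e'⁆ ∈ Zc ∧ e * e ∈ Zc := by
  obtain ⟨heD, he1⟩ := h.E0_conj hM hg hgR he
  obtain ⟨heD', he1'⟩ := h.E0_conj hM hg hgR he'
  have hgR' : ∀ σ ∈ R, σ * g⁻¹ = g⁻¹ * σ := fun σ hσ => Commute.inv_right (hgR σ hσ)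
  have d1 := (h.E0_conj hM hg.symm hgR' he1).1
  have d1' := (h.E0_conj hM hg.symm hgR' he1').1
  constructor
  · have h3 := h.inter_Zc hM hg (h.data.comm _ d1 _ d1') (by
      rw [show g * ⁅g⁻¹ * e * g, g⁻¹ * e' * g⁆ * g⁻¹ = ⁅e, e'⁆ by simp only [commutatorElement_def]; group]
      exact h.data.comm e heD e' heD')
    have e2 := h.conj_Zc hM hg.mem h3
    rw [show g * ⁅g⁻¹ * e * g, g⁻¹ * e' * g⁆ * g⁻¹ = ⁅e, e'⁆ by simp only [commutatorElement_def]; group] at e2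
    rw [e2]; exact h3
  · have h3 := h.inter_Zc hM hg (h.data.sq _ d1) (by
      rw [show g * (g⁻¹ * e * g * (g⁻¹ * e * g)) * g⁻¹ = e * e by group]
      exact h.data.sq e heD)
    have e2 := h.conj_Zc hM hg.mem h3
    rw [show g * (g⁻¹ * e * g * (g⁻¹ * e * g)) * g⁻¹ = e * e by group] at e2
    rw [e2]; exact h3

/-- The subgroup normalised by both `D` and its conjugate. -/
theorem D_normalizes_Q (hg : Config G D S M g) (hgR : ∀ σ ∈ R, σ * g = g * σ)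
    (hex : ∃ t ∈ Z, t ∉ Zc ∧ g * t * g⁻¹ ∈ M) {d : X} (hd : d ∈ D) :
    d ∈ Subgroup.normalizer ((⁅inside D M g, R⁆ ⊔ inside Z M g ⊔
      (inside Z M g⁻¹).map (MulAut.conj g).toMonoidHom : Subgroup X) : Set X) := by
  set E := ⁅inside D M g, R⁆ with hE
  set A := inside Z M g with hA
  set Q := E ⊔ A ⊔ (inside Z M g⁻¹).map (MulAut.conj g).toMonoidHom with hQ
  have hRB : R ≤ Subgroup.normalizer (inside D M g : Set X) := fun σ hσ =>
    inside_normalized (h.data.norm hσ) (hM.norm hσ) (hgR σ hσ)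
  have hsplit : ∀ x ∈ inside D M g, ∃ e ∈ E, ∃ a ∈ A, x = e * a := by
    intro x hx
    obtain ⟨e, he, c, hc, rfl⟩ := CfsgLib.coprime_decomp hRB (h.cop_le (inside_le.trans h.D_le_G))
      (Or.inl h.R_solvable) hx
    exact ⟨e, he, c, mem_inside.2 ⟨h.data.mem_Z (inside_le hc.1)
      fun σ hσ => Subgroup.mem_centralizer_iff.1 hc.2 σ hσ, (mem_inside.1 hc.1).2⟩, rfl⟩
  -- facts attached to an element `s` of `g Z g⁻¹` in `M`
  have hs : ∀ t ∈ Z, t ∉ Zc → g * t * g⁻¹ ∈ M → ∀ x ∈ D,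
      (∀ e ∈ E, ⁅x, e⁆ ∈ A) ∧ disp (g * t * g⁻¹) x ∈ E ⊔ A := by
    intro t ht htc htM x hx
    set s := g * t * g⁻¹ with hsdef
    have hsS := hg.left t (h.data.Z_le ht) htM
    have hss : s * s = 1 := by
      rw [hsdef, show g * t * g⁻¹ * (g * t * g⁻¹) = g * (t * t) * g⁻¹ by group, h.data.sq_one t ht]; group
    have hsR : ∀ σ ∈ R, σ * s = s * σ := fun σ hσ =>
      Commute.mul_right (Commute.mul_right (hgR σ hσ) (h.data.Z_centralized ht hσ)) (Commute.inv_right (hgR σ hσ))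
    have hτ : InvAct R D Z s := ⟨h.S_normalizes_D hsS, hsR, fun y _ => by rw [hss, mul_one, one_mul],
      fun z hz => (Subgroup.mem_normalizer_iff.1 (h.S_le_normalizer_Z hsS) z).1 hz⟩
    have hinsideA : ∀ z ∈ Z, ⁅z, s⁆ ∈ Zc → z ∈ A := fun z hz hc =>
      mem_inside.2 ⟨hz, h.inside_of_comm hM hg.mem ht htc (h.Z_le_G hz) (h.Zc_le_zentr hc)⟩
    have hEs : ∀ e ∈ E, e * s = s * e := by
      intro e he
      have h1 := inside_le (CfsgLib.commutator_le_of_le_normalizer (fun σ hσ =>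
        inside_normalized (h.data.norm hσ) (hM.norm hσ) (Commute.inv_right (hgR σ hσ)))
        (h.E0_conj hM hg hgR he).2)
      have h2 := h.data.central t ht _ h1
      rw [hsdef]
      calc e * (g * t * g⁻¹) = g * ((g⁻¹ * e * g) * t) * g⁻¹ := by group
        _ = g * (t * (g⁻¹ * e * g)) * g⁻¹ := by rw [h2]
        _ = g * t * g⁻¹ * e := by group
    have hW : ∀ w ∈ fixMod D Z s, ∃ e ∈ E, ∃ z ∈ Z, w = e * z := by
      intro w hw
      obtain ⟨v, hv, hvs, z, hz, rfl⟩ := InvAct.fix_split h.data hτ hw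
      obtain ⟨e, he, a, ha, rfl⟩ := hsplit v (mem_inside.2 ⟨hv, h.inside_of_comm hM hg.mem ht htc (h.D_le_G hv)
        (by rw [commutatorElement_eq_one_iff_mul_comm.2 hvs.symm]; exact one_mem _)⟩)
      exact ⟨e, he, a * z, mul_mem (inside_le ha) hz, (mul_assoc _ _ _)⟩
    obtain ⟨e', he', z', hz', hv⟩ := hW _ (InvAct.moved_le_fixMod h.data hτ (InvAct.disp_mem_moved hx))
    have heD' := (h.E0_conj hM hg hgR he').1
    constructor
    · intro e he
      have heD := (h.E0_conj hM hg hgR he).1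
      refine hinsideA _ (h.data.comm x hx e heD) ?_
      have hse : s * e * s⁻¹ = e := by rw [← hEs e he, mul_inv_cancel_right]
      have e1 : s * ⁅x, e⁆ * s⁻¹ = ⁅e' * z' * x, e⁆ := by
        rw [← hv, disp, show s * x * s⁻¹ * x⁻¹ * x = s * x * s⁻¹ by group,
          show s * ⁅x, e⁆ * s⁻¹ = ⁅s * x * s⁻¹, s * e * s⁻¹⁆ by simp only [commutatorElement_def]; group, hse]
      rw [h.data.comm_mul_left (mul_mem heD' (h.data.Z_le hz')) hx heD,
        h.data.comm_mul_left heD' (h.data.Z_le hz') heD,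
        (commutatorElement_eq_one_iff_mul_comm (g₁ := z') (g₂ := e)).2 (h.data.central z' hz' e heD).symm,
        mul_one] at e1
      have e2 : ⁅⁅x, e⁆, s⁆ = (⁅e', e⁆)⁻¹ := by
        rw [commutatorElement_def ⁅x, e⁆ s,
          show ⁅x, e⁆ * s * ⁅x, e⁆⁻¹ * s⁻¹ = ⁅x, e⁆ * (s * ⁅x, e⁆ * s⁻¹)⁻¹ by group, e1]
        group
      rw [e2]
      exact inv_mem (h.E0_small hM hg hgR he' he).1
    · rw [hv]
      refine Subgroup.mul_mem_sup he' (hinsideA z' hz' ?_)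
      have hinv : s * (e' * z') * s⁻¹ = (e' * z')⁻¹ := by
        rw [← hv, disp]
        exact involution_inverts hss
      have hse : s * e' * s⁻¹ = e' := by rw [← hEs e' he', mul_inv_cancel_right]
      have e3 : s * z' * s⁻¹ = (e' * e')⁻¹ * z' := by
        calc s * z' * s⁻¹ = (s * e' * s⁻¹)⁻¹ * (s * (e' * z') * s⁻¹) := by group
          _ = e'⁻¹ * (z'⁻¹ * e'⁻¹) := by rw [hse, hinv, mul_inv_rev]
          _ = e'⁻¹ * (e'⁻¹ * z') := by
            rw [inv_eq_of_mul_eq_one_right (h.data.sq_one z' hz'), h.data.central z' hz' _ (inv_mem heD')]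
          _ = (e' * e')⁻¹ * z' := by group
      rw [commutatorElement_def, show z' * s * z'⁻¹ * s⁻¹ = z' * (s * z' * s⁻¹)⁻¹ by group, e3,
        show z' * ((e' * e')⁻¹ * z')⁻¹ = z' * z'⁻¹ * (e' * e') by rw [mul_inv_rev, inv_inv, mul_assoc], mul_inv_cancel, one_mul]
      exact (h.E0_small hM hg hgR he' he').2
  obtain ⟨t₀, ht₀, ht₀c, ht₀M⟩ := hex
  have key : ∀ x ∈ D, ∀ v ∈ Q, x * v * x⁻¹ ∈ Q := by
    intro x hx v hv
    have hle : Q ≤ Q.comap (MulAut.conj x).toMonoidHom := by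
      refine sup_le (sup_le (fun e he => ?_) (fun a ha => ?_)) ?_
      · show x * e * x⁻¹ ∈ Q
        rw [show x * e * x⁻¹ = ⁅x, e⁆ * e by simp only [commutatorElement_def]; group]
        exact mul_mem (Subgroup.mem_sup_left (Subgroup.mem_sup_right ((hs t₀ ht₀ ht₀c ht₀M x hx).1 e he)))
          (Subgroup.mem_sup_left (Subgroup.mem_sup_left he))
      · show x * a * x⁻¹ ∈ Q
        rw [h.data.central a (inside_le ha) x hx, mul_inv_cancel_right]
        exact Subgroup.mem_sup_left (Subgroup.mem_sup_right ha)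
      · rintro _ ⟨t, ht, rfl⟩
        obtain ⟨htZ, htM⟩ := mem_inside.1 ht
        rw [inv_inv] at htM
        show x * (g * t * g⁻¹) * x⁻¹ ∈ Q
        have hsQ : g * t * g⁻¹ ∈ Q := Subgroup.mem_sup_right ⟨t, ht, rfl⟩
        by_cases htc : t ∈ Zc
        · rwa [h.conj_Zc hM hg.mem htc, h.conj_Zc hM (h.D_le_G hx) htc, ← h.conj_Zc hM hg.mem htc]
        · have h1 : disp (g * t * g⁻¹) x ∈ Q := Subgroup.mem_sup_left ((hs t htZ htc htM x hx).2)
          rw [show x * (g * t * g⁻¹) * x⁻¹ = (disp (g * t * g⁻¹) x)⁻¹ * (g * t * g⁻¹) by rw [disp]; group]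
          exact mul_mem (inv_mem h1) hsQ
    exact hle hv
  rw [Subgroup.mem_normalizer_iff]
  refine fun v => ⟨key d hd v, fun hv => ?_⟩
  have := key d⁻¹ (inv_mem hd) _ hv
  simpa [mul_assoc] using this

/-- A moving element has a fixed element moved back. -/
theorem exists_back (hg : Config G D S M g) (hex : ∃ t ∈ Z, t ∉ Zc ∧ g * t * g⁻¹ ∈ M) :
    ∃ t ∈ Z, t ∉ Zc ∧ g⁻¹ * t * g ∈ M := by
  obtain ⟨t, ht, htc, htM⟩ := hex
  set s := g * t * g⁻¹ with hs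
  have hsS := hg.left t (h.data.Z_le ht) htM
  have hss : s * s = 1 := by
    rw [hs, show g * t * g⁻¹ * (g * t * g⁻¹) = g * (t * t) * g⁻¹ by group, h.data.sq_one t ht]; group
  have hsi : s⁻¹ = s := inv_eq_of_mul_eq_one_right hss
  suffices hfix : ∃ z ∈ Z, z ∉ Zc ∧ ⁅z, s⁆ ∈ Zc by
    obtain ⟨z, hz, hzc, hzs⟩ := hfix
    exact ⟨z, hz, hzc, h.inside_of_comm hM hg.mem ht htc (h.Z_le_G hz) (h.Zc_le_zentr hzs)⟩
  by_cases hc : ⁅t, s⁆ ∈ Zc
  · exact ⟨t, ht, htc, hc⟩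
  · refine ⟨⁅t, s⁆, ?_, hc, ?_⟩
    · rw [show ⁅t, s⁆ = t * (s * t⁻¹ * s⁻¹) by simp only [commutatorElement_def]; group]
      exact mul_mem ht ((Subgroup.mem_normalizer_iff.1 (h.S_le_normalizer_Z hsS) _).1 (inv_mem ht))
    · have e : s * ⁅t, s⁆ * s⁻¹ = ⁅t, s⁆⁻¹ := by
        rw [commutatorElement_def]
        exact involution_inverts' hss
      have hw : ⁅t, s⁆ ∈ Z := by
        rw [show ⁅t, s⁆ = t * (s * t⁻¹ * s⁻¹) by simp only [commutatorElement_def]; group]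
        exact mul_mem ht ((Subgroup.mem_normalizer_iff.1 (h.S_le_normalizer_Z hsS) _).1 (inv_mem ht))
      rw [commutatorElement_def, show ⁅t, s⁆ * s * ⁅t, s⁆⁻¹ * s⁻¹ = ⁅t, s⁆ * (s * ⁅t, s⁆ * s⁻¹)⁻¹ by group, e,
        inv_inv, h.data.sq_one _ hw]
      exact one_mem _

/-- L1: no moving element centralises `R`. -/
theorem config_fixed_false (hg : Config G D S M g) (hgR : ∀ σ ∈ R, σ * g = g * σ)
    (hex : ∃ t ∈ Z, t ∉ Zc ∧ g * t * g⁻¹ ∈ M) : False := by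
  have hgR' : ∀ σ ∈ R, σ * g⁻¹ = g⁻¹ * σ := fun σ hσ => Commute.inv_right (hgR σ hσ)
  have hex' : ∃ t ∈ Z, t ∉ Zc ∧ g⁻¹ * t * g⁻¹⁻¹ ∈ M := by
    obtain ⟨t, ht, htc, htM⟩ := h.exists_back hM hg hex
    exact ⟨t, ht, htc, by rwa [inv_inv]⟩
  set E := ⁅inside D M g, R⁆ with hE
  set A := inside Z M g with hA
  set A' := (inside Z M g⁻¹).map (MulAut.conj g).toMonoidHom with hA'
  set Q := E ⊔ A ⊔ A' with hQ
  have hRB : R ≤ Subgroup.normalizer (inside D M g : Set X) := fun σ hσ =>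
    inside_normalized (h.data.norm hσ) (hM.norm hσ) (hgR σ hσ)
  have hQM : Q ≤ M := by
    refine sup_le (sup_le (fun e he => h.D_le_M hM (h.E0_conj hM hg hgR he).1)
      (inside_le.trans (h.data.Z_le.trans (h.D_le_M hM)))) ?_
    rintro _ ⟨t, ht, rfl⟩
    simpa using (mem_inside.1 ht).2
  have hRQ : R ≤ Subgroup.normalizer (Q : Set X) := by
    refine fun σ hσ => CfsgLib.Comp.mem_normalizer_of_maps fun v hv => ?_
    have hle : Q ≤ Q.comap (MulAut.conj σ).toMonoidHom := by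
      refine sup_le (sup_le (fun e he => ?_) (fun a ha => ?_)) ?_
      · exact Subgroup.mem_sup_left (Subgroup.mem_sup_left
          ((Subgroup.mem_normalizer_iff.1 (CfsgLib.right_le_normalizer_commutator R _ hσ) e).1 he))
      · show σ * a * σ⁻¹ ∈ Q
        rw [h.data.Z_centralized (inside_le ha) hσ, mul_inv_cancel_right]
        exact Subgroup.mem_sup_left (Subgroup.mem_sup_right ha)
      · rintro _ ⟨t, ht, rfl⟩
        show σ * (g * t * g⁻¹) * σ⁻¹ ∈ Q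
        have hc : Commute σ (g * t * g⁻¹) := Commute.mul_right
          (Commute.mul_right (hgR σ hσ) (h.data.Z_centralized (inside_le ht) hσ)) (hgR' σ hσ)
        rw [hc.eq, mul_inv_cancel_right]
        exact Subgroup.mem_sup_right ⟨t, ht, rfl⟩
    exact hle hv
  have hnc : ¬ Q ≤ Subgroup.centralizer (G : Set X) := by
    obtain ⟨t, ht, htc, htM⟩ := hex
    intro hle
    have hm : g * t * g⁻¹ ∈ zentr G := ⟨G.mul_mem (G.mul_mem hg.mem (h.Z_le_G ht)) (G.inv_mem hg.mem),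
      hle (Subgroup.mem_sup_right ⟨t, mem_inside.2 ⟨ht, by rwa [inv_inv]⟩, rfl⟩)⟩
    refine htc (h.mem_Zc ht ?_)
    have e := conj_mem_zentr (inv_mem hg.mem) hm
    rw [inv_inv, show g⁻¹ * (g * t * g⁻¹) * g = t by group] at e
    rw [e]; exact hm
  have hQne : Q ≠ G := fun e => hM.ne (le_antisymm hM.le (e ▸ hQM))
  have hNM : G ⊓ Subgroup.normalizer (Q : Set X) ≤ M := hM.uniq _ inf_le_left
    (h.normalizer_ne (hQM.trans hM.le) hQne hnc) (inf_normalizer_normalized h.normG hRQ)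
    (le_inf h.D_le_G fun d hd => h.D_normalizes_Q hM hg hgR hex hd)
  have hsub : ∀ (g₁ : X) (hg₁ : Config G D S M g₁) (_ : ∀ σ ∈ R, σ * g₁ = g₁ * σ) {e : X},
      e ∈ ⁅inside D M g₁⁻¹, R⁆ → g₁ * e * g₁⁻¹ ∈ ⁅inside D M g₁, R⁆ := fun g₁ hg₁ hgR₁ e he => by
    have := (h.E0_conj hM hg₁.symm (fun σ hσ => Commute.inv_right (hgR₁ σ hσ)) he).2
    simpa using this
  have hD' : ∀ d ∈ D, g * d * g⁻¹ ∈ M := by
    intro d hd
    refine hNM ⟨G.mul_mem (G.mul_mem hg.mem (h.D_le_G hd)) (G.inv_mem hg.mem), ?_⟩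
    have h1 := h.D_normalizes_Q hM hg.symm hgR' hex' hd
    rw [inv_inv] at h1
    set Q' := ⁅inside D M g⁻¹, R⁆ ⊔ inside Z M g⁻¹ ⊔ (inside Z M g).map (MulAut.conj g⁻¹).toMonoidHom with hQ'
    have hto : Q' ≤ Q.comap (MulAut.conj g).toMonoidHom := by
      refine sup_le (sup_le (fun e he => Subgroup.mem_sup_left (Subgroup.mem_sup_left (hsub g hg hgR he)))
        (fun a ha => Subgroup.mem_sup_right ⟨a, ha, rfl⟩)) ?_
      rintro _ ⟨a, ha, rfl⟩
      show g * (g⁻¹ * a * g⁻¹⁻¹) * g⁻¹ ∈ Q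
      rw [show g * (g⁻¹ * a * g⁻¹⁻¹) * g⁻¹ = a by group]
      exact Subgroup.mem_sup_left (Subgroup.mem_sup_right ha)
    have hfrom : Q ≤ Q'.comap (MulAut.conj g⁻¹).toMonoidHom := by
      refine sup_le (sup_le (fun e he => Subgroup.mem_sup_left (Subgroup.mem_sup_left ?_))
        (fun a ha => Subgroup.mem_sup_right ⟨a, ha, rfl⟩)) ?_
      · show g⁻¹ * e * g⁻¹⁻¹ ∈ _
        rw [inv_inv]
        exact (h.E0_conj hM hg hgR he).2
      · rintro _ ⟨a, ha, rfl⟩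
        show g⁻¹ * (g * a * g⁻¹) * g⁻¹⁻¹ ∈ Q'
        rw [show g⁻¹ * (g * a * g⁻¹) * g⁻¹⁻¹ = a by group]
        exact Subgroup.mem_sup_left (Subgroup.mem_sup_right ha)
    refine CfsgLib.Comp.mem_normalizer_of_maps fun v hv => ?_
    have h2 : g⁻¹ * v * g⁻¹⁻¹ ∈ Q' := hfrom hv
    have h3 : g * (d * (g⁻¹ * v * g⁻¹⁻¹) * d⁻¹) * g⁻¹ ∈ Q := hto ((Subgroup.mem_normalizer_iff.1 h1 _).1 h2)
    rwa [show g * d * g⁻¹ * v * (g * d * g⁻¹)⁻¹ = g * (d * (g⁻¹ * v * g⁻¹⁻¹) * d⁻¹) * g⁻¹ by group]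
  refine hg.notMem (hM.normD ⟨hg.mem, CfsgLib.Comp.mem_normalizer_of_maps fun d hd => ?_⟩)
  have hle : D.map (MulAut.conj g).toMonoidHom ≤ D := by
    rw [← h.data.gen, Subgroup.map_commutator]
    refine (Subgroup.commutator_mono ?_ ?_).trans ((le_of_eq h.D_eq.symm).trans (le_of_eq h.data.gen.symm))
    · rintro _ ⟨x, hx, rfl⟩
      exact hg.left x hx (hD' x hx)
    · rintro _ ⟨σ, hσ, rfl⟩
      show g * σ * g⁻¹ ∈ R
      rw [← hgR σ hσ, mul_inv_cancel_right]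
      exact hσ
  exact hle ⟨d, hd, rfl⟩

/-- A conjugate in `M` of an element of `Z`, centralised by `R`, comes from `M`. -/
theorem moved_fixed (hg : g ∈ G) {t : X} (ht : t ∈ Z) (htc : t ∉ Zc) (hu : g * t * g⁻¹ ∈ M)
    (huR : ∀ σ ∈ R, σ * (g * t * g⁻¹) = g * t * g⁻¹ * σ) : g ∈ M := by
  set b := g * t * g⁻¹ with hb
  obtain ⟨k, ⟨hkG, -, hkb⟩, hkR⟩ := h.exists_fixed_conj
    (Y := (G ⊔ R) ⊓ Subgroup.centralizer ({b} : Set X)) inf_le_left hg
    (le_inf le_sup_right fun σ hσ => Subgroup.mem_centralizer_singleton_iff.2 (huR σ hσ))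
    (fun σ hσ => ⟨Subgroup.mul_mem _ (Subgroup.mul_mem _ (Subgroup.mem_sup_left hg) (Subgroup.mem_sup_right hσ))
      (Subgroup.inv_mem _ (Subgroup.mem_sup_left hg)), Subgroup.mem_centralizer_singleton_iff.2 (by
        rw [hb]
        calc g * σ * g⁻¹ * (g * t * g⁻¹) = g * (σ * t) * g⁻¹ := by group
          _ = g * (t * σ) * g⁻¹ := by rw [h.data.Z_centralized ht hσ]
          _ = g * t * g⁻¹ * (g * σ * g⁻¹) := by group)⟩)
  set c := k⁻¹ * g with hc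
  have hkb' := Subgroup.mem_centralizer_singleton_iff.1 hkb
  have hct : c * t * c⁻¹ = b := by
    calc c * t * c⁻¹ = k⁻¹ * (b * k) := by rw [hc, hb]; group
      _ = b := by rw [← hkb']; group
  have hcG : c ∈ G := mul_mem (inv_mem hkG) hg
  have hcM : c ∈ M := by
    by_contra hcM
    obtain ⟨g', t', hcfg, hg'R, ht', ht'c, ht'M, -⟩ := h.exists_config hM (E := R) le_rfl
      (fun P hP hP2 hRP => h.conj_into_S_fixed hM.le (h.S_le_M hM) hM.norm hP hP2 hRP)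
      hcG hcM hkR ht htc (hct.symm ▸ hu)
    exact h.config_fixed_false hM hcfg hg'R ⟨t', ht', ht'c, ht'M⟩
  have hkc : c⁻¹ * k * c ∈ cmod G {t} := by
    refine mem_cmod_singleton.2 ⟨mul_mem (mul_mem (inv_mem hcG) hkG) hcG, ?_⟩
    rw [show ⁅c⁻¹ * k * c, t⁆ = c⁻¹ * ⁅k, c * t * c⁻¹⁆ * c by simp only [commutatorElement_def]; group, hct,
      commutatorElement_eq_one_iff_mul_comm.2 hkb', mul_one, inv_mul_cancel]
    exact one_mem _
  have := M.mul_mem hcM (hM.cent t ht htc hkc)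
  rw [hc, show k⁻¹ * g * ((k⁻¹ * g)⁻¹ * k * (k⁻¹ * g)) = g by group] at this
  exact this

end Setup

end CfsgLib.FlavellA
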