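import Cfsg.Agent.Lib.FlavellA.Reduce

/-!
LEMMA A in general: induction on the order and the dimension, with the reduction to an irreducible module.

Blueprint: `blueprint/FlavellA.md`, section 1.
-/

set_option autoImplicit false
set_option linter.unusedSectionVars false
set_option linter.style.haveILetI false

namespace CfsgLib.FlavellA

open scoped commutatorElement

universe u v w

theorem pTwo_of_bot {X : Type u} [Group X] {p : ℕ} {G : Subgroup X} (h : G = ⊥) : PTwo p G :=
  pTwo_of_pgroup (h ▸ IsPGroup.of_bot)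

/-- The statement of LEMMA A for the pairs of measure at most `m`. -/
def MainUpTo (K : Type v) [Field K] (p r m : ℕ) : Prop :=
  ∀ (X : Type u) [Group X] [Finite X] (W : Type w) [AddCommGroup W] [Module K W] [FiniteDimensional K W]
    (ρ : X →* Module.End K W), Function.Injective ρ → ∀ G R : Subgroup X, Nat.card R = r →
    R ≤ Subgroup.normalizer (G : Set X) → (Nat.card G).Coprime r →
    (∀ v : W, (∀ σ ∈ R, ρ σ v = v) → v = 0) → Nat.card G + Module.finrank K W ≤ m → PTwo p ⁅G, R⁆

variable {K : Type v} [Field K] [IsAlgClosed K] {p r : ℕ} [Fact p.Prime] [CharP K p]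

/-- The image in a smaller module. -/
theorem pTwo_image {m : ℕ} (ih : MainUpTo.{u, v, w} K p r m) (hr : r.Prime) {X : Type u} [Group X] [Finite X]
    {H : Subgroup X} {G R : Subgroup X} (hGH : G ≤ H) (hRH : R ≤ H) (hR : Nat.card R = r)
    (hnorm : R ≤ Subgroup.normalizer (G : Set X)) (hcop : (Nat.card G).Coprime r) (hgen : ⁅G, R⁆ = G)
    {W : Type w} [AddCommGroup W] [Module K W] [FiniteDimensional K W] (α : H →* Module.End K W)
    (hfix : ∀ v : W, (∀ σ : H, (σ : X) ∈ R → α σ v = v) → v = 0) (hm : Nat.card G + Module.finrank K W ≤ m) :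
    PTwo p ((G.subgroupOf H).map (QuotientGroup.mk' α.toHomUnits.ker)) := by
  classical
  set f := α.toHomUnits with hf
  set q := QuotientGroup.mk' f.ker with hq
  set G' := (G.subgroupOf H).map q with hG'
  set R' := (R.subgroupOf H).map q with hR'
  let β : H ⧸ f.ker →* Module.End K W := (Units.coeHom _).comp (QuotientGroup.kerLift f)
  have hβ : Function.Injective β := fun a b hab => QuotientGroup.kerLift_injective f (Units.ext hab)
  rcases subsingleton_or_nontrivial W with hW | hW
  · exact pTwo_of_bot ((Subgroup.eq_bot_iff_forall _).2 fun a _ =>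
      hβ (LinearMap.ext fun v => Subsingleton.elim _ _))
  have hgen' : ⁅G', R'⁆ = G' := by
    rw [hG', hR', ← Subgroup.map_commutator]
    congr 1
    refine Subgroup.map_injective H.subtype_injective ?_
    rw [Subgroup.map_commutator, Subgroup.map_subgroupOf_eq_of_le hGH, Subgroup.map_subgroupOf_eq_of_le hRH, hgen]
  have hinjR : ∀ σ : H, (σ : X) ∈ R → q σ = 1 → σ = 1 := by
    intro σ hσ he
    by_contra hne
    obtain ⟨v, hv⟩ := exists_ne (0 : W)
    refine hv (hfix v fun τ hτ => ?_)
    have hcyc : τ ∈ Subgroup.zpowers σ := by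
      haveI := Fact.mk hr
      have hzR : Subgroup.zpowers σ = R.subgroupOf H := by
        refine Subgroup.eq_of_le_of_card_ge (Subgroup.zpowers_le.2 (Subgroup.mem_subgroupOf.2 hσ)) ?_
        rw [Nat.card_congr (Subgroup.subgroupOfEquivOfLe hRH).toEquiv, hR, Nat.card_zpowers, orderOf_eq_prime (by
          have h1 := pow_card_eq_one' (x := (⟨(σ : X), hσ⟩ : R))
          rw [hR] at h1
          exact Subtype.ext (congrArg (fun y : R => (y : X)) h1)) hne]
      exact hzR.ge (Subgroup.mem_subgroupOf.2 hτ)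
    obtain ⟨i, rfl⟩ := hcyc
    have h1 : f σ = 1 := MonoidHom.mem_ker.1 ((QuotientGroup.eq_one_iff σ).1 he)
    have h2 : f (σ ^ i) = 1 := by rw [map_zpow, h1, one_zpow]
    have h3 := congrArg Units.val h2
    rw [hf, MonoidHom.coe_toHomUnits] at h3
    show α (σ ^ i) v = v
    rw [h3]; rfl
  have hcardR : Nat.card R' = r := by
    rw [← hR, ← Nat.card_congr (Subgroup.subgroupOfEquivOfLe hRH).toEquiv]
    refine (Nat.card_eq_of_bijective (fun σ : R.subgroupOf H => (⟨q σ, (σ : H), σ.2, rfl⟩ : R'))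
      ⟨fun a b hab => ?_, fun ⟨y, σ, hσ, e⟩ => ⟨⟨σ, hσ⟩, Subtype.ext e⟩⟩).symm
    refine Subtype.ext (inv_mul_eq_one.1 (hinjR _ ?_ ?_))
    · exact R.mul_mem (R.inv_mem (Subgroup.mem_subgroupOf.1 a.2)) (Subgroup.mem_subgroupOf.1 b.2)
    · rw [map_mul, map_inv, inv_mul_eq_one]
      exact congrArg Subtype.val hab
  have hcardG : Nat.card G' ∣ Nat.card G := by
    rw [← Nat.card_congr (Subgroup.subgroupOfEquivOfLe hGH).toEquiv]
    exact Subgroup.card_map_dvd _ _
  have h := ih (H ⧸ f.ker) W β hβ G' R' hcardR ?_ (Nat.Coprime.coprime_dvd_left hcardG hcop) ?_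
    (le_trans (Nat.add_le_add_right (Nat.le_of_dvd Nat.card_pos hcardG) _) hm)
  · rwa [hgen'] at h
  · refine (Subgroup.map_mono ?_).trans (Subgroup.le_normalizer_map q)
    intro σ hσ
    rw [Subgroup.mem_normalizer_iff]
    intro x
    exact Subgroup.mem_normalizer_iff.1 (hnorm hσ) x
  · intro v hv
    refine hfix v fun σ hσ => ?_
    exact hv (q σ) ⟨σ, hσ, rfl⟩

theorem main_upTo (hr : r.Prime) : ∀ m, MainUpTo.{u, v, w} K p r m := by
  intro m
  induction m using Nat.strong_induction_on with
  | _ m ih =>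
  intro X _ _ W _ _ _ ρ hρ G R hR hnorm hcop hfix hm
  classical
  haveI := Fact.mk hr
  have hsolv : Group.IsSolvable R := by
    haveI : IsCyclic R := isCyclic_of_prime_card hR
    letI : CommGroup R := IsCyclic.commGroup
    exact Group.isSolvable_of_comm fun a b => mul_comm a b
  have hcopR : (Nat.card R).Coprime (Nat.card G) := by rw [hR]; exact hcop.symm
  have hGG : ⁅G, R⁆ ≤ G := CfsgLib.commutator_le_of_le_normalizer hnorm
  have hsmaller : ∀ M ≤ G, M ≠ G → R ≤ Subgroup.normalizer (M : Set X) → PTwo p ⁅M, R⁆ := by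
    intro M hM hne hRM
    have hlt : Nat.card M < Nat.card G := by
      refine lt_of_le_of_ne (Subgroup.card_le_of_le hM) fun e => hne (Subgroup.eq_of_le_of_card_ge hM e.ge)
    exact ih (Nat.card M + Module.finrank K W) (by omega) X W ρ hρ M R hR hRM
      (Nat.Coprime.coprime_dvd_left (Subgroup.card_dvd_of_le hM) hcop) hfix le_rfl
  by_cases hgen : ⁅G, R⁆ = G
  swap
  · have h := hsmaller _ hGG hgen (CfsgLib.right_le_normalizer_commutator R G)
    rwa [CfsgLib.coprime_commutator_commutator hnorm hcopR (Or.inl hsolv)] at h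
  rw [hgen]
  by_contra hbad
  by_cases hirr : ∀ T : Submodule K W, (∀ x ∈ G, ∀ v ∈ T, ρ x v ∈ T) → (∀ x ∈ R, ∀ v ∈ T, ρ x v ∈ T) →
      T = ⊥ ∨ T = ⊤
  · exact Counter.false (p := p) (K := K) (W := W) (ρ := ρ)
      ⟨hr, hR, hnorm, hcop, hρ, hfix, hirr, hsmaller, hgen, hbad⟩
  push Not at hirr
  obtain ⟨T, hTG, hTR, hT0, hT1⟩ := hirr
  set H := G ⊔ R with hH
  have hTH : ∀ x ∈ H, ∀ v ∈ T, ρ x v ∈ T := by
    intro x hx v hv
    obtain ⟨g, hg, σ, hσ, rfl⟩ := CfsgLib.mem_sup_of_le_normalizer hnorm hx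
    rw [map_mul, Module.End.mul_apply]
    exact hTG g hg _ (hTR σ hσ v hv)
  let α₁ : H →* Module.End K T :=
    { toFun := fun x => (ρ (x : X)).restrict (hTH x x.2)
      map_one' := LinearMap.ext fun v => Subtype.ext (by simp)
      map_mul' := fun a b => LinearMap.ext fun v => Subtype.ext (by simp) }
  let α₂ : H →* Module.End K (W ⧸ T) :=
    { toFun := fun x => T.mapQ T (ρ (x : X)) (fun v hv => hTH x x.2 v hv)
      map_one' := LinearMap.ext fun v => Submodule.Quotient.induction_on T v fun w => by simp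
      map_mul' := fun a b => LinearMap.ext fun v => Submodule.Quotient.induction_on T v fun w => by simp }
  have hd1 : Module.finrank K T < Module.finrank K W := Submodule.finrank_lt hT1
  have hd2 : Module.finrank K (W ⧸ T) < Module.finrank K W := by
    have := Submodule.finrank_quotient_add_finrank T
    have h2 : 0 < Module.finrank K T := by
      haveI : Nontrivial T := Submodule.nontrivial_iff_ne_bot.2 hT0
      exact Module.finrank_pos
    omega
  obtain ⟨v0, hv0⟩ : ∃ v : W, v ≠ 0 := by
    obtain ⟨v, -, hv⟩ := Submodule.exists_mem_ne_zero_of_ne_bot hT0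
    exact ⟨v, hv⟩
  haveI : Nontrivial W := ⟨⟨v0, 0, hv0⟩⟩
  have hrK : (r : K) ≠ 0 := natCast_ne_zero hr (char_ne ρ hR hfix)
  have h1 := pTwo_image (m := Nat.card G + Module.finrank K T) (ih _ (by omega)) hr (le_sup_left : G ≤ H)
    le_sup_right hR hnorm hcop hgen α₁ (fun v hv => Subtype.ext (hfix v fun σ hσ =>
      congrArg Subtype.val (hv ⟨σ, Subgroup.mem_sup_right hσ⟩ hσ))) le_rfl
  have h2 := pTwo_image (m := Nat.card G + Module.finrank K (W ⧸ T)) (ih _ (by omega)) hr (le_sup_left : G ≤ H)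
    le_sup_right hR hnorm hcop hgen α₂ ?_ le_rfl
  · refine hbad ?_
    have h3 := pTwo_map (pTwo_of_two_images (QuotientGroup.mk' α₁.toHomUnits.ker)
      (QuotientGroup.mk' α₂.toHomUnits.ker) h1 h2 fun x _ hx1 hx2 => ⟨1, ?_⟩) H.subtype
    · rwa [Subgroup.map_subgroupOf_eq_of_le le_sup_left] at h3
    rw [pow_one]
    replace hx1 : α₁.toHomUnits x = 1 := MonoidHom.mem_ker.1 ((QuotientGroup.eq_one_iff x).1 hx1)
    replace hx2 : α₂.toHomUnits x = 1 := MonoidHom.mem_ker.1 ((QuotientGroup.eq_one_iff x).1 hx2)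
    refine Subtype.ext (hρ ?_)
    rw [SubmonoidClass.coe_pow, Subgroup.coe_one, map_pow, map_one]
    set u := ρ (x : X) with hu
    have e1 : ∀ v ∈ T, u v = v := fun v hv => by
      have := congrArg (fun g : (Module.End K T)ˣ => ((g : Module.End K T) ⟨v, hv⟩ : W)) hx1
      simpa [MonoidHom.coe_toHomUnits, α₁] using this
    have e2 : ∀ v, u v - v ∈ T := fun v => by
      have := congrArg (fun g : (Module.End K (W ⧸ T))ˣ => (g : Module.End K (W ⧸ T)) (T.mkQ v)) hx2
      rw [← Submodule.Quotient.eq]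
      simpa [MonoidHom.coe_toHomUnits, α₂] using this
    have hsq : (u - 1) ^ 2 = 0 := LinearMap.ext fun v => by
      rw [pow_two, Module.End.mul_apply, LinearMap.sub_apply, LinearMap.sub_apply, Module.End.one_apply,
        Module.End.one_apply, e1 _ (e2 v), sub_self, LinearMap.zero_apply]
    haveI : CharP (Module.End K W) p :=
      charP_of_injective_algebraMap (algebraMap K (Module.End K W)).injective p
    have hp2 : 2 ≤ p := (Fact.out : p.Prime).two_le
    have h0 : (u - 1) ^ p = 0 := by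
      rw [show p = 2 + (p - 2) by omega, pow_add, hsq, zero_mul]
    rwa [sub_pow_char_of_commute p (Commute.one_right u), one_pow, sub_eq_zero] at h0
  · intro v hv
    induction v using Submodule.Quotient.induction_on with
    | H w =>
      haveI := Fintype.ofFinite R
      set s := ∑ σ : R, ρ (σ : X) w with hs
      have hsfix : s = 0 := hfix s fun τ hτ => by
        rw [hs, map_sum]
        refine Fintype.sum_equiv (Equiv.mulLeft (⟨τ, hτ⟩ : R)) _ _ fun σ => ?_
        rw [← Module.End.mul_apply, ← map_mul]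
        rfl
      have hq : T.mkQ s = (r : K) • T.mkQ w := by
        rw [hs, map_sum, Finset.sum_congr rfl (fun (σ : R) _ =>
          show T.mkQ (ρ (σ : X) w) = T.mkQ w from hv ⟨(σ : X), Subgroup.mem_sup_right σ.2⟩ σ.2), Finset.sum_const,
          Finset.card_univ, ← Nat.card_eq_fintype_card, hR, ← Nat.cast_smul_eq_nsmul K]
      rw [hsfix, map_zero] at hq
      exact ((smul_eq_zero.1 hq.symm).resolve_left hrK)

/-- LEMMA A. -/
theorem pTwo_commutator {X : Type u} [Group X] [Finite X] {W : Type w} [AddCommGroup W] [Module K W]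
    [FiniteDimensional K W] (ρ : X →* Module.End K W) (hρ : Function.Injective ρ) {G R : Subgroup X}
    (hr : r.Prime) (hR : Nat.card R = r) (hnorm : R ≤ Subgroup.normalizer (G : Set X))
    (hcop : (Nat.card G).Coprime r) (hfix : ∀ v : W, (∀ σ ∈ R, ρ σ v = v) → v = 0) : PTwo p ⁅G, R⁆ :=
  main_upTo hr _ X W ρ hρ G R hR hnorm hcop hfix le_rfl

end CfsgLib.FlavellA
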