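import Cfsg.Agent.Lib.FlavellA.Setup

/-!
Maximal `p`-subgroups normalised by `D` and `R`: they have an element moving `Z` modulo the centre.

Blueprint: `blueprint/FlavellA.md`, section 2 (beta).
-/

set_option autoImplicit false
set_option linter.unusedSectionVars false
set_option linter.style.haveILetI false

namespace CfsgLib.FlavellA

open scoped commutatorElement Pointwise

universe u

variable {X : Type u} [Group X]

/-- A `p`-subgroup of `G` normalised by `R` and by `D`. -/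
structure IsDR (G R D : Subgroup X) (p : ℕ) (P : Subgroup X) : Prop where
  le : P ≤ G
  pgroup : IsPGroup p P
  normR : R ≤ Subgroup.normalizer (P : Set X)
  normD : D ≤ Subgroup.normalizer (P : Set X)

theorem inf_normalizer_normalized {G R P : Subgroup X} (hG : R ≤ Subgroup.normalizer (G : Set X))
    (hP : R ≤ Subgroup.normalizer (P : Set X)) :
    R ≤ Subgroup.normalizer ((G ⊓ Subgroup.normalizer (P : Set X) : Subgroup X) : Set X) := by
  intro σ hσ
  rw [Subgroup.mem_normalizer_iff]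
  intro x
  have h1 := Subgroup.mem_normalizer_iff.1 (hG hσ) x
  have h2 : x ∈ Subgroup.normalizer (P : Set X) ↔ σ * x * σ⁻¹ ∈ Subgroup.normalizer (P : Set X) := by
    refine ⟨fun hx => mul_mem (mul_mem (hP hσ) hx) (inv_mem (hP hσ)), fun hx => ?_⟩
    have h3 := mul_mem (mul_mem (inv_mem (hP hσ)) hx) (hP hσ)
    rwa [show σ⁻¹ * (σ * x * σ⁻¹) * σ = x by group] at h3
  exact ⟨fun hx => ⟨h1.1 hx.1, h2.1 hx.2⟩, fun hx => ⟨h1.2 hx.1, h2.2 hx.2⟩⟩

theorem eq_one_of_pow_coprime {x : X} {m k : ℕ} (hcop : m.Coprime k) (h1 : x ^ m = 1) (h2 : x ^ k = 1) : x = 1 := by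
  have hg := pow_gcd_eq_one.2 ⟨h1, h2⟩
  rwa [hcop.gcd_eq_one, pow_one] at hg

namespace Setup

variable [Finite X] {G R S D Z Zc : Subgroup X} {p r n : ℕ} (h : Setup G R S D Z Zc p r n)
include h

theorem cop_two_pow (i j : ℕ) : (p ^ i).Coprime (2 ^ j) :=
  ((Nat.coprime_primes h.pprime Nat.prime_two).2 h.p_two).pow i j

/-- `D` is not in `Z`. -/
theorem D_not_le_Z : ¬ D ≤ Z := fun hle => h.D_ne (eq_bot_iff.2 (by
  rw [← h.data.gen, Subgroup.commutator_le]
  intro x hx σ hσ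
  rw [Subgroup.mem_bot, commutatorElement_eq_one_iff_mul_comm]
  exact (h.data.Z_centralized (hle hx) hσ).symm))

theorem D_not_central : ¬ D ≤ Subgroup.centralizer (G : Set X) := fun hle => h.D_not_le_Z fun _ hx =>
  h.data.mem_Z hx fun σ hσ => Subgroup.mem_centralizer_iff.1 (h.centR ⟨h.D_le_G hx, hle hx⟩) σ hσ

theorem G_ne_D : G ≠ D := fun e => h.D_not_le_Z (by
  have h1 : ⁅G, G⁆ ≤ Z := by
    rw [Subgroup.commutator_le]
    exact fun a ha b hb => h.data.comm a (e.le ha) b (e.le hb)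
  rw [h.perfect] at h1
  exact e.ge.trans h1)

theorem G_not_pgroup {q : ℕ} (hq : q.Prime) (hG : IsPGroup q G) : q = 2 := by
  haveI : Fact q.Prime := ⟨hq⟩
  haveI : Fact (Nat.Prime 2) := ⟨Nat.prime_two⟩
  by_contra hne
  refine h.D_ne (Subgroup.card_eq_one.1 ?_)
  obtain ⟨a, ha⟩ := IsPGroup.iff_card.1 hG
  obtain ⟨b, hb⟩ := IsPGroup.iff_card.1 h.data.two
  have h1 := Subgroup.card_dvd_of_le h.D_le_G
  rw [ha, hb] at h1
  have h2 := ((Nat.coprime_primes Nat.prime_two hq).2 (Ne.symm hne)).pow b a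
  rw [hb]
  exact h2.eq_one_of_dvd h1

/-- A non-central proper subgroup has a proper normaliser. -/
theorem normalizer_ne {P : Subgroup X} (hP : P ≤ G) (hne : P ≠ G)
    (hnc : ¬ P ≤ Subgroup.centralizer (G : Set X)) : G ⊓ Subgroup.normalizer (P : Set X) ≠ G := fun e =>
  (h.simple P hP (e.ge.trans inf_le_right)).elim hnc hne

theorem pgroup_not_central {P : Subgroup X} (hP : P ≤ G) (hp : IsPGroup p P) (hne : P ≠ ⊥) :
    ¬ P ≤ Subgroup.centralizer (G : Set X) := fun hle => hne (h.centP P (le_inf hP hle) hp)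

theorem pgroup_ne {P : Subgroup X} (hp : IsPGroup p P) : P ≠ G := fun e =>
  h.p_two (h.G_not_pgroup h.pprime (e ▸ hp))

theorem DR_normalizer_ne {P : Subgroup X} (hP : IsDR G R D p P) (hne : P ≠ ⊥) :
    G ⊓ Subgroup.normalizer (P : Set X) ≠ G :=
  h.normalizer_ne hP.le (h.pgroup_ne hP.pgroup) (h.pgroup_not_central hP.le hP.pgroup hne)

theorem commutator_G : ⁅G, R⁆ = G := by
  refine (h.simple ⁅G, R⁆ (CfsgLib.commutator_le_of_le_normalizer h.normG)
    (CfsgLib.left_le_normalizer_commutator R G)).resolve_left fun hle => h.D_not_central ?_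
  exact h.data.gen.ge.trans ((Subgroup.commutator_mono h.D_le_G le_rfl).trans hle)

/-- Invariant `q`-subgroups are centralised for `q` different from `2` and `p`. -/
theorem centralized_of_other {q : ℕ} (hq : q.Prime) (hq2 : q ≠ 2) (hqp : q ≠ p) {U : Subgroup X} (hU : U ≤ G)
    (hUq : IsPGroup q U) (hRU : R ≤ Subgroup.normalizer (U : Set X)) :
    U ≤ Subgroup.centralizer (R : Set X) := by
  have hne : U ≠ G := fun e => hq2 (h.G_not_pgroup hq (e ▸ hUq))
  obtain ⟨Q, hQle, hQp, -, hQ2⟩ := h.loc U hU hne hRU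
  have hbot : ∀ x ∈ ⁅U, R⁆, x = 1 := by
    intro x hx
    obtain ⟨i, hi⟩ := hUq ⟨x, CfsgLib.commutator_le_of_le_normalizer hRU hx⟩
    have hi' : x ^ q ^ i = 1 := congrArg Subtype.val hi
    obtain ⟨j, hj⟩ := hQ2 x hx
    obtain ⟨k, hk⟩ := hQp ⟨_, hj⟩
    have hk' : (x ^ 2 ^ j) ^ p ^ k = 1 := congrArg Subtype.val hk
    rw [← pow_mul] at hk'
    refine eq_one_of_pow_coprime ?_ hi' hk'
    exact Nat.Coprime.mul_right (((Nat.coprime_primes hq Nat.prime_two).2 hq2).pow i j)
      (((Nat.coprime_primes hq h.pprime).2 hqp).pow i k)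
  intro u hu
  rw [Subgroup.mem_centralizer_iff]
  intro σ hσ
  exact (commutatorElement_eq_one_iff_mul_comm.1 (hbot _ (Subgroup.commutator_mem_commutator hu hσ))).symm

/-- No subgroup normalised by `D` and `R` is a Sylow `p`-subgroup of `G`. -/
theorem not_sylow {P : Subgroup X} (hP : IsDR G R D p P)
    (hmax : ∀ U ≤ G, IsPGroup p U → Nat.card U ∣ Nat.card P) : False := by
  haveI : Fact p.Prime := ⟨h.pprime⟩
  haveI : Fact (Nat.Prime 2) := ⟨Nat.prime_two⟩
  set C := Subgroup.centralizer (R : Set X) with hC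
  set K := P ⊔ D with hK
  have hKG : K ≤ G := sup_le hP.le h.D_le_G
  obtain ⟨a, ha⟩ := IsPGroup.iff_card.1 hP.pgroup
  obtain ⟨b, hb⟩ := IsPGroup.iff_card.1 h.data.two
  have hne0 : ∀ A B : Subgroup X, A.relIndex B ≠ 0 := fun A B => by
    rw [Subgroup.relIndex]
    exact Subgroup.index_ne_zero_of_finite
  have hdvd : ∀ A B : Subgroup X, A ≤ B → ∀ E : Subgroup X, A ≤ E → E.relIndex B ∣ A.relIndex B :=
    fun A B hAB E hAE => by
      rw [← Subgroup.inf_relIndex_right E B]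
      exact Subgroup.relIndex_dvd_of_le_left B (le_inf hAE hAB)
  have hcardrel : ∀ A B : Subgroup X, A ≤ B → Nat.card A * A.relIndex B = Nat.card B := fun A B hAB => by
    have := Subgroup.relIndex_mul_relIndex ⊥ A B bot_le hAB
    rwa [Subgroup.relIndex_bot_left, Subgroup.relIndex_bot_left] at this
  -- the two parts
  set α := C.relIndex P with hα
  set β := C.relIndex D with hβ
  have hαp : ∃ i, α = p ^ i := (Nat.dvd_prime_pow h.pprime).1
    (by rw [← ha, hα]; exact Subgroup.relIndex_dvd_card C P) |>.elim fun i hi => ⟨i, hi.2⟩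
  have hβ2 : ∃ i, β = 2 ^ i := (Nat.dvd_prime_pow Nat.prime_two).1
    (by rw [← hb, hβ]; exact Subgroup.relIndex_dvd_card C D) |>.elim fun i hi => ⟨i, hi.2⟩
  set m := C.relIndex G with hm
  have hmαβ : m ∣ α * β := by
    rw [Nat.dvd_iff_prime_pow_dvd_dvd]
    intro q e hq hqe
    rcases Nat.eq_zero_or_pos e with rfl | he
    · simp
    haveI : Fact q.Prime := ⟨hq⟩
    by_cases hqp : q = p
    · subst hqp
      refine dvd_mul_of_dvd_left ?_ _
      have h1 : m ∣ (P ⊓ C).relIndex G := hdvd _ _ (inf_le_left.trans hP.le) C inf_le_right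
      rw [← Subgroup.relIndex_mul_relIndex (P ⊓ C) P G inf_le_left hP.le, Subgroup.inf_relIndex_left] at h1
      refine (Nat.Coprime.dvd_of_dvd_mul_right ?_ (hqe.trans h1))
      refine Nat.Coprime.pow_left e (hq.coprime_iff_not_dvd.2 fun hd => ?_)
      obtain ⟨U, hU⟩ := Sylow.exists_subgroup_card_pow_prime (G := G) q (n := a + 1)
        (by rw [← hcardrel P G hP.le, ha, pow_succ]; exact mul_dvd_mul_left _ hd)
      have h2 := hmax (U.map G.subtype) (Subgroup.map_subtype_le _)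
        ((IsPGroup.of_card hU).map _)
      rw [Subgroup.card_map_of_injective G.subtype_injective, hU, ha,
        Nat.pow_dvd_pow_iff_le_right hq.one_lt] at h2
      omega
    by_cases hq2 : q = 2
    · subst hq2
      refine dvd_mul_of_dvd_right ?_ _
      have h1 : m ∣ (S ⊓ C).relIndex G := hdvd _ _ (inf_le_left.trans h.S_le) C inf_le_right
      rw [← Subgroup.relIndex_mul_relIndex (S ⊓ C) S G inf_le_left h.S_le, Subgroup.inf_relIndex_left] at h1
      obtain ⟨s, hs⟩ := IsPGroup.iff_card.1 h.S_two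
      have h1' : 2 ^ e ∣ C.relIndex S := by
        refine (Nat.Coprime.dvd_of_dvd_mul_right ?_ (hqe.trans h1))
        refine Nat.Coprime.pow_left e (hq.coprime_iff_not_dvd.2 fun hd => ?_)
        obtain ⟨U, hU⟩ := Sylow.exists_subgroup_card_pow_prime (G := G) 2 (n := s + 1)
          (by rw [← hcardrel S G h.S_le, hs, pow_succ]; exact mul_dvd_mul_left _ hd)
        have h2 := h.S_max (U.map G.subtype) (Subgroup.map_subtype_le _) ((IsPGroup.of_card hU).map _)
        rw [Subgroup.card_map_of_injective G.subtype_injective, hU, hs,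
          Nat.pow_dvd_pow_iff_le_right one_lt_two] at h2
        omega
      refine h1'.trans ?_
      obtain ⟨j, hj⟩ := hβ2
      obtain ⟨k, hk, hk'⟩ := (Nat.dvd_prime_pow Nat.prime_two).1 (hs ▸ Subgroup.relIndex_dvd_card C S)
      have hle : C.relIndex S ≤ β := by
        let f : D ⧸ C.subgroupOf D → S ⧸ C.subgroupOf S := Quotient.map' (Subgroup.inclusion h.D_le_S)
          (fun x y hxy => by
            rw [QuotientGroup.leftRel_apply] at hxy ⊢
            exact hxy)
        refine Nat.card_le_card_of_surjective f fun y => QuotientGroup.induction_on y fun s => ?_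
        obtain ⟨d, hd, τ, hτ, hfix, e'⟩ := h.exists_decomp s.2
        refine ⟨QuotientGroup.mk ⟨d, hd⟩, (QuotientGroup.eq (a := (⟨d, h.D_le_S hd⟩ : S)) (b := s)).2 ?_⟩
        rw [Subgroup.mem_subgroupOf]
        show d⁻¹ * (s : X) ∈ C
        rw [e', inv_mul_cancel_left]
        exact Subgroup.mem_centralizer_iff.2 fun σ hσ => hfix σ hσ
      rw [hj, hk']
      exact Nat.pow_dvd_pow 2 ((Nat.pow_le_pow_iff_right one_lt_two).1 (hj ▸ hk' ▸ hle))
    · exfalso
      obtain ⟨U, -, hRU⟩ := CfsgLib.coprime_le_invariant_sylow h.normG (h.cop_le le_rfl) (Or.inl h.R_solvable)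
        (p := q) bot_le (IsPGroup.of_bot (G := X)) (fun σ _ => Subgroup.mem_normalizer_iff.2 fun y => by simp)
      have hUC := h.centralized_of_other hq hq2 hqp (Subgroup.map_subtype_le _) (U.2.map _) hRU
      have h1 : m ∣ ((U : Subgroup G).map G.subtype).relIndex G :=
        hdvd _ _ (Subgroup.map_subtype_le _) C hUC
      rw [Subgroup.relIndex, Subgroup.subgroupOf, Subgroup.comap_map_eq_self_of_injective G.subtype_injective] at h1
      exact U.not_dvd_index (((dvd_pow_self q he.ne').trans hqe).trans h1)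
  -- so `G = K C`
  have hk : α * β ≤ C.relIndex K := by
    have hcop : (Nat.card P).Coprime (Nat.card D) := by rw [ha, hb]; exact h.cop_two_pow a b
    have h1 : Nat.card P * Nat.card D ≤ Nat.card K := Nat.le_of_dvd Nat.card_pos
      (hcop.mul_dvd_of_dvd_of_dvd (Subgroup.card_dvd_of_le le_sup_left) (Subgroup.card_dvd_of_le le_sup_right))
    have hsub : C ⊓ K ≤ (P ⊓ C) ⊔ (D ⊓ C) := by
      intro x ⟨hxC, hxK⟩
      obtain ⟨u, hu, d, hd, e⟩ := CfsgLib.mem_sup_of_le_normalizer hP.normD hxK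
      have hfix : ∀ σ ∈ R, σ * u = u * σ ∧ σ * d = d * σ := by
        intro σ hσ
        have hu' : σ * u * σ⁻¹ ∈ P := (Subgroup.mem_normalizer_iff.1 (hP.normR hσ) u).1 hu
        have hd' : σ * d * σ⁻¹ ∈ D := h.data.conj_mem hσ hd
        have e1 : σ * u * σ⁻¹ * (σ * d * σ⁻¹) = u * d := by
          calc σ * u * σ⁻¹ * (σ * d * σ⁻¹) = σ * (u * d) * σ⁻¹ := by group
            _ = u * d := by rw [e, Subgroup.mem_centralizer_iff.1 hxC σ hσ, mul_inv_cancel_right]
        have h3 : u⁻¹ * (σ * u * σ⁻¹) = d * (σ * d * σ⁻¹)⁻¹ := by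
          rw [eq_mul_inv_iff_mul_eq, mul_assoc, e1, inv_mul_cancel_left]
        have hP' : u⁻¹ * (σ * u * σ⁻¹) ∈ P := mul_mem (inv_mem hu) hu'
        have hD' : u⁻¹ * (σ * u * σ⁻¹) ∈ D := h3 ▸ mul_mem hd (inv_mem hd')
        have h4 : u⁻¹ * (σ * u * σ⁻¹) = 1 := Subgroup.mem_bot.1
          ((Subgroup.disjoint_of_coprime_natCard hcop).eq_bot.le ⟨hP', hD'⟩)
        have h5 : σ * u * σ⁻¹ = u := by rwa [inv_mul_eq_one, eq_comm] at h4
        have h6 : σ * d * σ⁻¹ = d := by
          rw [h5] at e1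
          exact mul_left_cancel e1
        exact ⟨mul_inv_eq_iff_eq_mul.1 h5, mul_inv_eq_iff_eq_mul.1 h6⟩
      rw [← e]
      exact Subgroup.mul_mem_sup ⟨hu, Subgroup.mem_centralizer_iff.2 fun σ hσ => (hfix σ hσ).1⟩
        ⟨hd, Subgroup.mem_centralizer_iff.2 fun σ hσ => (hfix σ hσ).2⟩
    have hDn : D ⊓ C ≤ Subgroup.normalizer ((P ⊓ C : Subgroup X) : Set X) := by
      intro d hd
      rw [Subgroup.mem_normalizer_iff]
      intro x
      have h1 := Subgroup.mem_normalizer_iff.1 (hP.normD hd.1) x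
      have hdC : d ∈ C := (Subgroup.mem_inf.1 hd).2
      refine ⟨fun hx => ⟨h1.1 hx.1, C.mul_mem (C.mul_mem hdC hx.2) (C.inv_mem hdC)⟩, fun hx => ⟨h1.2 hx.1, ?_⟩⟩
      have h3 := C.mul_mem (C.mul_mem (C.inv_mem hdC) hx.2) hdC
      rwa [show d⁻¹ * (d * x * d⁻¹) * d = x by group] at h3
    have h2 : Nat.card (C ⊓ K : Subgroup X) ≤ Nat.card (P ⊓ C : Subgroup X) * Nat.card (D ⊓ C : Subgroup X) := by
      refine (Subgroup.card_le_of_le hsub).trans ?_
      rw [← SetLike.coe_sort_coe, Subgroup.coe_mul_of_right_le_normalizer_left _ _ hDn]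
      refine (Nat.card_le_card_of_surjective
        (fun z : (P ⊓ C : Subgroup X) × (D ⊓ C : Subgroup X) =>
          (⟨(z.1 : X) * z.2, Set.mul_mem_mul z.1.2 z.2.2⟩ :
            (((P ⊓ C : Subgroup X) : Set X) * ((D ⊓ C : Subgroup X) : Set X) : Set X))) ?_).trans
        (le_of_eq (Nat.card_prod _ _))
      rintro ⟨x, u, hu, d, hd, rfl⟩
      exact ⟨(⟨u, hu⟩, ⟨d, hd⟩), rfl⟩
    have hKc : Nat.card (C ⊓ K : Subgroup X) * C.relIndex K = Nat.card K := by
      rw [← Subgroup.inf_relIndex_right C K]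
      exact hcardrel _ _ inf_le_right
    have hPc : Nat.card (P ⊓ C : Subgroup X) * α = Nat.card P := by
      rw [hα, ← Subgroup.inf_relIndex_left P C]
      exact hcardrel _ _ inf_le_left
    have hDc : Nat.card (D ⊓ C : Subgroup X) * β = Nat.card D := by
      rw [hβ, ← Subgroup.inf_relIndex_left D C]
      exact hcardrel _ _ inf_le_left
    have hpos : 0 < Nat.card (P ⊓ C : Subgroup X) * Nat.card (D ⊓ C : Subgroup X) :=
      Nat.mul_pos Nat.card_pos Nat.card_pos
    refine Nat.le_of_mul_le_mul_left ?_ hpos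
    calc Nat.card (P ⊓ C : Subgroup X) * Nat.card (D ⊓ C : Subgroup X) * (α * β)
        = (Nat.card (P ⊓ C : Subgroup X) * α) * (Nat.card (D ⊓ C : Subgroup X) * β) := by ring
      _ = Nat.card P * Nat.card D := by rw [hPc, hDc]
      _ ≤ Nat.card K := h1
      _ = Nat.card (C ⊓ K : Subgroup X) * C.relIndex K := hKc.symm
      _ ≤ _ := Nat.mul_le_mul_right _ h2
  have hmk : m ≤ C.relIndex K := (Nat.le_of_dvd (Nat.pos_of_ne_zero (mul_ne_zero (hne0 _ _) (hne0 _ _))) hmαβ).trans hk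
  let f : K ⧸ C.subgroupOf K → G ⧸ C.subgroupOf G := Quotient.map' (Subgroup.inclusion hKG)
    (fun x y hxy => by
      rw [QuotientGroup.leftRel_apply] at hxy ⊢
      exact hxy)
  have hfinj : Function.Injective f := fun x y => Quotient.inductionOn₂' x y fun u v huv => by
    have h1 : (Subgroup.inclusion hKG u)⁻¹ * Subgroup.inclusion hKG v ∈ C.subgroupOf G := QuotientGroup.eq.1 huv
    exact QuotientGroup.eq.2 h1
  have hfs : Function.Surjective f := ((Nat.bijective_iff_injective_and_card f).2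
    ⟨hfinj, le_antisymm (Nat.card_le_card_of_injective f hfinj) hmk⟩).2
  have hGK : G ≤ K := by
    rw [← h.commutator_G, Subgroup.commutator_le]
    intro x hx σ hσ
    obtain ⟨y, hy⟩ := hfs (QuotientGroup.mk ⟨x, hx⟩)
    induction y using QuotientGroup.induction_on with
    | H k =>
      have hmem : (Subgroup.inclusion hKG k)⁻¹ * ⟨x, hx⟩ ∈ C.subgroupOf G := QuotientGroup.eq.1 hy
      have hc : (k : X)⁻¹ * x ∈ C := hmem
      set c := (k : X)⁻¹ * x with hcdef
      have hcσ : ⁅c, σ⁆ = 1 :=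
        commutatorElement_eq_one_iff_mul_comm.2 (Subgroup.mem_centralizer_iff.1 hc σ hσ).symm
      have hσK : ⁅(k : X), σ⁆ ∈ K := by
        obtain ⟨u, hu, d, hd, e⟩ := CfsgLib.mem_sup_of_le_normalizer hP.normD k.2
        rw [commutatorElement_def, show (k : X) * σ * (k : X)⁻¹ * σ⁻¹ = k * (σ * (k : X)⁻¹ * σ⁻¹) by group, ← e,
          show σ * (u * d)⁻¹ * σ⁻¹ = (σ * d⁻¹ * σ⁻¹) * (σ * u⁻¹ * σ⁻¹) by group]
        exact mul_mem (Subgroup.mul_mem_sup hu hd) (mul_mem (Subgroup.mem_sup_right (h.data.conj_mem hσ (inv_mem hd)))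
          (Subgroup.mem_sup_left ((Subgroup.mem_normalizer_iff.1 (hP.normR hσ) _).1 (inv_mem hu))))
      rw [show x = (k : X) * c by rw [hcdef, mul_inv_cancel_left],
        show ⁅(k : X) * c, σ⁆ = k * ⁅c, σ⁆ * (k : X)⁻¹ * ⁅(k : X), σ⁆ by simp only [commutatorElement_def]; group,
        hcσ, mul_one, mul_inv_cancel, one_mul]
      exact hσK
  rcases h.simple P hP.le (hGK.trans (sup_le Subgroup.le_normalizer hP.normD)) with hcen | hPG
  · have hPbot : P = ⊥ := by
      by_contra hne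
      exact h.pgroup_not_central hP.le hP.pgroup hne hcen
    rw [hK, hPbot, bot_sup_eq] at hGK
    exact h.G_ne_D (le_antisymm hGK h.D_le_G)
  · exact h.pgroup_ne hP.pgroup hPG

theorem exists_maximal_DR {P₀ : Subgroup X} (h₀ : IsDR G R D p P₀) :
    ∃ P, P₀ ≤ P ∧ Maximal (IsDR G R D p) P := by
  obtain ⟨P, ⟨hP, hle⟩, hmax⟩ := (Set.toFinite {P : Subgroup X | IsDR G R D p P ∧ P₀ ≤ P}).exists_maximal
    ⟨P₀, h₀, le_rfl⟩
  exact ⟨P, hle, hP, fun Q hQ hPQ => hmax ⟨hQ, hle.trans hPQ⟩ hPQ⟩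

/-- An element centralised by `R` that fixes `Z` modulo the centre and has `p`-power order fixes `Z`. -/
theorem fix_of_disp {x z : X} {i : ℕ} (hx : x ∈ G) (hi : x ^ p ^ i = 1)
    (hd : x * z * x⁻¹ * z⁻¹ ∈ Zc) : x * z = z * x := by
  set c := x * z * x⁻¹ * z⁻¹ with hc
  have hcz : ∀ y ∈ G, y * c = c * y := fun y hy => Subgroup.mem_centralizer_iff.1 ((h.Zc_eq.le hd).2) y hy
  have e : x * z * x⁻¹ = c * z := by rw [hc]; group
  have key : ∀ k : ℕ, x ^ k * z * (x ^ k)⁻¹ = c ^ k * z := by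
    intro k
    induction k with
    | zero => simp
    | succ k ih =>
      calc x ^ (k + 1) * z * (x ^ (k + 1))⁻¹ = x ^ k * (x * z * x⁻¹) * (x ^ k)⁻¹ := by rw [pow_succ]; group
        _ = (x ^ k * c) * z * (x ^ k)⁻¹ := by rw [e]; group
        _ = c * (x ^ k * z * (x ^ k)⁻¹) := by rw [hcz _ (pow_mem hx k)]; group
        _ = c ^ (k + 1) * z := by rw [ih, pow_succ']; group
  have h1 : c ^ p ^ i = 1 := by
    have := key (p ^ i)
    rw [hi, one_mul, inv_one, mul_one] at this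
    exact mul_eq_right.1 this.symm
  have h2 : c ^ 2 = 1 := by rw [pow_two]; exact h.data.sq_one _ (h.data.Zc_le hd)
  have hc1 : c = 1 := eq_one_of_pow_coprime (by simpa using h.cop_two_pow i 1) h1 h2
  rw [hc1, one_mul] at e
  exact mul_inv_eq_iff_eq_mul.1 e

/-- A maximal non-trivial subgroup normalised by `D` and `R` has an element moving `Z` modulo the centre. -/
theorem exists_moving {P : Subgroup X} (hP : Maximal (IsDR G R D p) P) (hne : P ≠ ⊥) :
    ∃ y ∈ G, y ∈ Subgroup.normalizer (P : Set X) ∧ y ∈ Subgroup.normalizer (D : Set X) ∧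
      (∀ σ ∈ R, σ * y = y * σ) ∧ (∃ i : ℕ, y ^ p ^ i = 1) ∧ ∃ z ∈ Z, y * z * y⁻¹ * z⁻¹ ∉ Zc := by
  by_contra hcon
  simp only [not_exists, not_and, not_not] at hcon
  haveI : Fact p.Prime := ⟨h.pprime⟩
  obtain ⟨hPd, hPmax⟩ := hP
  set L := G ⊓ Subgroup.normalizer (P : Set X) with hL
  have hLne : L ≠ G := h.DR_normalizer_ne hPd hne
  have hRL : R ≤ Subgroup.normalizer (L : Set X) := inf_normalizer_normalized h.normG hPd.normR
  have hPL : P ≤ L := le_inf hPd.le Subgroup.le_normalizer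
  have hDL : D ≤ L := le_inf h.D_le_G hPd.normD
  obtain ⟨Q, hQL, hQp, hLQ, hRQ, hK, hdec, -, hpel⟩ := h.loc_D inf_le_left hLne hRL hDL
  have hQP : Q ≤ P := by
    have hd : IsDR G R D p (Q ⊔ P) := ⟨sup_le (hQL.trans inf_le_left) hPd.le,
      hQp.to_sup_of_normal_right' hPd.pgroup (hQL.trans inf_le_right),
      le_trans (le_inf hRQ hPd.normR) (Subgroup.normalizer_inf_normalizer_le_normalizer_sup Q P),
      le_trans (le_inf (hDL.trans hLQ) hPd.normD) (Subgroup.normalizer_inf_normalizer_le_normalizer_sup Q P)⟩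
    exact le_sup_left.trans (hPmax hd le_sup_right)
  obtain ⟨P1, hPP1, hRP1⟩ := CfsgLib.coprime_le_invariant_sylow hRL (h.cop_le inf_le_left) (Or.inl h.R_solvable)
    hPL hPd.pgroup hPd.normR
  set P' := (P1 : Subgroup L).map L.subtype with hP'
  have hP'L : P' ≤ L := Subgroup.map_subtype_le _
  have hP'p : IsPGroup p P' := P1.2.map _
  set A := P' ⊓ Subgroup.normalizer (D : Set X) with hA
  have hRA : R ≤ Subgroup.normalizer (A : Set X) := inf_normalizer_normalized hRP1 h.data.norm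
  have hAcen : ∀ y ∈ A, ∀ d ∈ D, d * y = y * d := by
    intro y hy
    obtain ⟨u, hu, c, ⟨hcA, hcR⟩, rfl⟩ := CfsgLib.coprime_decomp hRA
      (h.cop_le ((inf_le_left.trans hP'L).trans inf_le_left)) (Or.inl h.R_solvable) hy
    have huA : u ∈ A := CfsgLib.commutator_le_of_le_normalizer hRA hu
    obtain ⟨i, hi⟩ := hP'p ⟨u, huA.1⟩
    have huQ : u ∈ Q := hpel u (Subgroup.commutator_mono (inf_le_left.trans hP'L) le_rfl hu) i
      (congrArg Subtype.val hi)
    obtain ⟨j, hj⟩ := hP'p ⟨c, hcA.1⟩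
    have hj' : c ^ p ^ j = 1 := congrArg Subtype.val hj
    have hcfix : ∀ σ ∈ R, σ * c = c * σ := fun σ hσ => Subgroup.mem_centralizer_iff.1 hcR σ hσ
    have hcZ : ∀ z ∈ Z, c * z = z * c := fun z hz => h.fix_of_disp (hP'L hcA.1).1 hj'
      (hcon c (hP'L hcA.1).1 (hP'L hcA.1).2 hcA.2 hcfix ⟨j, hj'⟩ z hz)
    have hord : (orderOf c).Coprime r := Nat.Coprime.coprime_dvd_left (orderOf_dvd_of_pow_eq_one hj')
      (((Nat.coprime_primes h.pprime h.data.rprime).2 h.p_r).pow_left j)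
    have hcD := h.data.centralizes_of_fix hcA.2 hcfix hcZ hord
    intro d hd
    have hud : d * u = u * d := by
      have h1 : d * u * d⁻¹ * u⁻¹ ∈ Q := mul_mem ((Subgroup.mem_normalizer_iff.1 (hLQ (hDL hd)) u).1 huQ) (inv_mem huQ)
      have h2 : d * u * d⁻¹ * u⁻¹ ∈ D := by
        rw [show d * u * d⁻¹ * u⁻¹ = d * (u * d⁻¹ * u⁻¹) by group]
        exact mul_mem hd ((Subgroup.mem_normalizer_iff.1 huA.2 _).1 (inv_mem hd))
      obtain ⟨k, hk⟩ := hQp ⟨_, h1⟩
      obtain ⟨l, hl⟩ := h.data.two ⟨_, h2⟩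
      have h3 := eq_one_of_pow_coprime (h.cop_two_pow k l) (congrArg Subtype.val hk) (congrArg Subtype.val hl)
      exact mul_inv_eq_iff_eq_mul.1 (mul_inv_eq_one.1 h3)
    calc d * (u * c) = (d * u) * c := by group
      _ = u * (d * c) := by rw [hud]; group
      _ = u * c * d := by rw [hcD d hd]; group
  have hP'd : IsDR G R D p P' := by
    refine ⟨hP'L.trans inf_le_left, hP'p, hRP1, ?_⟩
    have key : ∀ d ∈ D, ∀ x ∈ P', d * x * d⁻¹ ∈ P' := by
      intro d hd x hx
      obtain ⟨q, hq, hqx⟩ := hdec x (hP'L hx)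
      have hy : q⁻¹ * x ∈ A := ⟨P'.mul_mem (P'.inv_mem (hPP1 (hQP hq))) hx, hqx⟩
      have e : d * x * d⁻¹ = (d * q * d⁻¹) * (q⁻¹ * x) := by
        calc d * x * d⁻¹ = (d * q * d⁻¹) * (d * (q⁻¹ * x) * d⁻¹) := by group
          _ = _ := by rw [hAcen _ hy d hd, mul_inv_cancel_right]
      rw [e]
      exact mul_mem (hPP1 (hQP ((Subgroup.mem_normalizer_iff.1 (hLQ (hDL hd)) q).1 hq))) hy.1
    intro d hd
    rw [Subgroup.mem_normalizer_iff]
    refine fun x => ⟨key d hd x, fun hx => ?_⟩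
    have := key d⁻¹ (inv_mem hd) _ hx
    simpa [mul_assoc] using this
  have hP'P : P' ≤ P := hPmax hP'd hPP1
  refine h.not_sylow hPd fun U hU hUp => ?_
  obtain ⟨T, hT⟩ := (hPd.pgroup.comap_subtype (K := G)).exists_le_sylow
  set T' := (T : Subgroup G).map G.subtype with hT'
  have hPT : P ≤ T' := fun x hx => ⟨⟨x, hPd.le hx⟩, hT hx, rfl⟩
  have hUcard : Nat.card U ∣ Nat.card T' := by
    rw [hT', Subgroup.card_map_of_injective G.subtype_injective]
    obtain ⟨T₁, hT₁⟩ := (hUp.comap_subtype (K := G)).exists_le_sylow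
    rw [Sylow.card_eq_multiplicity, ← T₁.card_eq_multiplicity,
      ← Nat.card_congr (Subgroup.subgroupOfEquivOfLe hU).toEquiv]
    exact Subgroup.card_dvd_of_le hT₁
  suffices hTP : T' ≤ P by exact hUcard.trans (Subgroup.card_dvd_of_le hTP)
  by_contra hTP
  have hT'p : IsPGroup p T' := T.2.map _
  haveI := hT'p.isNilpotent
  have hlt : P.subgroupOf T' < ⊤ := lt_top_iff_ne_top.2 fun e => hTP (Subgroup.subgroupOf_eq_top.1 e)
  obtain ⟨x, hxn, hxP⟩ := SetLike.exists_of_lt (Group.normalizerCondition_of_isNilpotent (P.subgroupOf T') hlt)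
  have hxP' : (x : X) ∉ P := fun hx => hxP (Subgroup.mem_subgroupOf.2 hx)
  have hxN : (x : X) ∈ Subgroup.normalizer (P : Set X) := by
    rw [Subgroup.mem_normalizer_iff]
    intro y
    constructor
    · intro hy
      have := (Subgroup.mem_normalizer_iff.1 hxn ⟨y, hPT hy⟩).1 hy
      exact this
    · intro hy
      have hyT : y ∈ T' := by
        have h2 := mul_mem (mul_mem (inv_mem x.2) (hPT hy)) x.2
        rwa [show (x : X)⁻¹ * ((x : X) * y * (x : X)⁻¹) * x = y by group] at h2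
      exact (Subgroup.mem_normalizer_iff.1 hxn ⟨y, hyT⟩).2 hy
  have hxL : (x : X) ∈ L := ⟨(Subgroup.map_subtype_le _) x.2, hxN⟩
  set V := Subgroup.zpowers (x : X) ⊔ P with hV
  have hVL : V ≤ L := sup_le (Subgroup.zpowers_le.2 hxL) hPL
  have hVp : IsPGroup p V := (hT'p.to_le (Subgroup.zpowers_le.2 x.2)).to_sup_of_normal_right' hPd.pgroup
    (Subgroup.zpowers_le.2 hxN)
  obtain ⟨P2, hP2⟩ := (hVp.comap_subtype (K := L)).exists_le_sylow
  have hle : Nat.card V ≤ Nat.card P := by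
    refine le_trans (le_of_eq (Nat.card_congr (Subgroup.subgroupOfEquivOfLe hVL).toEquiv).symm) ?_
    refine (Subgroup.card_le_of_le hP2).trans ?_
    rw [Sylow.card_eq_multiplicity, ← P1.card_eq_multiplicity,
      ← Subgroup.card_map_of_injective L.subtype_injective]
    exact Subgroup.card_le_of_le hP'P
  exact hxP' ((Subgroup.eq_of_le_of_card_ge le_sup_right hle).ge (Subgroup.mem_sup_left (Subgroup.mem_zpowers _)))

end Setup

end CfsgLib.FlavellA
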