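import Cfsg.Agent.Lib.FlavellA.Rep
import Cfsg.Agent.Lib.CoprimeGen
import Cfsg.Agent.Lib.Basic
import Cfsg.Agent.Lib.Comp.PComp
import Cfsg.Agent.Lib.CoprimeAbelian
import Cfsg.Prelude.Def_Amalgam

/-!
A minimal counterexample to LEMMA A: first consequences.

Blueprint: `blueprint/FlavellA.md`, section 1.
-/

set_option autoImplicit false
set_option linter.unusedSectionVars false
set_option linter.style.haveILetI false

namespace CfsgLib.FlavellA

open scoped commutatorElement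
open Cfsg (pCore pCoreOf)

universe u v w

variable {X : Type u} [Group X]

/-- `K` centralises, modulo `F₀`, a subgroup `F` that `R` centralises modulo `F₀`, when `K = [K, R]`. -/
theorem gen_centralizes_mod {K R F F₀ : Subgroup X} (hKR : ⁅K, R⁆ = K) (hKF : K ≤ Subgroup.normalizer (F : Set X))
    (hKF₀ : K ≤ Subgroup.normalizer (F₀ : Set X)) (hRF₀ : R ≤ Subgroup.normalizer (F₀ : Set X))
    (hF₀ : F ≤ Subgroup.normalizer (F₀ : Set X)) (hR : ∀ σ ∈ R, ∀ x ∈ F, σ * x * σ⁻¹ * x⁻¹ ∈ F₀) :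
    ∀ k ∈ K, ∀ x ∈ F, k * x * k⁻¹ * x⁻¹ ∈ F₀ := by
  set H : Subgroup X := (K ⊔ R ⊔ F) ⊓ Subgroup.normalizer (F₀ : Set X) with hH
  have hsub : K ⊔ R ⊔ F ≤ Subgroup.normalizer (F₀ : Set X) := sup_le (sup_le hKF₀ hRF₀) hF₀
  have hmem : ∀ {y : X}, y ∈ K ⊔ R ⊔ F → y ∈ H := fun hy => ⟨hy, hsub hy⟩
  haveI : (F₀.subgroupOf H).Normal := ⟨fun c hc g => by
    rw [Subgroup.mem_subgroupOf] at hc ⊢
    exact (Subgroup.mem_normalizer_iff.1 g.2.2 c).1 hc⟩
  set π := QuotientGroup.mk' (F₀.subgroupOf H)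
  have hπ : ∀ a b : H, π a = π b ↔ (a : X) * (b : X)⁻¹ ∈ F₀ := fun a b => by
    rw [eq_comm, ← mul_inv_eq_one, ← map_inv, ← map_mul]
    refine (QuotientGroup.eq_one_iff _).trans ?_
    rw [Subgroup.mem_subgroupOf, ← inv_mem_iff]
    simp
  intro k hk x hx
  have hxH : x ∈ H := hmem (Subgroup.mem_sup_right hx)
  let C : Subgroup X :=
    { carrier := {y | ∃ hy : y ∈ H, ∀ v : H, (v : X) ∈ F → π ⟨y, hy⟩ * π v = π v * π ⟨y, hy⟩}
      one_mem' := ⟨one_mem H, fun v _ => by rw [show (⟨1, one_mem H⟩ : H) = 1 from rfl, map_one, one_mul, mul_one]⟩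
      mul_mem' := fun {a b} ⟨ha, ha'⟩ ⟨hb, hb'⟩ => ⟨H.mul_mem ha hb, fun v hv => by
        rw [show (⟨a * b, H.mul_mem ha hb⟩ : H) = ⟨a, ha⟩ * ⟨b, hb⟩ from rfl, map_mul, mul_assoc, hb' v hv,
          ← mul_assoc, ha' v hv, mul_assoc]⟩
      inv_mem' := fun {a} ⟨ha, ha'⟩ => ⟨H.inv_mem ha, fun v hv => by
        rw [show (⟨a⁻¹, H.inv_mem ha⟩ : H) = (⟨a, ha⟩ : H)⁻¹ from rfl, map_inv]
        exact ((show Commute _ _ from ha' v hv).inv_left).eq⟩ }
  have hle : ⁅K, R⁆ ≤ C := by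
    rw [Subgroup.commutator_le]
    intro y hy σ hσ
    have hyH : y ∈ H := hmem (Subgroup.mem_sup_left (Subgroup.mem_sup_left hy))
    have hσH : σ ∈ H := hmem (Subgroup.mem_sup_left (Subgroup.mem_sup_right hσ))
    have hcH : ⁅y, σ⁆ ∈ H := by
      rw [commutatorElement_def]
      exact H.mul_mem (H.mul_mem (H.mul_mem hyH hσH) (H.inv_mem hyH)) (H.inv_mem hσH)
    refine ⟨hcH, fun v hv => ?_⟩
    set a := π ⟨y, hyH⟩
    set b := π ⟨σ, hσH⟩
    have hb : ∀ w : H, (w : X) ∈ F → Commute b (π w) := fun w hw => by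
      have h1 := (hπ (⟨σ, hσH⟩ * w) (w * ⟨σ, hσH⟩)).2 (by
        show σ * w * (w * σ)⁻¹ ∈ F₀
        rw [mul_inv_rev, ← mul_assoc]
        exact hR σ hσ w hw)
      rwa [map_mul, map_mul] at h1
    have hv' : ((⟨y, hyH⟩⁻¹ * v * ⟨y, hyH⟩ : H) : X) ∈ F := by
      show y⁻¹ * (v : X) * y ∈ F
      exact (Subgroup.mem_normalizer_iff''.1 (hKF hy) v).1 hv
    have h2 : Commute b (a⁻¹ * π v * a) := by
      have := hb _ hv'
      rwa [map_mul, map_mul, map_inv] at this
    have e : π ⟨⁅y, σ⁆, hcH⟩ = a * b * a⁻¹ * b⁻¹ := by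
      rw [show (⟨⁅y, σ⁆, hcH⟩ : H) = ⟨y, hyH⟩ * ⟨σ, hσH⟩ * ⟨y, hyH⟩⁻¹ * ⟨σ, hσH⟩⁻¹ from
        Subtype.ext (commutatorElement_def y σ), map_mul, map_mul, map_mul, map_inv, map_inv]
    rw [e]
    have h3 : Commute (a * b * a⁻¹) (π v) := by
      have h4 : a * b * a⁻¹ * π v = π v * (a * b * a⁻¹) := by
        calc a * b * a⁻¹ * π v = a * (b * (a⁻¹ * π v * a)) * a⁻¹ := by group
          _ = a * ((a⁻¹ * π v * a) * b) * a⁻¹ := by rw [h2.eq]
          _ = π v * (a * b * a⁻¹) := by group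
      exact h4
    exact (h3.mul_left ((hb v hv).inv_left)).eq
  obtain ⟨hkH, hk'⟩ := hle (hKR.ge hk)
  have h1 := hk' ⟨x, hxH⟩ hx
  rw [← map_mul, ← map_mul, hπ] at h1
  show k * x * k⁻¹ * x⁻¹ ∈ F₀
  have h2 : k * x * (x * k)⁻¹ ∈ F₀ := h1
  rwa [mul_inv_rev, ← mul_assoc] at h2

/-- `K` centralises a subgroup that it normalises and that `R` centralises, when `K = [K, R]`. -/
theorem gen_centralizes {K R F : Subgroup X} (hKR : ⁅K, R⁆ = K) (hKF : K ≤ Subgroup.normalizer (F : Set X))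
    (hR : F ≤ Subgroup.centralizer (R : Set X)) : K ≤ Subgroup.centralizer (F : Set X) := by
  have hbot : ∀ Y : Subgroup X, Y ≤ Subgroup.normalizer ((⊥ : Subgroup X) : Set X) := fun Y y _ =>
    Subgroup.mem_normalizer_iff.2 fun z => by simp
  have h := gen_centralizes_mod hKR hKF (hbot K) (hbot R) (hbot F) fun σ hσ x hx => by
    rw [Subgroup.mem_bot, mul_inv_eq_one, mul_inv_eq_iff_eq_mul]
    exact Subgroup.mem_centralizer_iff.1 (hR hx) σ hσ
  intro k hk
  rw [Subgroup.mem_centralizer_iff]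
  intro x hx
  have := h k hk x hx
  rw [Subgroup.mem_bot, mul_inv_eq_one, mul_inv_eq_iff_eq_mul] at this
  exact this.symm

theorem isPGroup_bot_of_eq {l : ℕ} {P : Subgroup X} (h : P = ⊥) : IsPGroup l P := h ▸ IsPGroup.of_bot

/-- When every invariant Sylow subgroup for the primes other than `l` is centralised, `[M, R]` is an `l`-group. -/
theorem commutator_pgroup [Finite X] {M R : Subgroup X} (hRM : R ≤ Subgroup.normalizer (M : Set X))
    (hcop : (Nat.card R).Coprime (Nat.card M)) (hsolv : Group.IsSolvable R) {l : ℕ} (hl : l.Prime)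
    (hc : ∀ q : ℕ, q.Prime → q ≠ l → ∀ U : Subgroup X, U ≤ M → IsPGroup q U →
      R ≤ Subgroup.normalizer (U : Set X) → U ≤ Subgroup.centralizer (R : Set X)) :
    IsPGroup l ↥⁅M, R⁆ := by
  classical
  haveI := Fact.mk hl
  set C := M ⊓ Subgroup.centralizer (R : Set X) with hC
  have hbot : ∀ q : ℕ, R ≤ Subgroup.normalizer ((⊥ : Subgroup X) : Set X) := fun q σ _ =>
    Subgroup.mem_normalizer_iff.2 fun z => by simp
  obtain ⟨P1, -, hRP⟩ := CfsgLib.coprime_le_invariant_sylow hRM hcop (Or.inl hsolv) (p := l) bot_le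
    (IsPGroup.of_bot (G := X)) (hbot l)
  set P := (P1 : Subgroup M).map M.subtype with hP
  have hPM : P ≤ M := Subgroup.map_subtype_le _
  have hPp : IsPGroup l P := P1.2.map _
  have hcard : ∀ q : ℕ, q.Prime → q ≠ l → q ^ (Nat.card M).factorization q ∣ Nat.card C := by
    intro q hq hql
    haveI := Fact.mk hq
    obtain ⟨U, -, hRU⟩ := CfsgLib.coprime_le_invariant_sylow hRM hcop (Or.inl hsolv) (p := q) bot_le
      (IsPGroup.of_bot (G := X)) (hbot q)
    have hUC := hc q hq hql _ (Subgroup.map_subtype_le _) (U.2.map _) hRU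
    have := Subgroup.card_dvd_of_le (le_inf (Subgroup.map_subtype_le _) hUC : _ ≤ C)
    rwa [Subgroup.card_map_of_injective M.subtype_injective, Sylow.card_eq_multiplicity] at this
  -- `|P| |C| = |M| |P ∩ C|` at least
  have hge : Nat.card M * Nat.card (P ⊓ C : Subgroup X) ∣ Nat.card P * Nat.card C := by
    have hPC : Nat.card (P ⊓ C : Subgroup X) ∣ Nat.card C := Subgroup.card_dvd_of_le inf_le_right
    obtain ⟨i, hi⟩ := IsPGroup.iff_card.1 (hPp.to_le (inf_le_left : P ⊓ C ≤ P))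
    rw [← Nat.factorization_prime_le_iff_dvd (Nat.mul_pos Nat.card_pos Nat.card_pos).ne'
      (Nat.mul_pos Nat.card_pos Nat.card_pos).ne']
    intro q hq
    rw [Nat.factorization_mul Nat.card_pos.ne' Nat.card_pos.ne', Nat.factorization_mul Nat.card_pos.ne' Nat.card_pos.ne',
      Finsupp.add_apply, Finsupp.add_apply]
    by_cases hql : q = l
    · subst hql
      have h1 : (Nat.card P).factorization q = (Nat.card M).factorization q := by
        rw [hP, Subgroup.card_map_of_injective M.subtype_injective, Sylow.card_eq_multiplicity,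
          Nat.Prime.factorization_pow hq, Finsupp.single_eq_same]
      have h2 := (Nat.factorization_le_iff_dvd Nat.card_pos.ne' Nat.card_pos.ne').2 hPC q
      omega
    · have h1 := (Nat.Prime.pow_dvd_iff_le_factorization hq Nat.card_pos.ne').1 (hcard q hq hql)
      have h2 : (Nat.card (P ⊓ C : Subgroup X)).factorization q = 0 := by
        rw [hi, Nat.Prime.factorization_pow hl, Finsupp.single_eq_of_ne hql]
      omega
  have hle : ⁅M, R⁆ ≤ P := by
    have hrel : (P ⊓ C).relIndex P * Nat.card (P ⊓ C : Subgroup X) = Nat.card P := by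
      rw [mul_comm]
      have := Subgroup.relIndex_mul_relIndex ⊥ (P ⊓ C) P bot_le inf_le_left
      rwa [Subgroup.relIndex_bot_left, Subgroup.relIndex_bot_left] at this
    have hrelM : C.relIndex M * Nat.card C = Nat.card M := by
      rw [mul_comm]
      have := Subgroup.relIndex_mul_relIndex ⊥ C M bot_le inf_le_left
      rwa [Subgroup.relIndex_bot_left, Subgroup.relIndex_bot_left] at this
    have hidx : C.relIndex M ≤ C.relIndex P := by
      rw [← Subgroup.inf_relIndex_left P C]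
      have h1 := Nat.le_of_dvd (Nat.mul_pos Nat.card_pos Nat.card_pos) hge
      have h2 : C.relIndex M * (Nat.card C * Nat.card (P ⊓ C : Subgroup X)) ≤
          (P ⊓ C).relIndex P * (Nat.card C * Nat.card (P ⊓ C : Subgroup X)) := by
        calc C.relIndex M * (Nat.card C * Nat.card (P ⊓ C : Subgroup X))
            = Nat.card M * Nat.card (P ⊓ C : Subgroup X) := by rw [← mul_assoc, hrelM]
          _ ≤ Nat.card P * Nat.card C := h1
          _ = _ := by rw [← hrel]; ring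
      exact Nat.le_of_mul_le_mul_right h2 (Nat.mul_pos Nat.card_pos Nat.card_pos)
    let f : P ⧸ C.subgroupOf P → M ⧸ C.subgroupOf M := Quotient.map' (Subgroup.inclusion hPM)
      (fun x y hxy => by
        rw [QuotientGroup.leftRel_apply] at hxy ⊢
        exact hxy)
    have hinj : Function.Injective f := fun x y => Quotient.inductionOn₂' x y fun a b hab => by
      have h1 : (Subgroup.inclusion hPM a)⁻¹ * Subgroup.inclusion hPM b ∈ C.subgroupOf M := QuotientGroup.eq.1 hab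
      exact QuotientGroup.eq.2 h1
    have hsurj : Function.Surjective f := ((Nat.bijective_iff_injective_and_card f).2
      ⟨hinj, le_antisymm (Nat.card_le_card_of_injective f hinj) hidx⟩).2
    rw [Subgroup.commutator_le]
    intro x hx σ hσ
    obtain ⟨y, hy⟩ := hsurj (QuotientGroup.mk ⟨x, hx⟩)
    induction y using QuotientGroup.induction_on with
    | H a =>
      have h1' : (Subgroup.inclusion hPM a)⁻¹ * ⟨x, hx⟩ ∈ C.subgroupOf M := QuotientGroup.eq.1 hy
      have h1 : (a : X)⁻¹ * x ∈ C := h1'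
      have hx' : x = (a : X) * ((a : X)⁻¹ * x) := by group
      set c := (a : X)⁻¹ * x
      rw [hx', show ⁅(a : X) * c, σ⁆ = (a : X) * (c * σ * c⁻¹) * (a : X)⁻¹ * σ⁻¹ by
        simp only [commutatorElement_def]; group, ← Subgroup.mem_centralizer_iff.1 h1.2 σ hσ, mul_inv_cancel_right,
        show (a : X) * σ * (a : X)⁻¹ * σ⁻¹ = a * (σ * (a : X)⁻¹ * σ⁻¹) by group]
      exact mul_mem a.2 ((Subgroup.mem_normalizer_iff.1 (hRP hσ) _).1 (inv_mem a.2))
  exact hPp.to_le hle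

theorem pTwo_mem [Finite X] {p : ℕ} [Fact p.Prime] (hp2 : p ≠ 2) {K Q : Subgroup X}
    (hj : ∀ x ∈ K, ∃ j, x ^ 2 ^ j ∈ Q) {x : X} (hx : x ∈ K) {i : ℕ} (hi : x ^ p ^ i = 1) : x ∈ Q := by
  obtain ⟨j, hj⟩ := hj x hx
  have hcop : (2 ^ j).Coprime (orderOf x) := Nat.Coprime.coprime_dvd_right (orderOf_dvd_of_pow_eq_one hi)
    ((((Nat.coprime_primes Nat.prime_two (Fact.out : p.Prime)).2 (Ne.symm hp2))).pow j i)
  obtain ⟨m, hm⟩ := exists_pow_eq_self_of_coprime hcop
  rw [← hm]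
  exact Q.pow_mem hj m

/-- The minimal counterexample. -/
structure Counter {K : Type v} [Field K] {W : Type w} [AddCommGroup W] [Module K W]
    (G R : Subgroup X) (ρ : X →* Module.End K W) (p r : ℕ) : Prop where
  rprime : r.Prime
  cardR : Nat.card R = r
  normG : R ≤ Subgroup.normalizer (G : Set X)
  cop : (Nat.card G).Coprime r
  inj : Function.Injective ρ
  fixfree : ∀ v : W, (∀ σ ∈ R, ρ σ v = v) → v = 0
  irr : ∀ T : Submodule K W, (∀ x ∈ G, ∀ v ∈ T, ρ x v ∈ T) → (∀ x ∈ R, ∀ v ∈ T, ρ x v ∈ T) → T = ⊥ ∨ T = ⊤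
  ih : ∀ M ≤ G, M ≠ G → R ≤ Subgroup.normalizer (M : Set X) → PTwo p ⁅M, R⁆
  gen : ⁅G, R⁆ = G
  bad : ¬ PTwo p G

namespace Counter

variable [Finite X] {K : Type v} [Field K] [IsAlgClosed K] {W : Type w} [AddCommGroup W] [Module K W]
  [FiniteDimensional K W] {G R : Subgroup X} {ρ : X →* Module.End K W} {p r : ℕ} [hp : Fact p.Prime] [CharP K p]
  (h : Counter G R ρ p r)
include h

theorem nontrivialW : Nontrivial W := by
  by_contra hW
  rw [not_nontrivial_iff_subsingleton] at hW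
  have hG : G = ⊥ := (Subgroup.eq_bot_iff_forall _).2 fun x _ => h.inj (LinearMap.ext fun v => Subsingleton.elim _ _)
  exact h.bad (pTwo_of_pgroup (hG ▸ IsPGroup.of_bot))

theorem p_ne_r : p ≠ r := by
  haveI := h.nontrivialW
  exact char_ne ρ h.cardR h.fixfree

theorem r_cast : (r : K) ≠ 0 := natCast_ne_zero h.rprime h.p_ne_r

theorem R_solvable : Group.IsSolvable R := by
  haveI : Fact r.Prime := ⟨h.rprime⟩
  haveI : IsCyclic R := isCyclic_of_prime_card h.cardR
  letI : CommGroup R := IsCyclic.commGroup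
  exact Group.isSolvable_of_comm fun a b => mul_comm a b

theorem cop_le {M : Subgroup X} (hM : M ≤ G) : (Nat.card R).Coprime (Nat.card M) := by
  rw [h.cardR]
  exact (Nat.Coprime.coprime_dvd_left (Subgroup.card_dvd_of_le hM) h.cop).symm

theorem prime_ne_r {q : ℕ} (hq : q.Prime) {U : Subgroup X} (hU : U ≤ G) (hUq : IsPGroup q U) (hne : U ≠ ⊥) :
    q ≠ r := by
  rintro rfl
  haveI := Fact.mk hq
  obtain ⟨i, hi⟩ := IsPGroup.iff_card.1 hUq
  have hi0 : i ≠ 0 := fun e => hne (Subgroup.card_eq_one.1 (by rw [hi, e, pow_zero]))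
  exact h.rprime.coprime_iff_not_dvd.1 h.cop.symm ((dvd_pow_self q hi0).trans (hi ▸ Subgroup.card_dvd_of_le hU))

/-- An invariant `q`-subgroup with `q` different from the characteristic is centralised, with one exception. -/
theorem cent {q : ℕ} (hq : q.Prime) (hqp : q ≠ p) {U : Subgroup X} (hU : U ≤ G) (hUq : IsPGroup q U)
    (hexc : q = 2 → (∃ m, r = 2 ^ m + 1) → IsMulCommutative U) (hRU : R ≤ Subgroup.normalizer (U : Set X)) :
    U ≤ Subgroup.centralizer (R : Set X) := by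
  by_cases hne : U = ⊥
  · rw [hne]; exact bot_le
  haveI := Fact.mk hq
  haveI := Fact.mk h.rprime
  exact centralized_of_q (h.prime_ne_r hq hU hUq hne) (natCast_ne_zero hq (Ne.symm hqp)) h.r_cast ρ h.inj h.cardR
    h.fixfree hUq hexc hRU

/-- No non-trivial normal invariant `p`-subgroup. -/
theorem no_p_normal {P : Subgroup X} (hPp : IsPGroup p P) (hGP : G ≤ Subgroup.normalizer (P : Set X))
    (hRP : R ≤ Subgroup.normalizer (P : Set X)) : P = ⊥ := by
  haveI := h.nontrivialW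
  obtain ⟨v, -, hv0, hv⟩ := exists_fixed_vector ρ hPp (S := (⊤ : Submodule K W))
    (fun _ _ _ _ => Submodule.mem_top) top_ne_bot
  let T : Submodule K W := ⨅ x : P, LinearMap.eqLocus (ρ x) LinearMap.id
  have hT : ∀ {w : W}, w ∈ T ↔ ∀ x ∈ P, ρ x w = w := fun {w} => by
    simp [T, Submodule.mem_iInf, LinearMap.mem_eqLocus]
  have hinv : ∀ g : X, g ∈ Subgroup.normalizer (P : Set X) → ∀ w ∈ T, ρ g w ∈ T := by
    intro g hg w hw
    rw [hT] at hw ⊢
    intro x hx
    have hx' : g⁻¹ * x * g ∈ P := (Subgroup.mem_normalizer_iff''.1 hg x).1 hx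
    rw [← Module.End.mul_apply, ← map_mul, show x * g = g * (g⁻¹ * x * g) by group, map_mul, Module.End.mul_apply,
      hw _ hx']
  rcases h.irr T (fun x hx => hinv x (hGP hx)) (fun x hx => hinv x (hRP hx)) with e | e
  · exact absurd ((Submodule.mem_bot K).1 (e.le (hT.2 hv))) hv0
  · refine (Subgroup.eq_bot_iff_forall _).2 fun x hx => h.inj (LinearMap.ext fun w => ?_)
    rw [map_one]
    exact hT.1 (e.ge Submodule.mem_top) x hx

/-- The characteristic is odd, `r` is a Fermat prime and the order is even. -/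
theorem fermat : p ≠ 2 ∧ (∃ n, 0 < n ∧ r = 2 ^ n + 1) := by
  by_contra hcon
  refine h.bad ?_
  rw [← h.gen]
  refine pTwo_of_pgroup (commutator_pgroup h.normG (h.cop_le le_rfl) h.R_solvable hp.out fun q hq hqp U hU hUq hRU => ?_)
  by_cases hne : U = ⊥
  · rw [hne]; exact bot_le
  refine h.cent hq hqp hU hUq (fun hq2 ⟨m, hm⟩ => ?_) hRU
  refine absurd ⟨fun e => hqp (hq2.trans e.symm), m, Nat.pos_of_ne_zero fun m0 => ?_, hm⟩ hcon
  rw [m0] at hm
  exact h.prime_ne_r hq hU hUq hne (hq2.trans hm.symm)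

theorem two_cast : ((2 : ℕ) : K) ≠ 0 := natCast_ne_zero Nat.prime_two h.fermat.1

/-- A proper invariant normal subgroup: `[N, R]` is a 2-group. -/
theorem two_of_normal {N : Subgroup X} (hN : N ≤ G) (hne : N ≠ G) (hGN : G ≤ Subgroup.normalizer (N : Set X))
    (hRN : R ≤ Subgroup.normalizer (N : Set X)) : IsPGroup 2 ↥⁅N, R⁆ := by
  have hp2 := h.fermat.1
  obtain ⟨Q, hQK, hQp, hKQ, hj⟩ := h.ih N hN hne hRN
  set K0 := ⁅N, R⁆ with hK0
  have hK0N : K0 ≤ N := CfsgLib.commutator_le_of_le_normalizer hRN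
  have hNQ : N ≤ Subgroup.normalizer (Q : Set X) := fun y hy => CfsgLib.Comp.mem_normalizer_of_maps fun x hx => by
    obtain ⟨i, hi⟩ := hQp ⟨x, hx⟩
    exact pTwo_mem hp2 hj ((Subgroup.mem_normalizer_iff.1 (CfsgLib.left_le_normalizer_commutator R N hy) x).1 (hQK hx))
      (i := i) (by rw [conj_pow, show x ^ p ^ i = 1 from congrArg Subtype.val hi, mul_one, mul_inv_cancel])
  have hQN : Q ≤ pCoreOf p N := by
    haveI : (Q.subgroupOf N).Normal := (Subgroup.normal_subgroupOf_iff_le_normalizer (hQK.trans hK0N)).2 hNQ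
    have h1 : Q.subgroupOf N ≤ pCore p N :=
      CfsgLib.le_pCore (hQp.of_equiv (Subgroup.subgroupOfEquivOfLe (hQK.trans hK0N)).symm)
    exact fun x hx => ⟨⟨x, hK0N (hQK hx)⟩, h1 hx, rfl⟩
  have hcore : pCoreOf p N = ⊥ := h.no_p_normal ((CfsgLib.isPGroup_pCore p).map _)
    (CfsgLib.le_normalizer_map_characteristic hGN (pCore p N)).1
    (CfsgLib.le_normalizer_map_characteristic hRN (pCore p N)).1
  have hQbot : Q = ⊥ := eq_bot_iff.2 (hQN.trans hcore.le)
  rintro ⟨x, hx⟩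
  obtain ⟨j, hj⟩ := hj x hx
  exact ⟨j, Subtype.ext (Subgroup.mem_bot.1 (hQbot.le hj))⟩

theorem G_R_le_normalizer_O2 : G ≤ Subgroup.normalizer (pCoreOf 2 G : Set X) ∧
    R ≤ Subgroup.normalizer (pCoreOf 2 G : Set X) :=
  ⟨(CfsgLib.le_normalizer_map_characteristic Subgroup.le_normalizer (pCore 2 G)).1,
    (CfsgLib.le_normalizer_map_characteristic h.normG (pCore 2 G)).1⟩

theorem O2_two : IsPGroup 2 ↥(pCoreOf 2 G) := (CfsgLib.isPGroup_pCore 2).map _

theorem O2_le : pCoreOf 2 G ≤ G := Subgroup.map_subtype_le _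

theorem le_O2 {T : Subgroup X} (hT : T ≤ G) (h2 : IsPGroup 2 T) (hGT : G ≤ Subgroup.normalizer (T : Set X)) :
    T ≤ pCoreOf 2 G := by
  haveI : (T.subgroupOf G).Normal := (Subgroup.normal_subgroupOf_iff_le_normalizer hT).2 hGT
  have h1 : T.subgroupOf G ≤ pCore 2 G := CfsgLib.le_pCore (h2.of_equiv (Subgroup.subgroupOfEquivOfLe hT).symm)
  exact fun x hx => ⟨⟨x, hT hx⟩, h1 hx, rfl⟩

/-- `[N, R] ≤ O_2(G)` for a proper invariant normal subgroup `N`. -/
theorem commutator_le_O2 {N : Subgroup X} (hN : N ≤ G) (hne : N ≠ G) (hGN : G ≤ Subgroup.normalizer (N : Set X))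
    (hRN : R ≤ Subgroup.normalizer (N : Set X)) : ⁅N, R⁆ ≤ pCoreOf 2 G := by
  have hK : ⁅N, R⁆ ≤ N := CfsgLib.commutator_le_of_le_normalizer hRN
  haveI : ((⁅N, R⁆).subgroupOf N).Normal :=
    (Subgroup.normal_subgroupOf_iff_le_normalizer hK).2 (CfsgLib.left_le_normalizer_commutator R N)
  have h1 : (⁅N, R⁆).subgroupOf N ≤ pCore 2 N := CfsgLib.le_pCore
    ((h.two_of_normal hN hne hGN hRN).of_equiv (Subgroup.subgroupOfEquivOfLe hK).symm)
  have h2 : pCoreOf 2 N ≤ pCoreOf 2 G := h.le_O2 ((Subgroup.map_subtype_le _).trans hN)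
    ((CfsgLib.isPGroup_pCore 2).map _) (CfsgLib.le_normalizer_map_characteristic hGN (pCore 2 N)).1
  exact fun x hx => h2 ⟨⟨x, hK hx⟩, h1 hx, rfl⟩

end Counter

end CfsgLib.FlavellA
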