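import Cfsg.Agent.Lib.FlavellA.Local

/-!
A moved element of `Z` centralises `Z`.

Blueprint: `blueprint/FlavellA.md`, section 3 (OUTER).
-/

set_option autoImplicit false
set_option linter.unusedSectionVars false
set_option linter.style.haveILetI false

namespace CfsgLib.FlavellA

open Cfsg
open scoped commutatorElement Pointwise

universe u

variable {X : Type u} [Group X]

theorem comm_sq_eq {v z : X} : ⁅v * v, z⁆ = v * ⁅v, z⁆ * v⁻¹ * ⁅v, z⁆ := by
  simp only [commutatorElement_def]; group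

namespace Setup

variable [Finite X] {G R S D Z Zc M : Subgroup X} {p r n : ℕ} (h : Setup G R S D Z Zc p r n)
include h

/-- A two-element commuting with `R` and fixing `Z` centralises `D`. -/
theorem centralizes_of_S {τ : X} (hτS : τ ∈ S) (hτR : ∀ σ ∈ R, σ * τ = τ * σ) (hτZ : ∀ z ∈ Z, τ * z = z * τ) :
    ∀ x ∈ D, x * τ = τ * x := by
  obtain ⟨i, hi⟩ := h.S_two ⟨τ, hτS⟩
  refine h.data.centralizes_of_fix (h.S_normalizes_D hτS) hτR hτZ
    (Nat.Coprime.coprime_dvd_left (orderOf_dvd_of_pow_eq_one (congrArg Subtype.val hi)) ?_)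
  refine Nat.Coprime.pow_left i ((Nat.coprime_primes Nat.prime_two h.data.rprime).2 ?_)
  have := Nat.two_pow_pos n
  have := Nat.one_lt_two_pow (Nat.pos_iff_ne_zero.1 h.data.npos)
  rw [h.data.r_eq]
  omega

/-- An involution of `S` is a commuting product from `D` and the centraliser of `R`. -/
theorem decomp_involution {s : X} (hs : s ∈ S) (hss : s * s = 1) :
    ∃ d ∈ D, ∃ τ ∈ S, InvAct R D Z τ ∧ τ * d = d * τ ∧ τ * τ ∈ Z ∧ s = d * τ := by
  obtain ⟨d, hd, τ, hτ, hτR, e⟩ := h.exists_decomp hs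
  have hτd : τ * d * τ⁻¹ ∈ D := (Subgroup.mem_normalizer_iff.1 (h.S_normalizes_D hτ) d).1 hd
  have hτ2 : τ * τ = (d * (τ * d * τ⁻¹))⁻¹ := by
    refine eq_inv_of_mul_eq_one_right ?_
    rw [show d * (τ * d * τ⁻¹) * (τ * τ) = (d * τ) * (d * τ) by group, ← e, hss]
  have hτ2R : ∀ σ ∈ R, σ * (τ * τ) = τ * τ * σ := fun σ hσ => Commute.mul_right (hτR σ hσ) (hτR σ hσ)
  have hτ2Z : τ * τ ∈ Z := h.data.mem_Z (hτ2 ▸ inv_mem (mul_mem hd hτd)) hτ2R
  have hinv : ∀ τ', τ' ∈ S → (∀ σ ∈ R, σ * τ' = τ' * σ) → τ' * τ' ∈ Z → InvAct R D Z τ' := fun τ' h1 h2 h3 =>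
    ⟨h.S_normalizes_D h1, h2, fun x hx => h.data.central _ h3 x hx,
      fun z hz => (Subgroup.mem_normalizer_iff.1 (h.S_le_normalizer_Z h1) z).1 hz⟩
  have hτa := hinv τ hτ hτR hτ2Z
  have hdW : d ∈ fixMod D Z τ := by
    refine (InvAct.mem_fixMod h.data hτa).2 ⟨hd, ?_⟩
    have e1 : disp τ d = (τ * τ * d)⁻¹ * d⁻¹ := by
      rw [disp, hτ2]; group
    rw [e1, ← h.data.central _ hτ2Z _ hd, ← mul_inv_rev,
      show d * (d * (τ * τ)) = d * d * (τ * τ) by group]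
    exact inv_mem (mul_mem (h.data.sq d hd) hτ2Z)
  obtain ⟨v, hv, hvτ, ζ, hζ, rfl⟩ := InvAct.fix_split h.data hτa hdW
  have hζS : ζ * τ ∈ S := mul_mem (h.D_le_S (h.data.Z_le hζ)) hτ
  have hζR : ∀ σ ∈ R, σ * (ζ * τ) = ζ * τ * σ := fun σ hσ =>
    Commute.mul_right (h.data.Z_centralized hζ hσ) (hτR σ hσ)
  have hζ2 : ζ * τ * (ζ * τ) ∈ Z := by
    rw [show ζ * τ * (ζ * τ) = ζ * (τ * ζ * τ⁻¹) * (τ * τ) by group]
    exact mul_mem (mul_mem hζ (hτa.fixing ζ hζ)) hτ2Z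
  refine ⟨v, hv, ζ * τ, hζS, hinv _ hζS hζR hζ2, ?_, hζ2, by rw [e, mul_assoc]⟩
  calc ζ * τ * v = ζ * (τ * v) := mul_assoc _ _ _
    _ = (ζ * v) * τ := by rw [hvτ]; group
    _ = v * (ζ * τ) := by rw [← h.data.central ζ hζ v hv, mul_assoc]

include h in
theorem ss_one {g t : X} (ht : t ∈ Z) : g * t * g⁻¹ * (g * t * g⁻¹) = 1 := by
  rw [show g * t * g⁻¹ * (g * t * g⁻¹) = g * (t * t) * g⁻¹ by group, h.data.sq_one t ht]; group

variable (hM : MaxData G R D Z Zc M) {g : X}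
include hM

/-- Without flips the part of `D` inside `g M g⁻¹` squares into the centre. -/
theorem inside_sq (hg : Config G D S M g)
    (hno : ∀ τ, InvAct R D Z τ → τ ∈ S → (∀ z ∈ Z, disp τ z ∈ Zc) → ∀ z ∈ Z, z * τ = τ * z)
    {w : X} (hw : w ∈ Z) (hwA : g⁻¹ * w * g ∉ M) {v : X} (hv : v ∈ inside D M g) : v * v ∈ Zc := by
  by_contra hα
  obtain ⟨hvD, hvM⟩ := mem_inside.1 hv
  have hα' := h.data.sq v hvD
  set v' := g⁻¹ * v * g with hv'
  have hv'S : v' ∈ S := hg.right v hvD hvM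
  have hv'Z : ∀ z ∈ Z, v' * z * v'⁻¹ ∈ Z := fun z hz =>
    (Subgroup.mem_normalizer_iff.1 (h.S_le_normalizer_Z hv'S) z).1 hz
  have hf : ∀ z ∈ Z, ⁅v', z⁆ ∈ Z := fun z hz => by
    rw [commutatorElement_def]; exact mul_mem (hv'Z z hz) (inv_mem hz)
  have hff : ∀ z ∈ Z, ⁅v' * v', z⁆ = ⁅v', ⁅v', z⁆⁆ := by
    intro z hz
    rw [comm_sq_eq, commutatorElement_def v' ⁅v', z⁆, inv_eq_of_mul_eq_one_right (h.data.sq_one _ (hf z hz))]
  have hkey : ∀ z ∈ Z, ⁅v', ⁅v', z⁆⁆ ∈ Zc → ⁅v', z⁆ ∈ Zc := by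
    intro z hz hzz
    have hzM : g * z * g⁻¹ ∈ M := by
      have h1 := h.inside_of_comm hM hg.symm.mem hα' hα (h.Z_le_G hz) (g := g⁻¹) (x := z) (by
        rw [inv_inv, show g⁻¹ * (v * v) * g = v' * v' by rw [hv']; group, ← commutatorElement_inv, hff z hz]
        exact inv_mem (h.Zc_le_zentr hzz))
      rwa [inv_inv] at h1
    by_contra hc
    refine hwA (h.inside_of_comm hM hg.mem (hf z hz) hc (h.Z_le_G hw) ?_)
    have hsS := hg.left z (h.data.Z_le hz) hzM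
    have haD : g * ⁅v', z⁆ * g⁻¹ ∈ D := by
      rw [show g * ⁅v', z⁆ * g⁻¹ = v * ((g * z * g⁻¹) * v⁻¹ * (g * z * g⁻¹)⁻¹) by
        rw [hv']; simp only [commutatorElement_def]; group]
      exact mul_mem hvD ((Subgroup.mem_normalizer_iff.1 (h.S_normalizes_D hsS) _).1 (inv_mem hvD))
    rw [commutatorElement_eq_one_iff_mul_comm.2 (h.data.central w hw _ haD).symm]
    exact one_mem _
  have hfix : ∀ c ∈ Zc, ⁅v', c⁆ = 1 := fun c hc =>
    commutatorElement_eq_one_iff_mul_comm.2 (mem_zentr_comm (h.Zc_le_zentr hc) (h.S_le hv'S))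
  have hall : ∀ z ∈ Z, ⁅v', z⁆ ∈ Zc := by
    intro z hz
    refine hkey z hz (hkey _ (hf z hz) ?_)
    rw [← hff _ (hf z hz)]
    set w2 := ⁅v', ⁅v', z⁆⁆ with hw2
    have hw2Z : w2 ∈ Z := hf _ (hf z hz)
    -- `v'²` fixes `[v'², z]`
    have h4 : ⁅v' * v', w2⁆ = 1 := by
      have hα2 : (v' * v') * (v' * v') = 1 := by
        rw [show v' * v' * (v' * v') = g⁻¹ * ((v * v) * (v * v)) * g by rw [hv']; group,
          h.data.sq_one _ hα']; group
      rw [hw2, ← hff z hz]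
      set a := v' * v' with ha
      have h5 := involution_inverts (x := z) hα2
      have h6 : a * ⁅a, z⁆ * a⁻¹ = ⁅a, z⁆⁻¹ := by
        simp only [commutatorElement_def]; exact h5
      rw [commutatorElement_def a ⁅a, z⁆, h6]
      have h7 : ⁅a, z⁆ ∈ Z := by rw [ha, hff z hz]; exact hf _ (hf z hz)
      rw [← mul_inv_rev, h.data.sq_one _ h7, inv_one]
    have h8 : ⁅v', w2⁆ ∈ Zc := hkey w2 hw2Z (by rw [← hff _ hw2Z, h4]; exact one_mem _)
    rw [hff _ (hf z hz)]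
    rwa [← hw2]
  obtain ⟨d, hd, τ, hτ, hτR, e⟩ := h.exists_decomp hv'S
  have hτconj : ∀ z ∈ Z, τ * z * τ⁻¹ = ⁅v', z⁆ * z := fun z hz => by
    have hτz := (Subgroup.mem_normalizer_iff.1 (h.S_le_normalizer_Z hτ) z).1 hz
    rw [show ⁅v', z⁆ * z = d * (τ * z * τ⁻¹) * d⁻¹ by rw [e]; simp only [commutatorElement_def]; group,
      h.data.central _ hτz d hd, mul_inv_cancel_right]
  have hτ2S : τ * τ ∈ S := mul_mem hτ hτ
  have hτ2R : ∀ σ ∈ R, σ * (τ * τ) = τ * τ * σ := fun σ hσ => Commute.mul_right (hτR σ hσ) (hτR σ hσ)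
  have hτ2Z : ∀ z ∈ Z, τ * τ * z = z * (τ * τ) := by
    intro z hz
    refine mul_inv_eq_iff_eq_mul.1 ?_
    calc τ * τ * z * (τ * τ)⁻¹ = τ * (τ * z * τ⁻¹) * τ⁻¹ := by group
      _ = (τ * ⁅v', z⁆) * z * τ⁻¹ := by rw [hτconj z hz]; group
      _ = ⁅v', z⁆ * (τ * z * τ⁻¹) := by rw [mem_zentr_comm (h.Zc_le_zentr (hall z hz)) (h.S_le hτ)]; group
      _ = (⁅v', z⁆ * ⁅v', z⁆) * z := by rw [hτconj z hz, mul_assoc]
      _ = z := by rw [h.data.sq_one _ (hf z hz), one_mul]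
  have hτ2D := h.centralizes_of_S hτ2S hτ2R hτ2Z
  have hτa : InvAct R D Z τ := ⟨h.S_normalizes_D hτ, hτR, hτ2D,
    fun z hz => (Subgroup.mem_normalizer_iff.1 (h.S_le_normalizer_Z hτ) z).1 hz⟩
  have hτZ := hno τ hτa hτ fun z hz => by
    rw [disp, hτconj z hz, mul_inv_cancel_right]; exact hall z hz
  have hτD := h.centralizes_of_S hτ hτR fun z hz => (hτZ z hz).symm
  refine hg.symm.notMem (h.fusion_centralizing hM hg.symm.mem hα' hα ?_)
  have e2 : g⁻¹ * (v * v) * g⁻¹⁻¹ = d * d * (τ * τ) := by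
    calc g⁻¹ * (v * v) * g⁻¹⁻¹ = v' * v' := by rw [hv']; group
      _ = d * (τ * d) * τ := by rw [e]; group
      _ = d * d * (τ * τ) := by rw [← hτD d hd]; group
  rw [e2]
  refine ⟨⟨G.mul_mem (h.D_le_G (mul_mem hd hd)) (h.S_le hτ2S), fun x hx => ?_⟩,
    Subgroup.mul_mem _ (Subgroup.le_normalizer (mul_mem hd hd)) (h.S_normalizes_D hτ2S)⟩
  rw [commutatorElement_eq_one_iff_mul_comm.2 (?_ : d * d * (τ * τ) * x = x * (d * d * (τ * τ)))]
  · exact one_mem _
  · calc d * d * (τ * τ) * x = d * d * (τ * τ * x) := mul_assoc _ _ _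
      _ = (d * d * x) * (τ * τ) := by rw [← hτ2D x hx]; group
      _ = x * (d * d * (τ * τ)) := by rw [← h.data.central _ (h.data.sq d hd) x hx, mul_assoc]

/-- OUTER: a moved element of `Z` centralises `Z`. -/
theorem moved_central (hg : Config G D S M g) {t : X} (ht : t ∈ Z) (htc : t ∉ Zc) (htM : g * t * g⁻¹ ∈ M) :
    ∀ z ∈ Z, g * t * g⁻¹ * z = z * (g * t * g⁻¹) := by
  by_contra hcon
  push Not at hcon
  obtain ⟨w, hw, hws⟩ := hcon
  set s := g * t * g⁻¹ with hsdef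
  have hsS : s ∈ S := hg.left t (h.data.Z_le ht) htM
  obtain ⟨d, hd, τ, hτ, hτa, hτd, hτ2, hs⟩ := h.decomp_involution hsS (h.ss_one ht)
  have hτconj : ∀ z ∈ Z, τ * z * τ⁻¹ = s * z * s⁻¹ := fun z hz => by
    rw [hs, show d * τ * z * (d * τ)⁻¹ = d * (τ * z * τ⁻¹) * d⁻¹ by group,
      h.data.central _ (hτa.fixing z hz) d hd, mul_inv_cancel_right]
  have hneD : ∃ x ∈ D, x * τ ≠ τ * x := by
    refine ⟨w, h.data.Z_le hw, fun hh => hws ?_⟩
    refine mul_inv_eq_iff_eq_mul.1 ?_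
    rw [← hτconj w hw, ← hh, mul_inv_cancel_right]
  have hdinside : d ∈ inside D M g := mem_inside.2 ⟨hd, h.inside_of_comm hM hg.mem ht htc (h.D_le_G hd) (by
    rw [commutatorElement_eq_one_iff_mul_comm.2 (show d * s = s * d by
      rw [hs]
      calc d * (d * τ) = d * (τ * d) := by rw [hτd]
        _ = d * τ * d := by group)]
    exact one_mem _)⟩
  have hdmoved : d ∈ moved D Z τ := by
    have hdW : d ∈ fixMod D Z τ := (InvAct.mem_fixMod h.data hτa).2 ⟨hd, by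
      rw [disp, hτd, mul_inv_cancel_right, mul_inv_cancel]; exact one_mem _⟩
    by_cases hflip : ∃ τ', InvAct R D Z τ' ∧ (∀ z ∈ Z, disp τ' z ∈ Zc) ∧ ∃ z ∈ Z, z * τ' ≠ τ' * z
    · obtain ⟨τ', hτ', hz', z, hz, hne⟩ := hflip
      rw [← InvAct.fixMod_eq_moved h.data hτa hneD
        (InvAct.relIndex_moved_eq hz' h.data hτ' ⟨z, h.data.Z_le hz, hne⟩).2.2.le]
      exact hdW
    · have hno : ∀ τ', InvAct R D Z τ' → τ' ∈ S → (∀ z ∈ Z, disp τ' z ∈ Zc) → ∀ z ∈ Z, z * τ' = τ' * z :=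
        fun τ' h1 _ h2 z hz => by
          by_contra h3
          exact hflip ⟨τ', h1, h2, z, hz, h3⟩
      obtain ⟨w', hw', hw'A⟩ : ∃ w' ∈ Z, g⁻¹ * w' * g ∉ M := by
        by_contra hall
        push Not at hall
        refine hws ?_
        refine mul_inv_eq_iff_eq_mul.1 ?_
        rw [← hτconj w hw, ← hno τ hτa hτ (fun z hz => by
          have h1 := inv_mem (h.comm_AA hM hg hz (hall z hz) ht htM)
          rw [commutatorElement_inv, ← hsdef, commutatorElement_def] at h1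
          rw [disp, hτconj z hz]; exact h1) w hw, mul_inv_cancel_right]
      have hsq : ∀ b ∈ inside D M g, b * b ∈ Zc := fun b hb => h.inside_sq hM hg hno hw' hw'A hb
      have hcomm : ∀ a ∈ inside D M g, ∀ b ∈ inside D M g, ⁅a, b⁆ ∈ Zc := by
        intro a ha b hb
        have h1 := hsq _ (mul_mem ha hb)
        rw [h.data.sq_mul (inside_le ha) (inside_le hb)] at h1
        have h2 := mul_mem (mul_mem (inv_mem (hsq b hb)) (inv_mem (hsq a ha))) h1
        rwa [show (b * b)⁻¹ * (a * a)⁻¹ * (a * a * (b * b) * ⁅a, b⁆) = ⁅a, b⁆ by group] at h2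
      -- a part of each displacement lies inside
      have hpart : ∀ u ∈ moved D Z τ, ∃ b ∈ inside D M g, ∃ z ∈ Z, u = b * z := by
        intro u hu
        obtain ⟨y, hy, z₀, hz₀, rfl⟩ := InvAct.mem_moved h.data hτa hu
        obtain ⟨v, hv, hvτ, z₁, hz₁, hvz⟩ := InvAct.fix_split h.data hτa
          (InvAct.moved_le_fixMod h.data hτa (InvAct.disp_mem_moved hy))
        have hy' : τ * y * τ⁻¹ ∈ D := hτa.conj_mem hy
        set c := ⁅d, τ * y * τ⁻¹⁆ with hc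
        have hcZ : c ∈ Z := h.data.comm d hd _ hy'
        refine ⟨v * c, mem_inside.2 ⟨mul_mem hv (h.data.Z_le hcZ), h.inside_of_comm hM hg.mem ht htc
          (h.D_le_G (mul_mem hv (h.data.Z_le hcZ))) ?_⟩, c⁻¹ * (z₁ * z₀),
          mul_mem (inv_mem hcZ) (mul_mem hz₁ hz₀), by rw [hvz]; group⟩
        have e1 : τ * c * τ⁻¹ = ⁅d, y⁆ := by
          rw [hc, show τ * ⁅d, τ * y * τ⁻¹⁆ * τ⁻¹ = ⁅τ * d * τ⁻¹, τ * (τ * y * τ⁻¹) * τ⁻¹⁆ by
            simp only [commutatorElement_def]; group, hτa.conj_conj hy, hτd, mul_inv_cancel_right]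
        have hy'e : τ * y * τ⁻¹ = disp τ y * y := by rw [disp]; group
        have e2 : c = ⁅d, v⁆ * ⁅d, y⁆ := by
          rw [hc, hy'e, h.data.comm_mul_right hd (hτa.disp_mem hy) hy, hvz,
            h.data.comm_mul_right hd hv (h.data.Z_le hz₁),
            (commutatorElement_eq_one_iff_mul_comm (g₁ := d) (g₂ := z₁)).2 (h.data.central z₁ hz₁ d hd), mul_one]
        have hcs : s * (v * c) * s⁻¹ = v * c := by
          calc s * (v * c) * s⁻¹ = d * ((τ * v) * (c * τ⁻¹)) * d⁻¹ := by rw [hs]; group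
            _ = d * (v * (τ * c * τ⁻¹)) * d⁻¹ := by rw [hvτ]; group
            _ = d * v * ⁅d, y⁆ * d⁻¹ := by rw [e1]; group
            _ = ⁅d, v⁆ * v * (d * ⁅d, y⁆ * d⁻¹) := by simp only [commutatorElement_def]; group
            _ = ⁅d, v⁆ * v * ⁅d, y⁆ := by rw [h.data.central _ (h.data.comm d hd y hy) d hd, mul_inv_cancel_right]
            _ = v * (⁅d, v⁆ * ⁅d, y⁆) := by rw [← h.data.central _ (h.data.comm d hd v hv) v hv, mul_assoc]
            _ = v * c := by rw [e2]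
        rw [commutatorElement_eq_one_iff_mul_comm.2 (mul_inv_eq_iff_eq_mul.1 hcs).symm]
        exact one_mem _
      have hstrip : ∀ a ∈ D, ∀ b ∈ D, ∀ z ∈ Z, ⁅a, b * z⁆ = ⁅a, b⁆ := fun a ha b hb z hz => by
        rw [h.data.comm_mul_right ha hb (h.data.Z_le hz),
          (commutatorElement_eq_one_iff_mul_comm (g₁ := a) (g₂ := z)).2 (h.data.central z hz a ha), mul_one]
      refine h.data.mem_small (InvAct.moved_le h.data hτa) le_sup_left (InvAct.R_le_normalizer_moved h.data hτa)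
        (fun u hu u' hu' => ?_) (InvAct.moved_ne h.data hτa hneD) hd fun u hu => ?_
      · obtain ⟨b, hb, z, hz, rfl⟩ := hpart u hu
        obtain ⟨b', hb', z', hz', rfl⟩ := hpart u' hu'
        rw [hstrip _ (mul_mem (inside_le hb) (h.data.Z_le hz)) _ (inside_le hb') _ hz',
          h.data.comm_symm (mul_mem (inside_le hb) (h.data.Z_le hz)) (inside_le hb'),
          hstrip _ (inside_le hb') _ (inside_le hb) _ hz]
        exact hcomm b' hb' b hb
      · obtain ⟨b, hb, z, hz, rfl⟩ := hpart u hu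
        rw [hstrip _ hd _ (inside_le hb) _ hz]
        exact hcomm d hdinside b hb
  -- so `s` is conjugate to an element centralised by `R`
  obtain ⟨x, hx, z, hz, hde⟩ := InvAct.mem_moved h.data hτa hdmoved
  set e := disp τ x with he
  have heD : e ∈ D := hτa.disp_mem hx
  have hc0 : e * e * z ∈ Z := mul_mem (h.data.sq e heD) hz
  have hconj : x⁻¹ * s * x = e * e * z * τ := by
    have h1 : x * τ * x⁻¹ = e⁻¹ * τ := by rw [he, disp]; group
    calc x⁻¹ * s * x = x⁻¹ * ((e * e * z) * (e⁻¹ * τ)) * x := by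
          rw [hs, hde]
          congr 2
          have hez : e * z * e⁻¹ = z := by rw [h.data.central z hz e heD, mul_inv_cancel_right]
          rw [show e * e * z * (e⁻¹ * τ) = e * (e * z * e⁻¹) * τ by group, hez]
      _ = (x⁻¹ * (e * e * z)) * (x * τ * x⁻¹) * x := by rw [h1]; group
      _ = e * e * z * τ := by rw [h.data.central _ hc0 _ (inv_mem hx)]; group
  refine hg.notMem ?_
  have hxM : x ∈ M := h.D_le_M hM hx
  have hmv := h.moved_fixed hM (g := x⁻¹ * g) (G.mul_mem (G.inv_mem (h.D_le_G hx)) hg.mem) ht htc (by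
    rw [show x⁻¹ * g * t * (x⁻¹ * g)⁻¹ = x⁻¹ * s * x by rw [hsdef]; group]
    exact mul_mem (mul_mem (inv_mem hxM) htM) hxM) (by
    rw [show x⁻¹ * g * t * (x⁻¹ * g)⁻¹ = x⁻¹ * s * x by rw [hsdef]; group, hconj]
    exact fun σ hσ => Commute.mul_right (h.data.Z_centralized hc0 hσ) (hτa.commR σ hσ))
  have := M.mul_mem hxM hmv
  rwa [mul_inv_cancel_left] at this

end Setup

end CfsgLib.FlavellA
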