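import Cfsg.Agent.Lib.FlavellA.Rep
import Cfsg.Agent.Lib.FrobAction.SymplecticCore

/-!
A 2-group of class two with scalar centre has a square central index.

Blueprint: `blueprint/FlavellA.md`, section 1.
-/

set_option autoImplicit false
set_option linter.unusedSectionVars false
set_option linter.style.haveILetI false

namespace CfsgLib.FlavellA

open scoped commutatorElement

universe u v w

variable {X : Type u} [Group X] [Finite X] {K : Type v} [Field K] [IsAlgClosed K] {W : Type w} [AddCommGroup W]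
  [Module K W] [FiniteDimensional K W]

theorem central_index_square [Nontrivial W] (ρ : X →* Module.End K W) (hρ : Function.Injective ρ)
    (h2K : ((2 : ℕ) : K) ≠ 0) {F : Subgroup X} (hF : IsPGroup 2 F)
    (hcl : ∀ a ∈ F, ∀ b ∈ F, ⁅a, b⁆ ∈ Subgroup.centralizer (F : Set X))
    (hscal : ∀ z ∈ F, z ∈ Subgroup.centralizer (F : Set X) → ∃ c : K, ρ z = c • 1) :
    ∃ d : ℕ, (Subgroup.centralizer (F : Set X)).relIndex F = d * d := by
  classical
  haveI : Fact (Nat.Prime 2) := ⟨Nat.prime_two⟩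
  set Z := (Subgroup.centralizer (F : Set X)).subgroupOf F with hZ
  have hZc : Z ≤ Subgroup.center F := fun z hz => Subgroup.mem_center_iff.2 fun g =>
    Subtype.ext (Subgroup.mem_centralizer_iff.1 (Subgroup.mem_subgroupOf.1 hz) g g.2)
  haveI : Z.Normal := ⟨fun z hz g => by
    rwa [Subgroup.mem_center_iff.1 (hZc hz) g, mul_inv_cancel_right]⟩
  have hHK : (Nat.card F : K) ≠ 0 := by
    obtain ⟨k, hk⟩ := IsPGroup.iff_card.1 hF
    rw [hk, Nat.cast_pow]
    exact pow_ne_zero _ h2K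
  have hex : ∃ m, ∃ S : Submodule K W, S ≠ ⊥ ∧ (∀ g : F, ∀ v ∈ S, ρ g v ∈ S) ∧ Module.finrank K S = m :=
    ⟨_, ⊤, top_ne_bot, fun _ _ _ => Submodule.mem_top, rfl⟩
  obtain ⟨S, hS0, hSinv, hSn⟩ := Nat.find_spec hex
  haveI : Nontrivial S := Submodule.nontrivial_iff_ne_bot.2 hS0
  obtain ⟨v, hv⟩ := exists_ne (0 : S)
  let α : F →* Module.End K S :=
    { toFun := fun g => (ρ g).restrict (hSinv g)
      map_one' := LinearMap.ext fun v => Subtype.ext (by simp)
      map_mul' := fun g g' => LinearMap.ext fun v => Subtype.ext (by simp) }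
  have hsc : ∀ z ∈ Z, ∃ c : K, ρ (z : X) = c • 1 ∧ α z = c • 1 := fun z hz => by
    obtain ⟨c, hc⟩ := hscal z z.2 (Subgroup.mem_subgroupOf.1 hz)
    refine ⟨c, hc, LinearMap.ext fun v => Subtype.ext ?_⟩
    show ρ (z : X) (v : W) = c • (v : W)
    rw [hc]; rfl
  have hirr : ∀ T : Submodule K S, (∀ g, ∀ v ∈ T, α g v ∈ T) → T = ⊥ ∨ T = ⊤ := by
    intro T hT
    by_contra hne
    rw [not_or] at hne
    refine Nat.find_min hex (m := Module.finrank K (T.map S.subtype)) ?_ ⟨T.map S.subtype, ?_, ?_, rfl⟩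
    · rw [← hSn, Submodule.finrank_map_subtype_eq]
      exact Submodule.finrank_lt (hne.2)
    · exact fun e => hne.1 (Submodule.map_injective_of_injective S.injective_subtype
        (e.trans (Submodule.map_bot _).symm))
    · rintro g _ ⟨w, hw, rfl⟩
      exact ⟨α g w, hT g w hw, rfl⟩
  refine ⟨Module.finrank K S, (CfsgLib.SymplecticCore.degree_sq Z hZc (fun g h => ?_) α hirr
    (fun z hz => (hsc z hz).imp fun c hc => hc.2) (fun h hh => ?_) hHK).symm⟩
  · rw [Subgroup.mem_subgroupOf]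
    exact hcl g g.2 h h.2
  · have : ¬ ∀ g : F, ⁅(g : X), (h : X)⁆ = 1 := fun hall => hh (Subgroup.mem_subgroupOf.2
      (Subgroup.mem_centralizer_iff.2 fun g hg => commutatorElement_eq_one_iff_mul_comm.1 (hall ⟨g, hg⟩)))
    push Not at this
    obtain ⟨g, hg⟩ := this
    have hm : ⁅g, h⁆ ∈ Z := by rw [Subgroup.mem_subgroupOf]; exact hcl g g.2 h h.2
    obtain ⟨c, hc, hc'⟩ := hsc _ hm
    refine ⟨g, c, fun hc1 => hg (hρ ?_), hc'⟩
    rw [map_one, ← one_smul K (1 : Module.End K W), ← hc1, ← hc]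
    rfl

end CfsgLib.FlavellA
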