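import Cfsg.Agent.Lib.FlavellA.Minimal
import Cfsg.Agent.Lib.FlavellA.Square
import Cfsg.Agent.Lib.FlavellA.DQuot
import Cfsg.Agent.Lib.FrobAction.Order
import Cfsg.Agent.Lib.Signalizer.Functor

/-!
In a minimal counterexample `O_2(G)` is centralised by `R`.

Blueprint: `blueprint/FlavellA.md`, section 1.
-/

set_option autoImplicit false
set_option linter.unusedSectionVars false
set_option linter.style.haveILetI false

namespace CfsgLib.FlavellA

open scoped commutatorElement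
open Cfsg (pCore pCoreOf)

universe u v w

variable {X : Type u} [Group X]

theorem moved_trivial [Finite X] {c v : X} {F : Subgroup X} {a b : ℕ} (hc : c ^ a = 1) (hb : ∀ k ∈ F, k ^ b = 1)
    (hcop : a.Coprime b) (hk : c * v * c⁻¹ * v⁻¹ ∈ F) (hck : c * (c * v * c⁻¹ * v⁻¹) = c * v * c⁻¹ * v⁻¹ * c) :
    c * v = v * c := by
  set k := c * v * c⁻¹ * v⁻¹ with hkdef
  have hcv : c * v * c⁻¹ = k * v := by rw [hkdef]; group
  have key : ∀ m : ℕ, c ^ m * v * (c ^ m)⁻¹ = k ^ m * v := by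
    intro m
    induction m with
    | zero => simp
    | succ m ih =>
      have hcm : Commute c (k ^ m) := (show Commute c k from hck).pow_right m
      calc c ^ (m + 1) * v * (c ^ (m + 1))⁻¹ = c * (c ^ m * v * (c ^ m)⁻¹) * c⁻¹ := by rw [pow_succ']; group
        _ = c * k ^ m * (v * c⁻¹) := by rw [ih]; group
        _ = k ^ m * (c * v * c⁻¹) := by rw [hcm.eq]; group
        _ = k ^ (m + 1) * v := by rw [hcv, pow_succ]; group
  have h1 := key a
  rw [hc, one_mul, inv_one, mul_one] at h1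
  have hk1 : k = 1 := by
    have hg := pow_gcd_eq_one.2 ⟨mul_eq_right.1 h1.symm, hb k hk⟩
    rwa [hcop.gcd_eq_one, pow_one] at hg
  rw [hk1, one_mul] at hcv
  exact mul_inv_eq_iff_eq_mul.1 hcv

namespace Counter

variable [Finite X] {K : Type v} [Field K] [IsAlgClosed K] {W : Type w} [AddCommGroup W] [Module K W]
  [FiniteDimensional K W] {G R : Subgroup X} {ρ : X →* Module.End K W} {p r : ℕ} [hp : Fact p.Prime] [CharP K p]
  (h : Counter G R ρ p r)
include h

/-- An element commuting with `G` and `R` is a scalar. -/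
theorem scalar {z : X} (hG : ∀ x ∈ G, x * z = z * x) (hR : ∀ x ∈ R, x * z = z * x) : ∃ c : K, ρ z = c • 1 := by
  haveI := h.nontrivialW
  obtain ⟨c, hc⟩ := Module.End.exists_eigenvalue (ρ z)
  refine ⟨c, ?_⟩
  have hinv : ∀ x : X, x * z = z * x → ∀ v ∈ (ρ z).eigenspace c, ρ x v ∈ (ρ z).eigenspace c := fun x hx v hv => by
    rw [Module.End.mem_eigenspace_iff] at hv ⊢
    rw [← Module.End.mul_apply, ← map_mul, ← hx, map_mul, Module.End.mul_apply, hv, map_smul]
  rcases h.irr _ (fun x hx => hinv x (hG x hx)) (fun x hx => hinv x (hR x hx)) with e | e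
  · exact absurd e hc
  · refine LinearMap.ext fun v => ?_
    rw [Module.End.mem_eigenspace_iff.1 (e.ge Submodule.mem_top : v ∈ _), LinearMap.smul_apply, Module.End.one_apply]

/-- A central invariant fixed subgroup: central in `G`. -/
theorem central_of_fixed {F : Subgroup X} (hGF : G ≤ Subgroup.normalizer (F : Set X))
    (hR : F ≤ Subgroup.centralizer (R : Set X)) : F ≤ Subgroup.centralizer (G : Set X) :=
  Subgroup.le_centralizer_iff.1 (gen_centralizes h.gen hGF hR)

theorem G_not_two : ¬ IsPGroup 2 G := fun h2 => h.bad (pTwo_of_two h2)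

theorem G_two_of_p (hpc : ∀ U : Subgroup X, U ≤ G → IsPGroup p U → R ≤ Subgroup.normalizer (U : Set X) →
    U ≤ Subgroup.centralizer (R : Set X)) : False := by
  refine h.G_not_two ?_
  rw [← h.gen]
  refine commutator_pgroup h.normG (h.cop_le le_rfl) h.R_solvable Nat.prime_two fun q hq hq2 U hU hUq hRU => ?_
  by_cases hqp : q = p
  · subst hqp; exact hpc U hU hUq hRU
  · exact h.cent hq hqp hU hUq (fun e => absurd e hq2) hRU

set_option maxHeartbeats 800000 in
theorem O2_centralized : pCoreOf 2 G ≤ Subgroup.centralizer (R : Set X) := by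
  classical
  by_contra hmoved
  haveI : Fact (Nat.Prime 2) := ⟨Nat.prime_two⟩
  haveI := Fact.mk h.rprime
  haveI := h.nontrivialW
  obtain ⟨hp2, n, hn, hrn⟩ := h.fermat
  set Q := pCoreOf 2 G with hQ
  have hQG : Q ≤ G := h.O2_le
  have hQ2 : IsPGroup 2 Q := h.O2_two
  obtain ⟨hGQ, hRQ⟩ := h.G_R_le_normalizer_O2
  have hr2 : r ≠ 2 := by
    have := Nat.one_lt_pow hn.ne' one_lt_two
    omega
  have hexc : ∀ {U : Subgroup X}, IsPGroup p U → (2 = p → (∃ m, r = 2 ^ m + 1) → IsMulCommutative U) :=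
    fun _ e => absurd e.symm hp2
  have hab : ∀ U : Subgroup X, U ≤ Q → G ≤ Subgroup.normalizer (U : Set X) → R ≤ Subgroup.normalizer (U : Set X) →
      (∀ a ∈ U, ∀ b ∈ U, a * b = b * a) → U ≤ Subgroup.centralizer (G : Set X) := fun U hU hGU hRU hcomm =>
    h.central_of_fixed hGU (h.cent Nat.prime_two (Ne.symm hp2) (hU.trans hQG) (hQ2.to_le hU)
      (fun _ _ => ⟨⟨fun a b => Subtype.ext (hcomm a a.2 b b.2)⟩⟩) hRU)
  set CQ := Subgroup.centralizer (Q : Set X) with hCQ
  set Zq := Q ⊓ CQ with hZq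
  have hinfn : ∀ A B : Subgroup X, ∀ Y : Subgroup X, Y ≤ Subgroup.normalizer (A : Set X) →
      Y ≤ Subgroup.normalizer (B : Set X) → Y ≤ Subgroup.normalizer ((A ⊓ B : Subgroup X) : Set X) :=
    fun A B Y h1 h2 y hy => Subgroup.mem_normalizer_iff.2 fun x =>
      ⟨fun hx => ⟨(Subgroup.mem_normalizer_iff.1 (h1 hy) x).1 hx.1, (Subgroup.mem_normalizer_iff.1 (h2 hy) x).1 hx.2⟩,
       fun hx => ⟨(Subgroup.mem_normalizer_iff.1 (h1 hy) x).2 hx.1, (Subgroup.mem_normalizer_iff.1 (h2 hy) x).2 hx.2⟩⟩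
  have hcentn : ∀ A Y : Subgroup X, Y ≤ Subgroup.normalizer (A : Set X) →
      Y ≤ Subgroup.normalizer ((Subgroup.centralizer (A : Set X) : Subgroup X) : Set X) := fun A Y hY y hy =>
    CfsgLib.Comp.mem_normalizer_of_maps fun x hx => Subgroup.mem_centralizer_iff.2 fun a ha => by
      have e := Subgroup.mem_centralizer_iff.1 hx _ ((Subgroup.mem_normalizer_iff''.1 (hY hy) a).1 ha)
      calc a * (y * x * y⁻¹) = y * ((y⁻¹ * a * y) * x) * y⁻¹ := by group
        _ = y * x * y⁻¹ * a := by rw [e]; group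
  have hGCQ := hcentn Q G hGQ
  have hRCQ := hcentn Q R hRQ
  have hZqG : Zq ≤ Subgroup.centralizer (G : Set X) := hab Zq inf_le_left (hinfn _ _ _ hGQ hGCQ)
    (hinfn _ _ _ hRQ hRCQ) fun a ha b hb => (Subgroup.mem_centralizer_iff.1 hb.2 a ha.1)
  have hZqR : Zq ≤ Subgroup.centralizer (R : Set X) := h.cent Nat.prime_two (Ne.symm hp2) (inf_le_left.trans hQG)
    (hQ2.to_le inf_le_left)
    (fun _ _ => ⟨⟨fun a b => Subtype.ext (Subgroup.mem_centralizer_iff.1 b.2.2 a a.2.1)⟩⟩) (hinfn _ _ _ hRQ hRCQ)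
  -- class two
  have hclass : ∀ a ∈ Q, ∀ b ∈ Q, ⁅a, b⁆ ∈ Zq := by
    haveI := hQ2.isNilpotent
    let g : ℕ → Subgroup X := fun k => ((Subgroup.lowerCentralSeries (⊤ : Subgroup Q) (k + 1))).map Q.subtype
    have hgQ : ∀ k, g k ≤ Q := fun k => Subgroup.map_subtype_le _
    have hgnorm : ∀ k, G ≤ Subgroup.normalizer (g k : Set X) ∧ R ≤ Subgroup.normalizer (g k : Set X) := fun k =>
      ⟨(CfsgLib.le_normalizer_map_characteristic hGQ _).1, (CfsgLib.le_normalizer_map_characteristic hRQ _).1⟩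
    have hg0 : ∀ k, g k ≤ g 0 := fun k => Subgroup.map_mono (Subgroup.lowerCentralSeries_antitone _ (by omega))
    have hstep : ∀ k, ∀ x ∈ g k, ∀ y ∈ Q, ⁅x, y⁆ ∈ g (k + 1) := by
      rintro k _ ⟨x, hx, rfl⟩ y hy
      refine ⟨⁅x, ⟨y, hy⟩⁆, ?_, rfl⟩
      rw [SetLike.mem_coe, Subgroup.lowerCentralSeries_succ]
      exact Subgroup.commutator_mem_commutator hx (Subgroup.mem_top _)
    have hind : ∀ k, g (k + 1) ≤ Zq → g k ≤ Zq := by
      intro k hk x hx
      -- `g k` commutes with `g 0`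
      have hcom0 : ∀ x ∈ g k, ∀ y ∈ g 0, x * y = y * x := by
        intro x hx y hy
        have hle : g 0 ≤ Subgroup.centralizer ({x} : Set X) := by
          rw [show g 0 = ⁅Q, Q⁆ by
            show (Subgroup.lowerCentralSeries (⊤ : Subgroup Q) 1).map Q.subtype = _
            rw [Subgroup.top_lowerCentralSeries_one, commutator_def, Subgroup.map_commutator, ← MonoidHom.range_eq_map,
              Subgroup.range_subtype]]
          rw [Subgroup.commutator_le]
          intro a ha b hb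
          rw [Subgroup.mem_centralizer_singleton_iff]
          set u := ⁅x, a⁆
          set w := ⁅x, b⁆
          have hu := hk (hstep k x hx a ha)
          have hw := hk (hstep k x hx b hb)
          have ea : x * a * x⁻¹ = u * a := by simp only [u, commutatorElement_def]; group
          have eb : x * b * x⁻¹ = w * b := by simp only [w, commutatorElement_def]; group
          have hcu : ∀ v ∈ Q, Commute u v := fun v hv => (Subgroup.mem_centralizer_iff.1 hu.2 v hv).symm
          have hcw : ∀ v ∈ Q, Commute w v := fun v hv => (Subgroup.mem_centralizer_iff.1 hw.2 v hv).symm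
          refine (mul_inv_eq_iff_eq_mul.1 ?_).symm
          rw [show x * ⁅a, b⁆ * x⁻¹ = ⁅x * a * x⁻¹, x * b * x⁻¹⁆ by simp only [commutatorElement_def]; group, ea, eb]
          simp only [commutatorElement_def]
          have h1 : Commute u (a * (w * b) * a⁻¹) :=
            hcu _ (Q.mul_mem (Q.mul_mem ha (Q.mul_mem hw.1 hb)) (Q.inv_mem ha))
          calc u * a * (w * b) * (u * a)⁻¹ * (w * b)⁻¹ = (u * (a * (w * b) * a⁻¹)) * u⁻¹ * (w * b)⁻¹ := by group
            _ = a * (w * b) * a⁻¹ * b⁻¹ * w⁻¹ := by rw [h1.eq]; group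
            _ = w * (a * b * a⁻¹ * b⁻¹) * w⁻¹ := by
              rw [show a * (w * b) = (a * w) * b by group, ← (hcw a ha).eq]; group
            _ = a * b * a⁻¹ * b⁻¹ := by
              rw [(hcw _ (Q.mul_mem (Q.mul_mem (Q.mul_mem ha hb) (Q.inv_mem ha)) (Q.inv_mem hb))).eq,
                mul_inv_cancel_right]
        exact (Subgroup.mem_centralizer_singleton_iff.1 (hle hy)).symm
      have hc : g k ≤ Subgroup.centralizer (G : Set X) := hab _ (hgQ k) (hgnorm k).1 (hgnorm k).2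
        fun a ha b hb => hcom0 a ha b (hg0 k hb)
      exact ⟨hgQ k hx, Subgroup.mem_centralizer_iff.2 fun y hy => Subgroup.mem_centralizer_iff.1 (hc hx) y (hQG hy)⟩
    obtain ⟨N, hN⟩ := Subgroup.nilpotent_iff_lowerCentralSeries.1 (inferInstance : Group.IsNilpotent Q)
    have hall : ∀ j k, N ≤ k + j → g k ≤ Zq := by
      intro j
      induction j with
      | zero =>
        intro k hk
        have : g k = ⊥ := by
          show (Subgroup.lowerCentralSeries (⊤ : Subgroup Q) (k + 1)).map Q.subtype = ⊥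
          rw [eq_bot_iff.2 ((Subgroup.lowerCentralSeries_antitone _ (show N ≤ k + 1 by omega)).trans hN.le),
            Subgroup.map_bot]
        exact this.le.trans bot_le
      | succ j ih => exact fun k hk => hind k (ih (k + 1) (by omega))
    intro a ha b hb
    refine hall N 0 (by omega) ⟨⁅(⟨a, ha⟩ : Q), (⟨b, hb⟩ : Q)⁆, ?_, rfl⟩
    rw [SetLike.mem_coe, Subgroup.top_lowerCentralSeries_one]
    exact Subgroup.commutator_mem_commutator (Subgroup.mem_top _) (Subgroup.mem_top _)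
  have hscal : ∀ z ∈ Zq, ∃ c : K, ρ z = c • 1 := fun z hz => h.scalar
    (fun x hx => Subgroup.mem_centralizer_iff.1 (hZqG hz) x hx) fun x hx => Subgroup.mem_centralizer_iff.1 (hZqR hz) x hx
  -- `C(Q)` is proper
  have hCne : G ⊓ CQ ≠ G := fun e => hmoved (h.cent Nat.prime_two (Ne.symm hp2) hQG hQ2
    (fun _ _ => ⟨⟨fun a b => Subtype.ext ((Subgroup.mem_centralizer_iff.1 (e.ge (hQG a.2)).2 b b.2).symm)⟩⟩) hRQ)
  have hCN : G ≤ Subgroup.normalizer ((G ⊓ CQ : Subgroup X) : Set X) := hinfn _ _ _ Subgroup.le_normalizer hGCQ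
  have hRCN : R ≤ Subgroup.normalizer ((G ⊓ CQ : Subgroup X) : Set X) := hinfn _ _ _ h.normG hRCQ
  -- in a proper invariant subgroup containing `Q` the invariant `p`-subgroups are centralised
  have hproper : ∀ M ≤ G, M ≠ G → R ≤ Subgroup.normalizer (M : Set X) → Q ≤ M →
      ∀ U ≤ M, IsPGroup p U → R ≤ Subgroup.normalizer (U : Set X) → U ≤ Subgroup.centralizer (R : Set X) := by
    intro M hMG hMne hRM hQM U hU hUp hRU
    obtain ⟨Qp, hQpK, hQpp, -, hj⟩ := h.ih M hMG hMne hRM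
    have hUK : ⁅U, R⁆ ≤ Qp := fun x hx => by
      obtain ⟨i, hi⟩ := hUp ⟨x, CfsgLib.commutator_le_of_le_normalizer hRU hx⟩
      exact pTwo_mem hp2 hj (Subgroup.commutator_mono hU le_rfl hx) (congrArg Subtype.val hi)
    have hKM : ⁅M, R⁆ ≤ M := CfsgLib.commutator_le_of_le_normalizer hRM
    have hMQp : M ≤ Subgroup.normalizer (Qp : Set X) := fun y hy => CfsgLib.Comp.mem_normalizer_of_maps fun x hx => by
      obtain ⟨i, hi⟩ := hQpp ⟨x, hx⟩
      exact pTwo_mem hp2 hj
        ((Subgroup.mem_normalizer_iff.1 (CfsgLib.left_le_normalizer_commutator R M hy) x).1 (hQpK hx))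
        (i := i) (by rw [conj_pow, show x ^ p ^ i = 1 from congrArg Subtype.val hi, mul_one, mul_inv_cancel])
    have hQpC : Qp ≤ CQ := fun x hx => Subgroup.mem_centralizer_iff.2 fun q hq => by
      have hxG : x ∈ G := hMG (hKM (hQpK hx))
      have h1 : q * x * q⁻¹ * x⁻¹ ∈ Qp :=
        Qp.mul_mem ((Subgroup.mem_normalizer_iff.1 (hMQp (hQM hq)) x).1 hx) (Qp.inv_mem hx)
      have h2 : q * x * q⁻¹ * x⁻¹ ∈ Q := by
        rw [show q * x * q⁻¹ * x⁻¹ = q * (x * q⁻¹ * x⁻¹) by group]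
        exact Q.mul_mem hq ((Subgroup.mem_normalizer_iff.1 (hGQ hxG) _).1 (Q.inv_mem hq))
      obtain ⟨i, hi⟩ := hQpp ⟨_, h1⟩
      obtain ⟨j, hj⟩ := hQ2 ⟨_, h2⟩
      have hg := pow_gcd_eq_one.2 ⟨(congrArg Subtype.val hi : (q * x * q⁻¹ * x⁻¹) ^ p ^ i = 1),
        (congrArg Subtype.val hj : (q * x * q⁻¹ * x⁻¹) ^ 2 ^ j = 1)⟩
      rw [(((Nat.coprime_primes hp.out Nat.prime_two).2 hp2).pow i j).gcd_eq_one, pow_one, mul_inv_eq_one,
        mul_inv_eq_iff_eq_mul] at hg
      exact hg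
    have hUC : ⁅U, R⁆ ≤ G ⊓ CQ := le_inf ((CfsgLib.commutator_le_of_le_normalizer hRU).trans (hU.trans hMG))
      (hUK.trans hQpC)
    have hbot : ⁅U, R⁆ = ⊥ := by
      rw [eq_bot_iff, ← CfsgLib.coprime_commutator_commutator hRU (h.cop_le (hU.trans hMG)) (Or.inl h.R_solvable)]
      intro x hx
      have h2 := h.two_of_normal inf_le_left hCne hCN hRCN
      obtain ⟨j, hj⟩ := h2 ⟨x, Subgroup.commutator_mono hUC le_rfl hx⟩
      obtain ⟨i, hi⟩ := hUp ⟨x, CfsgLib.commutator_le_of_le_normalizer hRU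
        (Subgroup.commutator_mono (CfsgLib.commutator_le_of_le_normalizer hRU) le_rfl hx)⟩
      have hg := pow_gcd_eq_one.2 ⟨(congrArg Subtype.val hi : x ^ p ^ i = 1),
        (congrArg Subtype.val hj : x ^ 2 ^ j = 1)⟩
      rw [(((Nat.coprime_primes hp.out Nat.prime_two).2 hp2).pow i j).gcd_eq_one, pow_one] at hg
      exact Subgroup.mem_bot.2 hg
    exact Subgroup.commutator_eq_bot_iff_le_centralizer.1 hbot
  -- `G = Q P`
  have hbot : R ≤ Subgroup.normalizer ((⊥ : Subgroup X) : Set X) := fun σ _ =>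
    Subgroup.mem_normalizer_iff.2 fun z => by simp
  obtain ⟨P1, -, hRP⟩ := CfsgLib.coprime_le_invariant_sylow h.normG (h.cop_le le_rfl) (Or.inl h.R_solvable) (p := p)
    bot_le (IsPGroup.of_bot (G := X)) hbot
  set P := (P1 : Subgroup G).map G.subtype with hP
  have hPG : P ≤ G := Subgroup.map_subtype_le _
  have hPp : IsPGroup p P := P1.2.map _
  have hmax : ∀ U : Subgroup X, U ≤ G → IsPGroup p U → R ≤ Subgroup.normalizer (U : Set X) →
      ∃ c ∈ G, (∀ σ ∈ R, σ * c = c * σ) ∧ ∀ x ∈ U, c * x * c⁻¹ ∈ P := by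
    intro U hUG hUp hRU
    obtain ⟨P2, hUP2, hRP2⟩ := CfsgLib.coprime_le_invariant_sylow h.normG (h.cop_le le_rfl) (Or.inl h.R_solvable)
      hUG hUp hRU
    obtain ⟨c, hcR, hc⟩ := CfsgLib.coprime_invariant_sylow_conj h.normG (h.cop_le le_rfl) (Or.inl h.R_solvable)
      P2 P1 hRP2 hRP
    refine ⟨c, c.2, fun σ hσ => Subgroup.mem_centralizer_iff.1 hcR σ hσ, fun x hx => ?_⟩
    obtain ⟨y, hy, rfl⟩ := hUP2 hx
    refine ⟨c * y * c⁻¹, ?_, by simp⟩
    rw [← hc, SetLike.mem_coe, Sylow.pointwise_smul_def, Subgroup.mem_pointwise_smul_iff_inv_smul_mem]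
    simp [mul_assoc]
    exact hy
  have hPmoved : ¬ P ≤ Subgroup.centralizer (R : Set X) := fun hPC => h.G_two_of_p fun U hUG hUp hRU x hx => by
    obtain ⟨c, -, hcR, hcP⟩ := hmax U hUG hUp hRU
    rw [Subgroup.mem_centralizer_iff]
    intro σ hσ
    have e := Subgroup.mem_centralizer_iff.1 (hPC (hcP x hx)) σ hσ
    calc σ * x = c⁻¹ * ((c * σ) * x * c⁻¹) * c := by group
      _ = c⁻¹ * (σ * (c * x * c⁻¹)) * c := by rw [← hcR σ hσ]; group
      _ = c⁻¹ * (c * x * c⁻¹ * σ) * c := by rw [e]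
      _ = x * (c⁻¹ * σ * c) := by group
      _ = x * σ := by rw [show c⁻¹ * σ * c = σ by rw [mul_assoc, hcR σ hσ, inv_mul_cancel_left]]
  have hsupR : ∀ U : Subgroup X, R ≤ Subgroup.normalizer (U : Set X) →
      R ≤ Subgroup.normalizer ((Q ⊔ U : Subgroup X) : Set X) := fun U hU =>
    le_trans (le_inf hRQ hU) (Subgroup.normalizer_inf_normalizer_le_normalizer_sup Q U)
  have hsmall : ∀ U ≤ P, R ≤ Subgroup.normalizer (U : Set X) → Q ⊔ U ≠ G → U ≤ Subgroup.centralizer (R : Set X) :=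
    fun U hU hRU hne => hproper (Q ⊔ U) (sup_le hQG (hU.trans hPG)) hne (hsupR U hRU) le_sup_left U le_sup_right
      (hPp.to_le hU) hRU
  have hQP : Q ⊔ P = G := not_not.1 fun hne => hPmoved (hsmall P le_rfl hRP hne)
  have hPQ : P ≤ Subgroup.normalizer (Q : Set X) := hPG.trans hGQ
  have hdisj : ∀ x ∈ Q, x ∈ P → x = 1 := fun x hxQ hxP => by
    obtain ⟨i, hi⟩ := hPp ⟨x, hxP⟩
    obtain ⟨j, hj⟩ := hQ2 ⟨x, hxQ⟩
    have hg := pow_gcd_eq_one.2 ⟨(congrArg Subtype.val hi : x ^ p ^ i = 1), (congrArg Subtype.val hj : x ^ 2 ^ j = 1)⟩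
    rwa [(((Nat.coprime_primes hp.out Nat.prime_two).2 hp2).pow i j).gcd_eq_one, pow_one] at hg
  have hfull : ∀ U ≤ P, Q ⊔ U = G → P ≤ U := fun U hU e x hx => by
    obtain ⟨q, hq, u, hu, e'⟩ := CfsgLib.mem_sup_of_le_normalizer (hU.trans hPQ) (e.ge (hPG hx))
    have hqP : q ∈ P := by
      have := P.mul_mem hx (P.inv_mem (hU hu))
      rwa [← e', mul_inv_cancel_right] at this
    rw [← e', hdisj q hq hqP, one_mul]
    exact hu
  have hcopP := h.cop_le hPG
  have hP1 : ⁅P, R⁆ = P := by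
    refine le_antisymm (CfsgLib.commutator_le_of_le_normalizer hRP) ?_
    by_contra hne
    have h1 := hsmall _ (CfsgLib.commutator_le_of_le_normalizer hRP) (CfsgLib.right_le_normalizer_commutator R P)
      (fun e => hne (hfull _ (CfsgLib.commutator_le_of_le_normalizer hRP) e))
    apply hPmoved
    rw [← Subgroup.commutator_eq_bot_iff_le_centralizer, ← CfsgLib.coprime_commutator_commutator hRP hcopP
      (Or.inl h.R_solvable), Subgroup.commutator_eq_bot_iff_le_centralizer]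
    exact h1
  -- `C_P(Q) = 1`
  have hGn : ∀ U : Subgroup X, Q ≤ Subgroup.normalizer (U : Set X) → P ≤ Subgroup.normalizer (U : Set X) →
      G ≤ Subgroup.normalizer (U : Set X) := fun U h1 h2 => hQP.ge.trans (sup_le h1 h2)
  have hPQ1 : P ⊓ CQ = ⊥ := h.no_p_normal (hPp.to_le inf_le_left)
    (hGn _ (fun q hq => CfsgLib.Comp.mem_normalizer_of_maps fun x hx => by
        rw [Subgroup.mem_centralizer_iff.1 hx.2 q hq, mul_inv_cancel_right]
        exact hx) (hinfn _ _ _ Subgroup.le_normalizer (hPG.trans hGCQ)))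
    (hinfn _ _ _ hRP hRCQ)
  -- `E = [Q, R]`
  set E := ⁅Q, R⁆ with hE
  have hEQ : E ≤ Q := CfsgLib.commutator_le_of_le_normalizer hRQ
  have hRE : R ≤ Subgroup.normalizer (E : Set X) := CfsgLib.right_le_normalizer_commutator R Q
  have hEgen : ⁅E, R⁆ = E := CfsgLib.coprime_commutator_commutator hRQ (h.cop_le hQG) (Or.inl h.R_solvable)
  have hEne : E ≠ ⊥ := fun e => hmoved (Subgroup.commutator_eq_bot_iff_le_centralizer.1 e)
  set Ze := E ⊓ Subgroup.centralizer (R : Set X) with hZe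
  have hZeQ : ∀ z ∈ Ze, z ∈ Zq := by
    have hA := fpfAction_of_rep ρ h.inj h.cardR hRE (hQ2.to_le hEQ) hEgen hr2 h.two_cast h.r_cast h.fixfree
    intro z hz
    have h1 : (⟨z, hz.1⟩ : E) ∈ fixedGroup (CfsgLib.QGroupModule.conjAut R E hRE) := fun σ => Subtype.ext (by
      show (σ : X) * z * (σ : X)⁻¹ = z
      rw [Subgroup.mem_centralizer_iff.1 hz.2 σ σ.2, mul_inv_cancel_right])
    have h2 := Subgroup.mem_map_of_mem E.subtype (hA.fixed_le_commutator h1)
    rw [commutator_def, Subgroup.map_commutator, ← MonoidHom.range_eq_map, Subgroup.range_subtype] at h2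
    have hle : ⁅E, E⁆ ≤ Zq := Subgroup.commutator_le.2 fun a ha b hb => hclass a (hEQ ha) b (hEQ hb)
    exact hle h2
  have hD := dData_of_rep ρ h.inj (Zc := Ze) h.cardR hrn hn hRE (hQ2.to_le hEQ) hEgen h.two_cast h.r_cast h.fixfree
    le_rfl fun z hz => hscal z (hZeQ z hz)
  have hZene : Ze ≠ ⊥ := fun e => hEne (eq_bot_iff.2 ((hD.abel E le_rfl hRE fun a ha b hb =>
    commutatorElement_eq_one_iff_mul_comm.1 (Subgroup.mem_bot.1 (e.le (hD.comm a ha b hb)))).trans e.le))
  have hidxE : Ze.relIndex E = 2 ^ (2 * n) := by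
    obtain ⟨z, hz, hz1⟩ := (Subgroup.bot_or_exists_ne_one Ze).resolve_left hZene
    obtain ⟨L, hL, -⟩ := hD.cons z hz hz1
    have hLbot : L = ⊥ := by
      rw [← hL.avoid]
      exact (inf_eq_left.2 hL.le).symm
    have hrad : rad E L = Ze := by
      refine le_antisymm (fun x hx => ?_) (hD.Z_le_rad L)
      obtain ⟨hxE, hx'⟩ := hD.mem_rad_iff.1 hx
      refine hD.abel (E ⊓ Subgroup.centralizer (E : Set X)) inf_le_left (hinfn _ _ _ hRE (hcentn E R hRE))
        (fun a ha b hb => Subgroup.mem_centralizer_iff.1 hb.2 a ha.1)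
        ⟨hxE, Subgroup.mem_centralizer_iff.2 fun y hy => ?_⟩
      exact (commutatorElement_eq_one_iff_mul_comm.1 (Subgroup.mem_bot.1 (hLbot.le (hx' y hy)))).symm
    rw [← hrad]
    exact hL.index
  set C := Q ⊓ Subgroup.centralizer (R : Set X) with hC
  have hidxC : C.relIndex Q = 2 ^ (2 * n) := by
    rw [← hidxE]
    have hEC : C ⊓ E = Ze := le_antisymm (fun x hx => ⟨hx.2, hx.1.2⟩) fun x hx => ⟨⟨hEQ hx.1, hx.2⟩, hx.1⟩
    rw [← hEC, Subgroup.inf_relIndex_right]
    let f : E ⧸ C.subgroupOf E → Q ⧸ C.subgroupOf Q := Quotient.map' (Subgroup.inclusion hEQ)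
      (fun x y hxy => by
        rw [QuotientGroup.leftRel_apply] at hxy ⊢
        exact hxy)
    symm
    refine Nat.card_eq_of_bijective f ⟨fun x y => Quotient.inductionOn₂' x y fun a b hab => ?_,
      fun y => QuotientGroup.induction_on y fun q => ?_⟩
    · have h1 : (Subgroup.inclusion hEQ a)⁻¹ * Subgroup.inclusion hEQ b ∈ C.subgroupOf Q := QuotientGroup.eq.1 hab
      exact QuotientGroup.eq.2 h1
    · obtain ⟨x, hx, c, hc, e⟩ := CfsgLib.coprime_decomp hRQ (h.cop_le hQG) (Or.inl h.R_solvable) q.2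
      refine ⟨QuotientGroup.mk ⟨x, hx⟩, QuotientGroup.eq.2 ?_⟩
      rw [Subgroup.mem_subgroupOf]
      show x⁻¹ * (q : X) ∈ C
      rw [e, inv_mul_cancel_left]
      exact hc
  -- fixed central elements of `P` centralise `Q`
  have hcQ : ∀ c ∈ P, (∀ σ ∈ R, σ * c = c * σ) → (∀ x ∈ P, x * c = c * x) → c = 1 := by
    intro c hcP hcR hcc
    refine Subgroup.mem_bot.1 (hPQ1.le ⟨hcP, ?_⟩)
    have hcE : c ∈ Subgroup.normalizer (E : Set X) := CfsgLib.Comp.mem_normalizer_of_maps fun x hx => by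
      have hle : ⁅Q, R⁆.map (MulAut.conj c).toMonoidHom ≤ ⁅Q, R⁆ := by
        rw [Subgroup.map_commutator]
        refine Subgroup.commutator_mono ?_ ?_
        · rintro _ ⟨y, hy, rfl⟩
          exact (Subgroup.mem_normalizer_iff.1 (hPQ hcP) y).1 hy
        · rintro _ ⟨σ, hσ, rfl⟩
          show c * σ * c⁻¹ ∈ R
          rw [← hcR σ hσ, mul_inv_cancel_right]
          exact hσ
      exact hle ⟨x, hx, rfl⟩
    obtain ⟨i, hi⟩ := hPp ⟨c, hcP⟩
    have hi' : c ^ p ^ i = 1 := congrArg Subtype.val hi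
    have hcen := hD.centralizes_of_fix hcE hcR
      (fun z hz => Subgroup.mem_centralizer_iff.1 (hZqG (hZeQ z hz)) c (hPG hcP))
      (Nat.Coprime.coprime_dvd_left (orderOf_dvd_of_pow_eq_one hi')
        (((Nat.coprime_primes hp.out h.rprime).2 h.p_ne_r).pow_left i))
    set F0 := Q ⊓ Subgroup.centralizer ({c} : Set X) with hF0
    have hQ' : ∀ a ∈ Q, ∀ b ∈ Q, ⁅a, b⁆ ∈ F0 := fun a ha b hb =>
      ⟨(hclass a ha b hb).1, Subgroup.mem_centralizer_singleton_iff.2
        (Subgroup.mem_centralizer_iff.1 (hZqG (hclass a ha b hb)) c (hPG hcP)).symm⟩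
    have hcs : ∀ y, y * c = c * y → y ∈ Subgroup.normalizer
        ((Subgroup.centralizer ({c} : Set X) : Subgroup X) : Set X) := fun y hy =>
      Subgroup.le_normalizer (Subgroup.mem_centralizer_singleton_iff.2 hy)
    have hGF0 : G ≤ Subgroup.normalizer (F0 : Set X) := hGn _
      (fun q hq => CfsgLib.Comp.mem_normalizer_of_maps fun x hx => by
        rw [show q * x * q⁻¹ = ⁅q, x⁆ * x by simp only [commutatorElement_def]; group]
        exact F0.mul_mem (hQ' q hq x hx.1) hx)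
      (hinfn _ _ _ hPQ fun y hy => hcs y (hcc y hy))
    have hRF0 : R ≤ Subgroup.normalizer (F0 : Set X) := hinfn _ _ _ hRQ fun y hy => hcs y (hcR y hy)
    have hmod := gen_centralizes_mod h.gen hGQ hGF0 hRF0 (hQG.trans hGF0) fun σ hσ x hx => by
      have h1 : ⁅σ, x⁆ ∈ E := by
        rw [hE, Subgroup.commutator_comm]
        exact Subgroup.commutator_mem_commutator hσ hx
      rw [← commutatorElement_def]
      exact ⟨hEQ h1, Subgroup.mem_centralizer_singleton_iff.2 (hcen _ h1)⟩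
    refine Subgroup.mem_centralizer_iff.2 fun q hq => (?_ : c * q = q * c).symm
    obtain ⟨j, hj⟩ := IsPGroup.iff_card.1 hQ2
    have hk := hmod c (hPG hcP) q hq
    refine moved_trivial hi' (b := 2 ^ j) (F := Q) (fun k hk => ?_)
      (((Nat.coprime_primes hp.out Nat.prime_two).2 hp2).pow i j) hk.1
      (Subgroup.mem_centralizer_singleton_iff.1 hk.2).symm
    have := pow_card_eq_one' (x := (⟨k, hk⟩ : Q))
    rw [hj] at this
    exact congrArg Subtype.val this
  -- `P` is abelian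
  have hPne : P ≠ ⊥ := fun e => hPmoved (e ▸ bot_le)
  have hP'fix : ⁅P, P⁆ ≤ Subgroup.centralizer (R : Set X) := by
    have hle : ⁅P, P⁆ ≤ P := CfsgLib.commutator_le_of_le_normalizer Subgroup.le_normalizer
    refine hsmall _ hle (fun σ hσ => CfsgLib.Comp.mem_normalizer_of_maps fun x hx => ?_) fun e => ?_
    · have hmap : ⁅P, P⁆.map (MulAut.conj σ).toMonoidHom ≤ ⁅P, P⁆ := by
        rw [Subgroup.map_commutator]
        refine Subgroup.commutator_mono ?_ ?_ <;>
        · rintro _ ⟨y, hy, rfl⟩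
          exact (Subgroup.mem_normalizer_iff.1 (hRP hσ) y).1 hy
      exact hmap ⟨x, hx, rfl⟩
    · haveI := hPp.isNilpotent
      haveI : Nontrivial P := (Subgroup.nontrivial_iff_ne_bot P).2 hPne
      have h1 := hfull _ hle e
      have h2 : commutator P = ⊤ := by
        refine eq_top_iff.2 fun x _ => ?_
        obtain ⟨y, hy, e'⟩ : (x : X) ∈ (commutator P).map P.subtype := by
          rw [commutator_def, Subgroup.map_commutator, ← MonoidHom.range_eq_map, Subgroup.range_subtype]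
          exact h1 x.2
        rwa [← Subtype.ext e']
      exact (Group.IsSolvable.commutator_lt_top_of_nontrivial P).ne h2
  have hPab : ∀ a ∈ P, ∀ b ∈ P, a * b = b * a := by
    have hcent := gen_centralizes hP1 (CfsgLib.left_le_normalizer_commutator P P) hP'fix
    intro a ha b hb
    have h1 : ⁅a, b⁆ ∈ ⁅P, P⁆ := Subgroup.commutator_mem_commutator ha hb
    have hle : ⁅P, P⁆ ≤ P := CfsgLib.commutator_le_of_le_normalizer Subgroup.le_normalizer
    exact commutatorElement_eq_one_iff_mul_comm.1 (hcQ _ (hle h1)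
      (fun σ hσ => Subgroup.mem_centralizer_iff.1 (hP'fix h1) σ hσ)
      fun x hx => (Subgroup.mem_centralizer_iff.1 (hcent hx) _ h1).symm)
  haveI : IsMulCommutative P := ⟨⟨fun a b => Subtype.ext (hPab a a.2 b b.2)⟩⟩
  haveI := hPp.isNilpotent
  have hPR : P ⊓ Subgroup.centralizer (R : Set X) = ⊥ := (Subgroup.eq_bot_iff_forall _).2 fun x hx =>
    hcQ x hx.1 (fun σ hσ => Subgroup.mem_centralizer_iff.1 hx.2 σ hσ) fun y hy => hPab y hy x hx.1
  -- the order formula
  have hfpf : ∀ e ∈ R, e ≠ 1 → ∀ u ∈ P, e * u = u * e → u = 1 := by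
    intro e he he1 u hu heu
    refine Subgroup.mem_bot.1 (hPR.le ⟨hu, ?_⟩)
    have hcyc : Subgroup.zpowers e = R := by
      refine Subgroup.eq_of_le_of_card_ge (Subgroup.zpowers_le.2 he) ?_
      rw [h.cardR, Nat.card_zpowers, orderOf_eq_prime (by
        have := pow_card_eq_one' (x := (⟨e, he⟩ : R))
        rw [h.cardR] at this
        exact congrArg Subtype.val this) he1]
    rw [← hcyc]
    refine Subgroup.mem_centralizer_iff.2 fun σ hσ => ?_
    obtain ⟨k, rfl⟩ := hσ
    exact (show Commute e u from heu).zpow_left k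
  have hcopPR : (Nat.card ↥(P ⊔ R)).Coprime (Nat.card Q) := by
    obtain ⟨i, hi⟩ := IsPGroup.iff_card.1 hPp
    obtain ⟨j, hj⟩ := IsPGroup.iff_card.1 hQ2
    have hd : Nat.card (↥(P ⊔ R)) ∣ Nat.card P * r := by
      have := Signalizer.card_sup_dvd (X := P) (Y := R) hRP
      rw [h.cardR, mul_comm, sup_comm P R] at this
      rw [sup_comm P R]
      exact this
    refine Nat.Coprime.coprime_dvd_left hd (Nat.Coprime.mul_left ?_ ?_)
    · rw [hi, hj]; exact ((Nat.coprime_primes hp.out Nat.prime_two).2 hp2).pow i j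
    · rw [hj]; exact ((Nat.coprime_primes h.rprime Nat.prime_two).2 hr2).pow_right j
  haveI := hQ2.isNilpotent
  have hform := CfsgLib.FrobAction.order_formula P R hRP hfpf Q (sup_le hPQ hRQ) hcopPR inferInstance
  rw [h.cardR, ← hC] at hform
  set CP := Q ⊓ Subgroup.centralizer (P : Set X) with hCP
  set C0 := Q ⊓ Subgroup.centralizer ((P ⊔ R : Subgroup X) : Set X) with hC0
  have hC0C : C0 ≤ C := inf_le_inf_left _ (Subgroup.centralizer_le (le_sup_right : R ≤ P ⊔ R))
  have hC0P : C0 ≤ CP := inf_le_inf_left _ (Subgroup.centralizer_le (le_sup_left : P ≤ P ⊔ R))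
  have hmul : ∀ A B : Subgroup X, A ≤ B → A.relIndex B * Nat.card A = Nat.card B := fun A B hAB => by
    rw [mul_comm]
    have := Subgroup.relIndex_mul_relIndex ⊥ A B bot_le hAB
    rwa [Subgroup.relIndex_bot_left, Subgroup.relIndex_bot_left] at this
  set a := C0.relIndex C with ha
  set b := C0.relIndex CP with hb
  have hcQ0 := hmul C Q inf_le_left
  have hcC := hmul C0 C hC0C
  have hcP := hmul C0 CP hC0P
  have hapos : 0 < a := Nat.pos_of_ne_zero Subgroup.index_ne_zero_of_finite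
  have hbpos : 0 < b := Nat.pos_of_ne_zero Subgroup.index_ne_zero_of_finite
  have heq : 2 ^ (2 * n) = a ^ 2 ^ n * b := by
    rw [← hcQ0, ← hcC, ← hcP, hidxC, ← ha, ← hb, mul_pow, hrn, pow_succ a (2 ^ n)] at hform
    have hpos : 0 < Nat.card C0 ^ (2 ^ n + 1) * (a * Nat.card C0) :=
      Nat.mul_pos (Nat.pow_pos Nat.card_pos) (Nat.mul_pos hapos Nat.card_pos)
    refine Nat.eq_of_mul_eq_mul_left hpos ?_
    calc Nat.card C0 ^ (2 ^ n + 1) * (a * Nat.card C0) * 2 ^ (2 * n)
        = Nat.card C0 ^ (2 ^ n + 1) * (2 ^ (2 * n) * (a * Nat.card C0)) := by ring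
      _ = _ := by rw [hform]; ring
  have hPne' : CP ≠ Q := fun e => hPne (eq_bot_iff.2 fun x hx => hPQ1.le ⟨hx, Subgroup.mem_centralizer_iff.2
    fun q hq => (Subgroup.mem_centralizer_iff.1 (e.ge hq).2 x hx).symm⟩)
  have hQC : Nat.card Q = 2 ^ (2 * n) * (a * Nat.card C0) := by rw [← hidxC, ha, hcC, hcQ0]
  obtain ⟨ha2, hb1⟩ : a = 2 ∧ b = 1 := by
    rcases Nat.lt_or_ge a 2 with ha' | ha'
    · exfalso
      have ha1 : a = 1 := by omega
      rw [ha1, one_pow, one_mul] at heq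
      refine hPne' (Subgroup.eq_of_le_of_card_ge inf_le_left ?_)
      rw [hQC, ha1, one_mul, heq, hb]
      exact hcP.le
    · have h1 : 2 ^ 2 ^ n * b ≤ 2 ^ (2 * n) := by
        rw [heq]
        exact Nat.mul_le_mul_right _ (Nat.pow_le_pow_left ha' _)
      have h2 : 2 ^ n ≤ 2 * n := (Nat.pow_le_pow_iff_right one_lt_two).1
        (le_trans (Nat.le_mul_of_pos_right _ hbpos) h1)
      have hn2 : n ≤ 2 := by
        by_contra hn3
        have h3 : ∀ m, 3 ≤ m → 2 * m < 2 ^ m := by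
          intro m hm
          induction m, hm using Nat.le_induction with
          | base => norm_num
          | succ k hk ih => rw [pow_succ]; omega
        exact absurd h2 (not_le.2 (h3 n (by omega)))
      have hN : 2 ^ n = 2 * n := by interval_cases n <;> norm_num
      rw [hN] at h1
      have hb1 : b = 1 := by
        by_contra hb1
        have : 2 ^ (2 * n) * 2 ≤ 2 ^ (2 * n) * b := Nat.mul_le_mul_left _ (by omega)
        have := Nat.two_pow_pos (2 * n)
        omega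
      rw [hN, hb1, mul_one] at heq
      exact ⟨(Nat.pow_left_injective (by omega) heq).symm, hb1⟩
  have hidxP : CP.relIndex Q = 2 ^ (2 * n + 1) := by
    refine Nat.eq_of_mul_eq_mul_right (Nat.card_pos (α := CP)) ?_
    rw [hmul CP Q inf_le_left, hQC, ← hcP, ← hb, hb1, ha2, one_mul, pow_succ]
    ring
  -- the centre of `C_Q(P)`
  have horth : CP ⊓ Subgroup.centralizer (CP : Set X) = Zq := by
    refine le_antisymm (fun v hv => ?_) fun v hv => ⟨⟨hv.1, Subgroup.mem_centralizer_iff.2 fun x hx =>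
      Subgroup.mem_centralizer_iff.1 (hZqG hv) x (hPG hx)⟩, Subgroup.mem_centralizer_iff.2 fun x hx =>
      Subgroup.mem_centralizer_iff.1 hv.2 x hx.1⟩
    refine ⟨hv.1.1, Subgroup.mem_centralizer_iff.2 fun q hq => ?_⟩
    obtain ⟨u, hu, d, hd, rfl⟩ := CfsgLib.coprime_decomp hPQ
      (Nat.Coprime.coprime_dvd_left (Subgroup.card_dvd_of_le (le_sup_left : P ≤ P ⊔ R)) hcopPR)
      (Or.inl inferInstance) hq
    have hle : ⁅Q, P⁆ ≤ Subgroup.centralizer ({v} : Set X) := by
      rw [Subgroup.commutator_le]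
      intro y hy x hx
      rw [Subgroup.mem_centralizer_singleton_iff]
      have hxq : x * y⁻¹ * x⁻¹ ∈ Q := (Subgroup.mem_normalizer_iff.1 (hPQ hx) _).1 (Q.inv_mem hy)
      have hxv : x * v * x⁻¹ = v := by
        rw [Subgroup.mem_centralizer_iff.1 hv.1.2 x hx, mul_inv_cancel_right]
      set w := ⁅v, y⁻¹⁆ with hw
      have hwZ : w ∈ Zq := hclass v hv.1.1 _ (Q.inv_mem hy)
      have e1 : v * (x * y⁻¹ * x⁻¹) * v⁻¹ = w * (x * y⁻¹ * x⁻¹) := by
        have hxw : x * w = w * x := Subgroup.mem_centralizer_iff.1 (hZqG hwZ) x (hPG hx)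
        calc v * (x * y⁻¹ * x⁻¹) * v⁻¹ = (x * v * x⁻¹) * (x * y⁻¹ * x⁻¹) * (x * v * x⁻¹)⁻¹ := by rw [hxv]
          _ = (x * w) * (y⁻¹ * x⁻¹) := by rw [hw, commutatorElement_def]; group
          _ = w * (x * y⁻¹ * x⁻¹) := by rw [hxw]; group
      have e2 : v * y * v⁻¹ = y * w⁻¹ := by rw [hw, commutatorElement_def]; group
      refine (mul_inv_eq_iff_eq_mul.1 ?_).symm
      calc v * ⁅y, x⁆ * v⁻¹ = (v * y * v⁻¹) * (v * (x * y⁻¹ * x⁻¹) * v⁻¹) := by
            simp only [commutatorElement_def]; group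
        _ = (y * w⁻¹) * (w * (x * y⁻¹ * x⁻¹)) := by rw [e1, e2]
        _ = ⁅y, x⁆ := by simp only [commutatorElement_def]; group
    have h1 : Commute u v := Subgroup.mem_centralizer_singleton_iff.1 (hle hu)
    have h2 : Commute d v := Subgroup.mem_centralizer_iff.1 hv.2 d hd
    exact (h1.mul_left h2).eq
  obtain ⟨d1, hd1⟩ := central_index_square ρ h.inj h.two_cast hQ2
    (fun a ha b hb => (hclass a ha b hb).2) fun z hz hz' => hscal z ⟨hz, hz'⟩
  obtain ⟨d2, hd2⟩ := central_index_square ρ h.inj h.two_cast (hQ2.to_le (inf_le_left : CP ≤ Q))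
    (fun a ha b hb => Subgroup.mem_centralizer_iff.2 fun x hx =>
      Subgroup.mem_centralizer_iff.1 (hclass a ha.1 b hb.1).2 x hx.1)
    fun z hz hz' => hscal z (horth.le ⟨hz, hz'⟩)
  rw [← Subgroup.inf_relIndex_left CP, horth] at hd2
  rw [← Subgroup.inf_relIndex_left Q, ← hZq] at hd1
  have hm := Subgroup.relIndex_mul_relIndex Zq CP Q (horth.ge.trans inf_le_left) inf_le_left
  rw [hd1, hd2, hidxP] at hm
  have hd2ne : d2 ≠ 0 := fun e => by
    rw [e, mul_zero] at hd2
    exact Subgroup.index_ne_zero_of_finite hd2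
  have hd1ne : d1 ≠ 0 := fun e => by
    rw [e, mul_zero] at hd1
    exact Subgroup.index_ne_zero_of_finite hd1
  have hf := congrArg (fun m => m.factorization 2) hm
  rw [Nat.factorization_mul (Nat.mul_ne_zero hd2ne hd2ne) (by positivity), Nat.factorization_mul hd2ne hd2ne,
    Nat.factorization_mul hd1ne hd1ne, Nat.Prime.factorization_pow Nat.prime_two] at hf
  simp only [Finsupp.add_apply, Finsupp.single_eq_same] at hf
  omega

end Counter

end CfsgLib.FlavellA
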