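import Cfsg.Agent.Lib.FlavellA.Radical
import Cfsg.Agent.Lib.FlavellA.End
import Cfsg.Agent.Lib.CharTheory.Burnside

/-!
LEMMA A: a coprime pair with a faithful module without fixed points for `R` has `[G, R]` a `p`-group extended by a
2-group.

Blueprint: `blueprint/FlavellA.md`, section 1.
-/

set_option autoImplicit false
set_option linter.unusedSectionVars false
set_option linter.style.haveILetI false

namespace CfsgLib.FlavellA

open scoped commutatorElement
open Cfsg (pCore pCoreOf)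

universe u v w

variable {X : Type u} [Group X]

namespace Counter

variable [Finite X] {K : Type v} [Field K] [IsAlgClosed K] {W : Type w} [AddCommGroup W] [Module K W]
  [FiniteDimensional K W] {G R : Subgroup X} {ρ : X →* Module.End K W} {p r : ℕ} [hp : Fact p.Prime] [CharP K p]
  (h : Counter G R ρ p r)
include h

theorem R_le_cent_comm {N : Subgroup X} (hN : N ≤ G) (hne : N ≠ G) (hGN : G ≤ Subgroup.normalizer (N : Set X))
    (hRN : R ≤ Subgroup.normalizer (N : Set X)) : N ≤ Subgroup.centralizer (R : Set X) := by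
  rw [← Subgroup.commutator_eq_bot_iff_le_centralizer,
    ← CfsgLib.coprime_commutator_commutator hRN (h.cop_le hN) (Or.inl h.R_solvable),
    Subgroup.commutator_eq_bot_iff_le_centralizer]
  exact (h.commutator_le_O2 hN hne hGN hRN).trans h.O2_centralized

theorem central_of_normal {N : Subgroup X} (hN : N ≤ G) (hne : N ≠ G) (hGN : G ≤ Subgroup.normalizer (N : Set X))
    (hRN : R ≤ Subgroup.normalizer (N : Set X)) : N ≤ Subgroup.centralizer (G : Set X) :=
  h.central_of_fixed hGN (h.R_le_cent_comm hN hne hGN hRN)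

theorem G_ne_bot : G ≠ ⊥ := fun e => h.bad (pTwo_of_pgroup (e ▸ IsPGroup.of_bot))

theorem not_qgroup {q : ℕ} (hq : q.Prime) : ¬ IsPGroup q G := by
  intro hG
  by_cases hq2 : q = 2
  · exact h.G_not_two (hq2 ▸ hG)
  by_cases hqp : q = p
  · exact h.bad (pTwo_of_pgroup (hqp ▸ hG))
  refine h.G_ne_bot ?_
  rw [← h.gen, Subgroup.commutator_eq_bot_iff_le_centralizer]
  exact h.cent hq hqp le_rfl hG (fun e => absurd e hq2) h.normG

theorem perfect : ⁅G, G⁆ = G := by
  classical
  by_contra hne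
  have hle : ⁅G, G⁆ ≤ G := CfsgLib.commutator_le_of_le_normalizer Subgroup.le_normalizer
  have hRn : R ≤ Subgroup.normalizer ((⁅G, G⁆ : Subgroup X) : Set X) := fun σ hσ =>
    CfsgLib.Comp.mem_normalizer_of_maps fun x hx => by
      have hmap : ⁅G, G⁆.map (MulAut.conj σ).toMonoidHom ≤ ⁅G, G⁆ := by
        rw [Subgroup.map_commutator]
        refine Subgroup.commutator_mono ?_ ?_ <;>
        · rintro _ ⟨y, hy, rfl⟩
          exact (Subgroup.mem_normalizer_iff.1 (h.normG hσ) y).1 hy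
      exact hmap ⟨x, hx, rfl⟩
  have hcen := h.central_of_normal hle hne (CfsgLib.left_le_normalizer_commutator G G) hRn
  have hsub : commutator G ≤ Subgroup.center G := by
    rw [commutator_def, Subgroup.commutator_le]
    intro a _ b _
    rw [Subgroup.mem_center_iff]
    intro c
    exact Subtype.ext (Subgroup.mem_centralizer_iff.1 (hcen (Subgroup.commutator_mem_commutator a.2 b.2)) c c.2)
  haveI : Group.IsNilpotent G := by
    haveI : Group.IsNilpotent (G ⧸ Subgroup.center G) := by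
      letI : CommGroup (G ⧸ Subgroup.center G) :=
        { mul_comm := (Subgroup.Normal.quotient_commutative_iff_commutator_le.2 hsub).1.comm }
      infer_instance
    exact Group.of_quotient_center_nilpotent inferInstance
  refine h.G_not_two ?_
  obtain ⟨P⟩ : Nonempty (Sylow p G) := inferInstance
  haveI : (P : Subgroup G).Normal :=
    ((Group.isNilpotent_of_finite_tfae (G := G)).out 0 3 rfl rfl).1 inferInstance p inferInstance P
  haveI : (P : Subgroup G).Characteristic := P.characteristic_of_normal inferInstance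
  have hP : (P : Subgroup G).map G.subtype = ⊥ := h.no_p_normal (P.2.map _)
    (CfsgLib.le_normalizer_map_characteristic Subgroup.le_normalizer (P : Subgroup G)).1
    (CfsgLib.le_normalizer_map_characteristic h.normG (P : Subgroup G)).1
  rw [← h.gen]
  refine commutator_pgroup h.normG (h.cop_le le_rfl) h.R_solvable Nat.prime_two fun q hq hq2 U hU hUq hRU => ?_
  by_cases hqp : q = p
  · subst hqp
    haveI := Fact.mk hq
    obtain ⟨P', hP'⟩ := (hUq.comap_subtype (K := G)).exists_le_sylow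
    haveI := Sylow.unique_of_normal P inferInstance
    intro x hx
    have h1 : x ∈ (P : Subgroup G).map G.subtype :=
      ⟨⟨x, hU hx⟩, (Subsingleton.elim P' P) ▸ hP' hx, rfl⟩
    rw [hP, Subgroup.mem_bot] at h1
    rw [h1]
    exact one_mem _
  · exact h.cent hq hqp hU hUq (fun e => absurd e hq2) hRU

theorem zentr_normal : G ≤ Subgroup.normalizer (zentr G : Set X) ∧ R ≤ Subgroup.normalizer (zentr G : Set X) := by
  refine ⟨fun g hg => CfsgLib.Comp.mem_normalizer_of_maps fun z hz => ?_,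
    fun σ hσ => CfsgLib.Comp.mem_normalizer_of_maps fun z hz => ?_⟩
  · rw [conj_mem_zentr hg hz]; exact hz
  · refine ⟨(Subgroup.mem_normalizer_iff.1 (h.normG hσ) z).1 hz.1, Subgroup.mem_centralizer_iff.2 fun y hy => ?_⟩
    have hy' : σ⁻¹ * y * σ ∈ G := (Subgroup.mem_normalizer_iff''.1 (h.normG hσ) y).1 hy
    calc y * (σ * z * σ⁻¹) = σ * ((σ⁻¹ * y * σ) * z) * σ⁻¹ := by group
      _ = σ * z * σ⁻¹ * y := by rw [Subgroup.mem_centralizer_iff.1 hz.2 _ hy']; group

theorem zentr_ne : zentr G ≠ G := by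
  intro e
  refine h.G_ne_bot ?_
  rw [← h.perfect, Subgroup.commutator_eq_bot_iff_le_centralizer]
  exact e.ge.trans inf_le_right

theorem centR : zentr G ≤ Subgroup.centralizer (R : Set X) :=
  h.R_le_cent_comm inf_le_left h.zentr_ne h.zentr_normal.1 h.zentr_normal.2

theorem centP {P : Subgroup X} (hP : P ≤ zentr G) (hPp : IsPGroup p P) : P = ⊥ :=
  h.no_p_normal hPp
    (fun g hg => CfsgLib.Comp.mem_normalizer_of_maps fun z hz => by rw [conj_mem_zentr hg (hP hz)]; exact hz)
    (fun σ hσ => CfsgLib.Comp.mem_normalizer_of_maps fun z hz => by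
      rw [Subgroup.mem_centralizer_iff.1 (h.centR (hP hz)) σ hσ, mul_inv_cancel_right]; exact hz)

theorem simple : ∀ N ≤ G, G ≤ Subgroup.normalizer (N : Set X) →
    N ≤ Subgroup.centralizer (G : Set X) ∨ N = G := by
  classical
  intro N0 hN0 hGN0
  by_cases hcen : N0 ≤ Subgroup.centralizer (G : Set X)
  · exact Or.inl hcen
  refine Or.inr ?_
  set Z := zentr G with hZ
  obtain ⟨hGZ, hRZ⟩ := h.zentr_normal
  have hN0Z : G ≤ Subgroup.normalizer ((N0 ⊔ Z : Subgroup X) : Set X) :=
    le_trans (le_inf hGN0 hGZ) (Subgroup.normalizer_inf_normalizer_le_normalizer_sup N0 Z)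
  obtain ⟨N, ⟨hZN, hNle, hNne, hGN⟩, hmin⟩ := (Set.toFinite {N : Subgroup X | Z ≤ N ∧ N ≤ N0 ⊔ Z ∧ N ≠ Z ∧
      G ≤ Subgroup.normalizer (N : Set X)}).exists_minimal
    ⟨N0 ⊔ Z, le_sup_right, le_rfl, fun e => hcen ((le_sup_left.trans e.le).trans inf_le_right), hN0Z⟩
  have hNG : N ≤ G := hNle.trans (sup_le hN0 inf_le_left)
  suffices hN : N = G by
    refine le_antisymm hN0 ?_
    have hle : G ≤ N0 ⊔ Z := hN.ge.trans hNle
    rw [← h.perfect, Subgroup.commutator_le]
    intro x hx y hy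
    obtain ⟨x1, hx1, c, hc, rfl⟩ := CfsgLib.mem_sup_of_le_normalizer ((inf_le_left : Z ≤ G).trans hGN0) (hle hx)
    obtain ⟨y1, hy1, d, hd, rfl⟩ := CfsgLib.mem_sup_of_le_normalizer ((inf_le_left : Z ≤ G).trans hGN0) (hle hy)
    have e : ⁅x1 * c, y1 * d⁆ = ⁅x1, y1⁆ := by
      have hcy : Commute c (y1 * d) := (mem_zentr_comm hc hy).symm
      have hdx : Commute d x1⁻¹ := (mem_zentr_comm hd (inv_mem (hN0 hx1))).symm
      calc ⁅x1 * c, y1 * d⁆ = x1 * (c * (y1 * d)) * c⁻¹ * x1⁻¹ * (y1 * d)⁻¹ := by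
            simp only [commutatorElement_def]; group
        _ = x1 * y1 * (d * x1⁻¹) * d⁻¹ * y1⁻¹ := by rw [hcy.eq]; group
        _ = ⁅x1, y1⁆ := by rw [hdx.eq]; simp only [commutatorElement_def]; group
    rw [e, commutatorElement_def]
    exact mul_mem (mul_mem (mul_mem hx1 hy1) (inv_mem hx1)) (inv_mem hy1)
  by_contra hNG'
  have hGN' : G ≤ Subgroup.normalizer ((⁅N, N⁆ ⊔ Z : Subgroup X) : Set X) := by
    refine le_trans (le_inf (fun g hg => CfsgLib.Comp.mem_normalizer_of_maps fun x hx => ?_) hGZ)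
      (Subgroup.normalizer_inf_normalizer_le_normalizer_sup _ Z)
    have hmap : ⁅N, N⁆.map (MulAut.conj g).toMonoidHom ≤ ⁅N, N⁆ := by
      rw [Subgroup.map_commutator]
      refine Subgroup.commutator_mono ?_ ?_ <;>
      · rintro _ ⟨y, hy, rfl⟩
        exact (Subgroup.mem_normalizer_iff.1 (hGN hg) y).1 hy
    exact hmap ⟨x, hx, rfl⟩
  have hN'N : ⁅N, N⁆ ⊔ Z ≤ N := sup_le (CfsgLib.commutator_le_of_le_normalizer Subgroup.le_normalizer) hZN
  have hNN : ⁅N, N⁆ ⊔ Z = N := by
    by_contra hne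
    have hab : ⁅N, N⁆ ≤ Z := by
      by_contra hab
      exact hne (le_antisymm hN'N (hmin
        ⟨le_sup_right, hN'N.trans hNle, fun e => hab (le_sup_left.trans e.le), hGN'⟩ hN'N))
    -- then `N` is nilpotent, hence central
    haveI : (N.subgroupOf G).Normal := (Subgroup.normal_subgroupOf_iff_le_normalizer hNG).2 hGN
    haveI : Group.IsNilpotent (N.subgroupOf G) := by
      set H := N.subgroupOf G
      have hsub : commutator H ≤ Subgroup.center H := by
        rw [commutator_def, Subgroup.commutator_le]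
        intro a _ b _
        rw [Subgroup.mem_center_iff]
        intro c
        refine Subtype.ext (Subtype.ext ?_)
        exact mem_zentr_comm (hab (Subgroup.commutator_mem_commutator (Subgroup.mem_subgroupOf.1 a.2)
          (Subgroup.mem_subgroupOf.1 b.2))) (hNG (Subgroup.mem_subgroupOf.1 c.2))
      haveI : Group.IsNilpotent (H ⧸ Subgroup.center H) := by
        letI : CommGroup (H ⧸ Subgroup.center H) :=
          { mul_comm := (Subgroup.Normal.quotient_commutative_iff_commutator_le.2 hsub).1.comm }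
        infer_instance
      exact Group.of_quotient_center_nilpotent inferInstance
    have hle := CfsgLib.nilpotent_le_iSup_pCore (N.subgroupOf G) inferInstance
    have hle2 : (⨆ q : Nat.Primes, pCore (q : ℕ) G) ≤ (Subgroup.centralizer (G : Set X)).subgroupOf G := by
      refine iSup_le fun q => Subgroup.map_le_iff_le_comap.1 ?_
      refine h.central_of_normal (Subgroup.map_subtype_le _) (fun e => ?_)
        (CfsgLib.le_normalizer_map_characteristic Subgroup.le_normalizer (pCore (q : ℕ) G)).1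
        (CfsgLib.le_normalizer_map_characteristic h.normG (pCore (q : ℕ) G)).1
      exact h.not_qgroup q.2 (e ▸ (CfsgLib.isPGroup_pCore (q : ℕ)).map G.subtype)
    refine hNne (le_antisymm (fun x hx => ⟨hNG hx, ?_⟩) hZN)
    exact hle2 (hle (show (⟨x, hNG hx⟩ : G) ∈ N.subgroupOf G from hx))
  -- the translates of `N` by `R`
  set Nσ : X → Subgroup X := fun σ => N.map (MulAut.conj σ).toMonoidHom with hNσ
  have hNσG : ∀ σ ∈ R, Nσ σ ≤ G := by
    rintro σ hσ _ ⟨y, hy, rfl⟩
    exact (Subgroup.mem_normalizer_iff.1 (h.normG hσ) y).1 (hNG hy)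
  have hNσn : ∀ σ ∈ R, G ≤ Subgroup.normalizer (Nσ σ : Set X) := fun σ hσ g hg =>
    CfsgLib.Comp.mem_normalizer_of_maps fun x hx => by
      obtain ⟨y, hy, rfl⟩ := hx
      have hg' : σ⁻¹ * g * σ ∈ G := (Subgroup.mem_normalizer_iff''.1 (h.normG hσ) g).1 hg
      exact ⟨(σ⁻¹ * g * σ) * y * (σ⁻¹ * g * σ)⁻¹, (Subgroup.mem_normalizer_iff.1 (hGN hg') y).1 hy, by
        show σ * ((σ⁻¹ * g * σ) * y * (σ⁻¹ * g * σ)⁻¹) * σ⁻¹ = g * (σ * y * σ⁻¹) * g⁻¹
        group⟩
  have hNσZ : ∀ σ ∈ R, Z ≤ Nσ σ := fun σ hσ z hz => ⟨z, hZN hz, by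
    show σ * z * σ⁻¹ = z
    rw [Subgroup.mem_centralizer_iff.1 (h.centR hz) σ hσ, mul_inv_cancel_right]⟩
  have hint : ∀ σ ∈ R, Nσ σ ≠ N → N ⊓ Nσ σ = Z := by
    intro σ hσ hne
    by_contra hne'
    have hle := hmin ⟨le_inf hZN (hNσZ σ hσ), inf_le_left.trans hNle, hne', fun g hg =>
      Subgroup.mem_normalizer_iff.2 fun x =>
        ⟨fun hx => ⟨(Subgroup.mem_normalizer_iff.1 (hGN hg) x).1 hx.1,
            (Subgroup.mem_normalizer_iff.1 (hNσn σ hσ hg) x).1 hx.2⟩,
          fun hx => ⟨(Subgroup.mem_normalizer_iff.1 (hGN hg) x).2 hx.1,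
            (Subgroup.mem_normalizer_iff.1 (hNσn σ hσ hg) x).2 hx.2⟩⟩⟩ inf_le_left
    exact hne (Subgroup.eq_of_le_of_card_ge (hle.trans inf_le_right)
      (le_of_eq (Subgroup.card_map_of_injective (MulAut.conj σ).injective))).symm
  -- distinct translates commute
  have hcomm : ∀ σ ∈ R, Nσ σ ≠ N → ∀ a ∈ N, ∀ b ∈ Nσ σ, a * b = b * a := by
    intro σ hσ hne
    have hN1 : ⁅N, Nσ σ⁆ ≤ Z := by
      rw [← hint σ hσ hne, Subgroup.commutator_le]
      intro a ha b hb
      refine ⟨?_, ?_⟩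
      · rw [show ⁅a, b⁆ = a * (b * a⁻¹ * b⁻¹) by simp only [commutatorElement_def]; group]
        exact N.mul_mem ha ((Subgroup.mem_normalizer_iff.1 (hGN (hNσG σ hσ hb)) _).1 (N.inv_mem ha))
      · rw [show ⁅a, b⁆ = (a * b * a⁻¹) * b⁻¹ by simp only [commutatorElement_def]]
        exact (Nσ σ).mul_mem ((Subgroup.mem_normalizer_iff.1 (hNσn σ hσ (hNG ha)) _).1 hb) ((Nσ σ).inv_mem hb)
    have hZG : ⁅Z, N⁆ = ⊥ := by
      rw [Subgroup.commutator_eq_bot_iff_le_centralizer]
      intro z hz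
      exact Subgroup.mem_centralizer_iff.2 fun y hy => Subgroup.mem_centralizer_iff.1 hz.2 y (hNG hy)
    have h2 : ⁅⁅N, N⁆, Nσ σ⁆ = ⊥ := Subgroup.commutator_commutator_eq_bot_of_rotate
      (eq_bot_iff.2 ((Subgroup.commutator_mono hN1 le_rfl).trans hZG.le))
      (eq_bot_iff.2 ((Subgroup.commutator_mono ((Subgroup.commutator_comm _ _).le.trans hN1) le_rfl).trans hZG.le))
    intro a ha b hb
    have hle : ⁅N, N⁆ ⊔ Z ≤ Subgroup.centralizer (Nσ σ : Set X) := sup_le
      (Subgroup.commutator_eq_bot_iff_le_centralizer.1 h2)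
      (fun z hz => Subgroup.mem_centralizer_iff.2 fun y hy => Subgroup.mem_centralizer_iff.1 hz.2 y (hNσG σ hσ hy))
    exact (Subgroup.mem_centralizer_iff.1 (hle (hNN.ge ha)) b hb).symm
  by_cases hinv : ∀ σ ∈ R, Nσ σ = N
  · have hRN : R ≤ Subgroup.normalizer (N : Set X) := fun σ hσ =>
      CfsgLib.Comp.mem_normalizer_of_maps fun x hx => (hinv σ hσ).le ⟨x, hx, rfl⟩
    exact hNne (le_antisymm (le_inf hNG (h.central_of_normal hNG hNG' hGN hRN)) hZN)
  push Not at hinv
  obtain ⟨σ0, hσ0, hσ0N⟩ := hinv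
  have hreg : ∀ σ ∈ R, σ ≠ 1 → Nσ σ ≠ N := by
    intro σ hσ hσ1 he
    apply hσ0N
    have hcyc : σ0 ∈ Subgroup.zpowers σ := by
      have : Subgroup.zpowers σ = R := by
        refine Subgroup.eq_of_le_of_card_ge (Subgroup.zpowers_le.2 hσ) ?_
        haveI := Fact.mk h.rprime
        rw [h.cardR, Nat.card_zpowers, orderOf_eq_prime (by
          have := pow_card_eq_one' (x := (⟨σ, hσ⟩ : R))
          rw [h.cardR] at this
          exact congrArg Subtype.val this) hσ1]
      exact this.ge hσ0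
    have hnorm : σ ∈ Subgroup.normalizer (N : Set X) :=
      CfsgLib.Comp.mem_normalizer_of_maps fun x hx => he.le ⟨x, hx, rfl⟩
    have h0 := (Subgroup.zpowers_le.2 hnorm) hcyc
    refine le_antisymm ?_ fun x hx => ⟨σ0⁻¹ * x * σ0, (Subgroup.mem_normalizer_iff''.1 h0 x).1 hx, by
      show σ0 * (σ0⁻¹ * x * σ0) * σ0⁻¹ = x
      group⟩
    rintro _ ⟨y, hy, rfl⟩
    exact (Subgroup.mem_normalizer_iff.1 h0 y).1 hy
  -- a `q`-element of `N` outside `Z`
  haveI : (Z.subgroupOf N).Normal := (Subgroup.normal_subgroupOf_iff_le_normalizer hZN).2 (hNG.trans hGZ)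
  obtain ⟨q, hq, hq2, hqp, hqd⟩ : ∃ q : ℕ, q.Prime ∧ q ≠ 2 ∧ q ≠ p ∧ q ∣ Nat.card (N ⧸ Z.subgroupOf N) := by
    by_contra hno
    push Not at hno
    set n := Nat.card (N ⧸ Z.subgroupOf N) with hn
    have hn0 : n ≠ 0 := Nat.card_pos.ne'
    have hp2 := h.fermat.1
    have hcard : n = 2 ^ n.factorization 2 * p ^ n.factorization p := by
      refine Nat.eq_of_factorization_eq hn0 (mul_ne_zero (by positivity) (pow_ne_zero _ hp.out.ne_zero)) fun q => ?_
      rw [Nat.factorization_mul (by positivity) (pow_ne_zero _ hp.out.ne_zero),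
        Nat.Prime.factorization_pow Nat.prime_two, Nat.Prime.factorization_pow hp.out, Finsupp.add_apply]
      by_cases hq : q.Prime
      · by_cases hq2 : q = 2
        · subst hq2
          rw [Finsupp.single_eq_same, Finsupp.single_eq_of_ne (Ne.symm hp2)]
          omega
        · by_cases hqp : q = p
          · subst hqp
            rw [Finsupp.single_eq_same, Finsupp.single_eq_of_ne hp2]
            omega
          · rw [Finsupp.single_eq_of_ne hq2, Finsupp.single_eq_of_ne hqp,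
              Nat.factorization_eq_zero_of_not_dvd (hno q hq hq2 hqp), add_zero]
      · rw [Nat.factorization_eq_zero_of_not_prime n hq, Finsupp.single_eq_of_ne (fun e => hq (by rw [e]; exact Nat.prime_two)),
          Finsupp.single_eq_of_ne (fun e => hq (by rw [e]; exact hp.out)), add_zero]
    haveI hsol := CfsgLib.CharTheory.isSolvable_of_card_two_primes Nat.prime_two hp.out hcard
    haveI : Nontrivial (N ⧸ Z.subgroupOf N) := QuotientGroup.nontrivial_iff.2 fun e =>
      hNne (le_antisymm (Subgroup.subgroupOf_eq_top.1 e) hZN)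
    apply (Group.IsSolvable.commutator_lt_top_of_nontrivial (N ⧸ Z.subgroupOf N)).ne
    refine eq_top_iff.2 fun y _ => ?_
    obtain ⟨⟨x, hx⟩, rfl⟩ := QuotientGroup.mk'_surjective _ y
    have hxN : x ∈ ⁅N, N⁆ ⊔ Z := hNN.ge hx
    obtain ⟨c, hc, z, hz, rfl⟩ := CfsgLib.mem_sup_of_le_normalizer
      (hZN.trans (CfsgLib.left_le_normalizer_commutator N N)) hxN
    have hcN : c ∈ N := CfsgLib.commutator_le_of_le_normalizer Subgroup.le_normalizer hc
    have hc' : (⟨c, hcN⟩ : N) ∈ commutator N := by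
      have h1 : c ∈ (commutator N).map N.subtype := by
        rwa [commutator_def, Subgroup.map_commutator, ← MonoidHom.range_eq_map, Subgroup.range_subtype]
      obtain ⟨y, hy, e⟩ := h1
      rwa [← show y = (⟨c, hcN⟩ : N) from Subtype.ext e]
    have e : QuotientGroup.mk' (Z.subgroupOf N) ⟨c * z, hx⟩ = QuotientGroup.mk' (Z.subgroupOf N) ⟨c, hcN⟩ := by
      rw [QuotientGroup.mk'_apply, QuotientGroup.mk'_apply, QuotientGroup.eq, Subgroup.mem_subgroupOf]
      show (c * z)⁻¹ * c ∈ Z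
      rw [mul_inv_rev, inv_mul_cancel_right]
      exact Z.inv_mem hz
    rw [e, commutator_def]
    have h2 := Subgroup.mem_map_of_mem (QuotientGroup.mk' (Z.subgroupOf N)) hc'
    rwa [commutator_def, Subgroup.map_commutator,
      Subgroup.map_top_of_surjective _ (QuotientGroup.mk'_surjective _)] at h2
  haveI := Fact.mk hq
  obtain ⟨Qs⟩ : Nonempty (Sylow q N) := inferInstance
  obtain ⟨x, hxQ, hxZ⟩ : ∃ x : N, x ∈ (Qs : Subgroup N) ∧ (x : X) ∉ Z := by
    by_contra hall
    push Not at hall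
    have hle : (Qs : Subgroup N) ≤ Z.subgroupOf N := fun y hy => Subgroup.mem_subgroupOf.2 (hall y hy)
    have h1 := Qs.not_dvd_index
    exact h1 ((Subgroup.index_eq_card (Z.subgroupOf N) ▸ hqd).trans (Subgroup.index_dvd_of_le hle))
  obtain ⟨e0, he0⟩ := Qs.2 ⟨x, hxQ⟩
  have hxe : (x : X) ^ q ^ e0 = 1 := congrArg (fun y : (Qs : Subgroup N) => ((y : N) : X)) he0
  -- the translates of `x` generate an invariant abelian group
  set T : Set X := {y | ∃ σ ∈ R, y = σ * (x : X) * σ⁻¹} with hT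
  have hTcomm : ∀ a ∈ T, ∀ b ∈ T, a * b = b * a := by
    rintro _ ⟨σ, hσ, rfl⟩ _ ⟨τ, hτ, rfl⟩
    by_cases he : σ⁻¹ * τ = 1
    · rw [inv_mul_eq_one.1 he]
    have hmem : σ⁻¹ * τ * (x : X) * (σ⁻¹ * τ)⁻¹ ∈ Nσ (σ⁻¹ * τ) := ⟨x, x.2, rfl⟩
    have := hcomm _ (mul_mem (inv_mem hσ) hτ) (hreg _ (mul_mem (inv_mem hσ) hτ) he) x x.2 _ hmem
    calc σ * (x : X) * σ⁻¹ * (τ * x * τ⁻¹) = σ * ((x : X) * (σ⁻¹ * τ * x * (σ⁻¹ * τ)⁻¹)) * σ⁻¹ := by group
      _ = σ * ((σ⁻¹ * τ * x * (σ⁻¹ * τ)⁻¹) * x) * σ⁻¹ := by rw [this]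
      _ = τ * x * τ⁻¹ * (σ * x * σ⁻¹) := by group
  set A := Subgroup.closure T with hA
  haveI := Subgroup.isMulCommutative_closure hTcomm
  have hAG : A ≤ G := (Subgroup.closure_le _).2 fun y ⟨σ, hσ, e⟩ =>
    e ▸ (Subgroup.mem_normalizer_iff.1 (h.normG hσ) _).1 (hNG x.2)
  have hAq : IsPGroup q A := by
    rintro ⟨y, hy⟩
    refine ⟨e0, Subtype.ext ?_⟩
    show y ^ q ^ e0 = 1
    have hpow : ∀ (v : X) (hv : v ∈ A), v ^ q ^ e0 = 1 := by
      intro v hv
      induction hv using Subgroup.closure_induction with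
      | mem v hv =>
        obtain ⟨σ, -, rfl⟩ := hv
        rw [conj_pow, hxe, mul_one, mul_inv_cancel]
      | one => exact one_pow _
      | mul a b ha hb iha ihb =>
        have hc : Commute a b := congrArg Subtype.val (mul_comm' (⟨a, ha⟩ : A) ⟨b, hb⟩)
        rw [hc.mul_pow, iha, ihb, one_mul]
      | inv a ha iha => rw [inv_pow, iha, inv_one]
    exact hpow y hy
  have hRA : R ≤ Subgroup.normalizer (A : Set X) := fun τ hτ => CfsgLib.Comp.mem_normalizer_of_maps fun v hv => by
    have hle : A.map (MulAut.conj τ).toMonoidHom ≤ A := by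
      rw [hA, MonoidHom.map_closure, Subgroup.closure_le]
      rintro _ ⟨_, ⟨σ, hσ, rfl⟩, rfl⟩
      exact Subgroup.subset_closure ⟨τ * σ, mul_mem hτ hσ, by
        show τ * (σ * (x : X) * σ⁻¹) * τ⁻¹ = τ * σ * x * (τ * σ)⁻¹
        group⟩
    exact hle ⟨v, hv, rfl⟩
  have hfix := h.cent hq hqp hAG hAq (fun e => absurd e hq2) hRA
  have hxA : (x : X) ∈ A := Subgroup.subset_closure ⟨1, one_mem R, by group⟩
  have hσ01 : σ0 ≠ 1 := fun e => hσ0N (by
    rw [e]
    refine le_antisymm ?_ fun y hy => ⟨y, hy, by simp⟩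
    rintro _ ⟨y, hy, rfl⟩
    simpa using hy)
  refine hxZ ((hint σ0 hσ0 (hreg σ0 hσ0 hσ01)).le ⟨x.2, x, x.2, ?_⟩)
  show σ0 * (x : X) * σ0⁻¹ = x
  rw [Subgroup.mem_centralizer_iff.1 (hfix hxA) σ0 hσ0, mul_inv_cancel_right]

/-- The minimal counterexample does not exist. -/
theorem false : False := by
  classical
  haveI : Fact (Nat.Prime 2) := ⟨Nat.prime_two⟩
  haveI := Fact.mk h.rprime
  obtain ⟨hp2, n, hn, hrn⟩ := h.fermat
  have hbot : R ≤ Subgroup.normalizer ((⊥ : Subgroup X) : Set X) := fun σ _ =>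
    Subgroup.mem_normalizer_iff.2 fun z => by simp
  obtain ⟨S1, -, hRS⟩ := CfsgLib.coprime_le_invariant_sylow h.normG (h.cop_le le_rfl) (Or.inl h.R_solvable) (p := 2)
    bot_le (IsPGroup.of_bot (G := X)) hbot
  set S := (S1 : Subgroup G).map G.subtype with hS
  have hSG : S ≤ G := Subgroup.map_subtype_le _
  have hS2 : IsPGroup 2 S := S1.2.map _
  set D := ⁅S, R⁆ with hD
  have hDS : D ≤ S := CfsgLib.commutator_le_of_le_normalizer hRS
  have hD2 : IsPGroup 2 D := hS2.to_le hDS
  have hRD : R ≤ Subgroup.normalizer (D : Set X) := CfsgLib.right_le_normalizer_commutator R S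
  have hgen : ⁅D, R⁆ = D := CfsgLib.coprime_commutator_commutator hRS (h.cop_le hSG) (Or.inl h.R_solvable)
  have hDne : D ≠ ⊥ := by
    intro e
    have hSC : S ≤ Subgroup.centralizer (R : Set X) := Subgroup.commutator_eq_bot_iff_le_centralizer.1 e
    refine h.bad ?_
    rw [← h.gen]
    refine pTwo_of_pgroup (commutator_pgroup h.normG (h.cop_le le_rfl) h.R_solvable hp.out
      fun q hq hqp U hU hUq hRU => ?_)
    by_cases hq2 : q = 2
    · subst hq2
      obtain ⟨U2, hUU2, hRU2⟩ := CfsgLib.coprime_le_invariant_sylow h.normG (h.cop_le le_rfl)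
        (Or.inl h.R_solvable) hU hUq hRU
      obtain ⟨c, hcR, hc⟩ := CfsgLib.coprime_invariant_sylow_conj h.normG (h.cop_le le_rfl) (Or.inl h.R_solvable)
        U2 S1 hRU2 hRS
      intro x hx
      obtain ⟨y, hy, rfl⟩ := hUU2 hx
      have hcS : (c : X) * (y : X) * (c : X)⁻¹ ∈ S := by
        refine ⟨c * y * c⁻¹, ?_, by simp⟩
        rw [← hc, SetLike.mem_coe, Sylow.pointwise_smul_def, Subgroup.mem_pointwise_smul_iff_inv_smul_mem]
        simp [mul_assoc]
        exact hy
      rw [Subgroup.mem_centralizer_iff]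
      intro σ hσ
      have e1 := Subgroup.mem_centralizer_iff.1 (hSC hcS) σ hσ
      have e2 := Subgroup.mem_centralizer_iff.1 hcR σ hσ
      show σ * (y : X) = (y : X) * σ
      calc σ * (y : X) = (c : X)⁻¹ * (((c : X) * σ) * y * (c : X)⁻¹) * c := by group
        _ = (c : X)⁻¹ * (σ * ((c : X) * y * (c : X)⁻¹)) * c := by rw [← e2]; group
        _ = (c : X)⁻¹ * ((c : X) * y * (c : X)⁻¹ * σ) * c := by rw [e1]
        _ = (y : X) * ((c : X)⁻¹ * σ * c) := by group
        _ = (y : X) * σ := by rw [show (c : X)⁻¹ * σ * c = σ by rw [mul_assoc, e2, inv_mul_cancel_left]]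
    · exact h.cent hq hqp hU hUq (fun e => absurd e hq2) hRU
  set Z := D ⊓ Subgroup.centralizer (R : Set X) with hZ
  set Zc := Z ⊓ Subgroup.centralizer (G : Set X) with hZc
  have hdata := dData_of_rep ρ h.inj (Zc := Zc) h.cardR hrn hn hRD hD2 hgen h.two_cast h.r_cast h.fixfree
    inf_le_left fun z hz => h.scalar (fun x hx => Subgroup.mem_centralizer_iff.1 hz.2 x hx)
      fun x hx => Subgroup.mem_centralizer_iff.1 hz.1.2 x hx
  have hset : Setup G R S D Z Zc p r n :=
    { data := hdata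
      pprime := hp.out
      p_two := hp2
      p_r := h.p_ne_r
      normG := h.normG
      cop := h.cop
      simple := h.simple
      perfect := h.perfect
      centR := h.centR
      centP := fun P hP hPp => h.centP hP hPp
      loc := fun M hM hne hRM => h.ih M hM hne hRM
      S_le := hSG
      S_two := hS2
      S_norm := hRS
      S_max := fun U hU hU2 => by
        obtain ⟨T, hT⟩ := (hU2.comap_subtype (K := G)).exists_le_sylow
        rw [hS, Subgroup.card_map_of_injective G.subtype_injective, Sylow.card_eq_multiplicity,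
          ← T.card_eq_multiplicity, ← Nat.card_congr (Subgroup.subgroupOfEquivOfLe hU).toEquiv]
        exact Subgroup.card_dvd_of_le hT
      D_eq := hD
      Zc_eq := hZc
      D_ne := hDne }
  exact hset.false

end Counter

end CfsgLib.FlavellA
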