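import Cfsg.Agent.Lib.FlavellA.DBuild
import Cfsg.Agent.Lib.HallHigmanB.Core
import Cfsg.Agent.Lib.Coprime

/-!
Elementary facts on a coprime pair `G`, `R` with a faithful module on which `R` fixes only zero, and the reduction
to an irreducible module.

Blueprint: `blueprint/FlavellA.md`, section 1.
-/

set_option autoImplicit false
set_option linter.unusedSectionVars false
set_option linter.style.haveILetI false

namespace CfsgLib.FlavellA

open scoped commutatorElement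
open CfsgLib.QGroupModule (conjAut)

universe u v w

/-- A `p`-group extended by a 2-group. -/
def PTwo {X : Type u} [Group X] (p : ℕ) (G : Subgroup X) : Prop :=
  ∃ Q ≤ G, IsPGroup p Q ∧ G ≤ Subgroup.normalizer (Q : Set X) ∧ ∀ x ∈ G, ∃ j, x ^ 2 ^ j ∈ Q

theorem pTwo_of_pgroup {X : Type u} [Group X] {p : ℕ} {G : Subgroup X} (h : IsPGroup p G) : PTwo p G :=
  ⟨G, le_rfl, h, Subgroup.le_normalizer, fun x hx => ⟨0, by rwa [pow_zero, pow_one]⟩⟩

theorem pTwo_of_two {X : Type u} [Group X] {p : ℕ} {G : Subgroup X} (h : IsPGroup 2 G) : PTwo p G :=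
  ⟨⊥, bot_le, IsPGroup.of_bot, fun g _ => Subgroup.mem_normalizer_iff.2 fun y => by simp, fun x hx => by
    obtain ⟨j, hj⟩ := h ⟨x, hx⟩
    exact ⟨j, congrArg Subtype.val hj⟩⟩

theorem pTwo_map {X : Type u} [Group X] {Y : Type u} [Group Y] {p : ℕ} {G : Subgroup X} (h : PTwo p G)
    (f : X →* Y) : PTwo p (G.map f) := by
  obtain ⟨Q, hQ, hQp, hn, hj⟩ := h
  refine ⟨Q.map f, Subgroup.map_mono hQ, hQp.map f, ?_, ?_⟩
  · exact (Subgroup.map_mono hn).trans (Subgroup.le_normalizer_map f)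
  · rintro _ ⟨x, hx, rfl⟩
    obtain ⟨j, hj⟩ := hj x hx
    exact ⟨j, _, hj, map_pow f x _⟩

/-- Combining two images with a `p`-group common kernel. -/
theorem pTwo_of_two_images {X Y₁ Y₂ : Type u} [Group X] [Group Y₁] [Group Y₂] {p : ℕ} [Fact p.Prime] {G : Subgroup X}
    (f₁ : X →* Y₁) (f₂ : X →* Y₂) (h₁ : PTwo p (G.map f₁)) (h₂ : PTwo p (G.map f₂))
    (hker : ∀ x ∈ G, f₁ x = 1 → f₂ x = 1 → ∃ i, x ^ p ^ i = 1) : PTwo p G := by
  obtain ⟨Q₁, -, hp₁, hn₁, hj₁⟩ := h₁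
  obtain ⟨Q₂, -, hp₂, hn₂, hj₂⟩ := h₂
  refine ⟨G ⊓ (Q₁.comap f₁ ⊓ Q₂.comap f₂), inf_le_left, ?_, ?_, ?_⟩
  · rintro ⟨x, hxG, hx₁, hx₂⟩
    obtain ⟨i, hi⟩ := hp₁ ⟨f₁ x, hx₁⟩
    obtain ⟨j, hj⟩ := hp₂ ⟨f₂ x, hx₂⟩
    have hi' : f₁ x ^ p ^ i = 1 := congrArg Subtype.val hi
    have hj' : f₂ x ^ p ^ j = 1 := congrArg Subtype.val hj
    obtain ⟨k, hk⟩ := hker (x ^ p ^ (i + j)) (G.pow_mem hxG _)
      (by rw [map_pow, pow_add, pow_mul, hi', one_pow]) (by rw [map_pow, pow_add, mul_comm, pow_mul, hj', one_pow])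
    refine ⟨i + j + k, Subtype.ext ?_⟩
    show x ^ p ^ (i + j + k) = 1
    rw [pow_add, pow_mul, hk]
  · intro g hg
    have h1 := hn₁ (Subgroup.mem_map_of_mem f₁ hg)
    have h2 := hn₂ (Subgroup.mem_map_of_mem f₂ hg)
    rw [Subgroup.mem_normalizer_iff]
    intro x
    have hG : x ∈ G ↔ g * x * g⁻¹ ∈ G := Subgroup.mem_normalizer_iff.1 (Subgroup.le_normalizer hg) x
    simp only [Subgroup.mem_inf, Subgroup.mem_comap, map_mul, map_inv]
    rw [← Subgroup.mem_normalizer_iff.1 h1, ← Subgroup.mem_normalizer_iff.1 h2, ← hG]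
  · intro x hx
    obtain ⟨i, hi⟩ := hj₁ _ (Subgroup.mem_map_of_mem f₁ hx)
    obtain ⟨j, hj⟩ := hj₂ _ (Subgroup.mem_map_of_mem f₂ hx)
    refine ⟨i + j, G.pow_mem hx _, ?_, ?_⟩
    · show f₁ (x ^ 2 ^ (i + j)) ∈ Q₁
      rw [map_pow, pow_add, pow_mul]
      exact Q₁.pow_mem hi _
    · show f₂ (x ^ 2 ^ (i + j)) ∈ Q₂
      rw [map_pow, pow_add, mul_comm, pow_mul]
      exact Q₂.pow_mem hj _

variable {X : Type u} [Group X] [Finite X] {K : Type v} [Field K] {W : Type w} [AddCommGroup W]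
  [Module K W] [FiniteDimensional K W]

/-- A `p`-group fixes a non-zero vector of every non-zero invariant subspace in characteristic `p`. -/
theorem exists_fixed_vector {p : ℕ} [Fact p.Prime] [CharP K p] (ρ : X →* Module.End K W) {P : Subgroup X}
    (hP : IsPGroup p P) {S : Submodule K W} (hS : ∀ x ∈ P, ∀ v ∈ S, ρ x v ∈ S) (hne : S ≠ ⊥) :
    ∃ v ∈ S, v ≠ 0 ∧ ∀ x ∈ P, ρ x v = v := by
  classical
  have hex : ∃ m, ∃ T : Submodule K W, T ≤ S ∧ T ≠ ⊥ ∧ (∀ x ∈ P, ∀ v ∈ T, ρ x v ∈ T) ∧ Module.finrank K T = m :=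
    ⟨_, S, le_rfl, hne, hS, rfl⟩
  obtain ⟨T, hTS, hT0, hTinv, hTn⟩ := Nat.find_spec hex
  obtain ⟨v, hvT, hv0⟩ := Submodule.exists_mem_ne_zero_of_ne_bot hT0
  refine ⟨v, hTS hvT, hv0, fun x hx => ?_⟩
  let N : Subgroup P :=
    { carrier := {y | ∀ w ∈ T, ρ (y : X) w = w}
      one_mem' := fun w _ => by simp
      mul_mem' := fun {a b} ha hb w hw => by
        show ρ ((a : X) * b) w = w
        rw [map_mul, Module.End.mul_apply, hb w hw, ha w hw]
      inv_mem' := fun {a} ha w hw => by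
        show ρ (a : X)⁻¹ w = w
        conv_lhs => rw [← ha w hw]
        rw [← Module.End.mul_apply, ← map_mul, inv_mul_cancel, map_one, Module.End.one_apply] }
  suffices hN : N = ⊤ by exact (hN.ge (Subgroup.mem_top (⟨x, hx⟩ : P)) : ∀ w ∈ T, ρ x w = w) v hvT
  haveI : N.Normal := ⟨fun y hy g w hw => by
    show ρ ((g : X) * y * (g : X)⁻¹) w = w
    rw [map_mul, map_mul, Module.End.mul_apply, Module.End.mul_apply, hy _ (hTinv _ (inv_mem g.2) w hw),
      ← Module.End.mul_apply, ← map_mul, mul_inv_cancel, map_one, Module.End.one_apply]⟩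
  by_contra hNne
  haveI : Nontrivial (P ⧸ N) := QuotientGroup.nontrivial_iff.2 hNne
  haveI := (hP.to_quotient N).center_nontrivial
  obtain ⟨⟨q, hq⟩, hq1⟩ := exists_ne (1 : Subgroup.center (P ⧸ N))
  obtain ⟨z, rfl⟩ := QuotientGroup.mk'_surjective N q
  refine hq1 (Subtype.ext ((QuotientGroup.eq_one_iff z).2 ?_))
  have hcomm : ∀ y : P, ∀ w ∈ T, ρ (z : X) (ρ (y : X) w) = ρ (y : X) (ρ (z : X) w) := by
    intro y w hw
    have h1 : (z * y)⁻¹ * (y * z) ∈ N := QuotientGroup.eq.1 (Subgroup.mem_center_iff.1 hq (y : P ⧸ N)).symm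
    have h2 := h1 w hw
    have e : (y : X) * z = (z : X) * y * (((z * y)⁻¹ * (y * z) : P) : X) := by simp [mul_assoc]
    conv_rhs => rw [← Module.End.mul_apply, ← map_mul, e, map_mul, Module.End.mul_apply, h2, map_mul,
      Module.End.mul_apply]
  obtain ⟨i, hi⟩ := hP z
  have hzi : ρ (z : X) ^ p ^ i = 1 := by
    rw [← map_pow, show (z : X) ^ p ^ i = 1 from congrArg Subtype.val hi, map_one]
  obtain ⟨m, hmT, hm0, hmfix⟩ :=
    HallHigmanB.exists_fixed_of_pow (p := p) (ρ (z : X)) hzi T (fun w hw => hTinv _ z.2 w hw) hT0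
  set T' : Submodule K W := T ⊓ LinearMap.eqLocus (ρ (z : X)) LinearMap.id with hT'
  have hT'T : T' = T := by
    by_contra hne'
    refine Nat.find_min hex (hTn ▸ Submodule.finrank_lt_finrank_of_lt (lt_of_le_of_ne inf_le_left hne'))
      ⟨T', inf_le_left.trans hTS, fun e => hm0 ((Submodule.mem_bot K).1 (e.le (Submodule.mem_inf.2 ⟨hmT, hmfix⟩))), ?_, rfl⟩
    rintro y hy w ⟨hwT, hwfix⟩
    refine ⟨hTinv y hy w hwT, ?_⟩
    show ρ (z : X) (ρ y w) = ρ y w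
    rw [hcomm ⟨y, hy⟩ w hwT, show ρ (z : X) w = w from hwfix]
  exact fun w hw => (hT'T.ge hw).2

/-- The characteristic differs from the order of `R`. -/
theorem char_ne {p r : ℕ} [Fact p.Prime] [CharP K p] [Nontrivial W] (ρ : X →* Module.End K W) {R : Subgroup X}
    (hR : Nat.card R = r) (hfix : ∀ v : W, (∀ σ ∈ R, ρ σ v = v) → v = 0) : p ≠ r := by
  rintro rfl
  obtain ⟨v, -, hv0, hv⟩ := exists_fixed_vector ρ (IsPGroup.of_card (n := 1) (by rw [pow_one]; exact hR))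
    (S := (⊤ : Submodule K W)) (fun _ _ _ _ => Submodule.mem_top) top_ne_bot
  exact hv0 (hfix v hv)

theorem natCast_ne_zero {p q : ℕ} [Fact p.Prime] [CharP K p] (hq : q.Prime) (h : p ≠ q) : (q : K) ≠ 0 :=
  fun h0 => h ((Nat.prime_dvd_prime_iff_eq (Fact.out : p.Prime) hq).1 ((CharP.cast_eq_zero_iff K p q).1 h0))

variable [IsAlgClosed K]

/-- An invariant `q`-subgroup, `q` different from the characteristic, is centralised, unless `q = 2`, `r` is a
Fermat prime and it is not abelian. -/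
theorem centralized_of_q {q r : ℕ} [Fact q.Prime] [Fact r.Prime] (hqr : q ≠ r) (hqK : (q : K) ≠ 0)
    (hrK : (r : K) ≠ 0) (ρ : X →* Module.End K W) (hρ : Function.Injective ρ) {R U : Subgroup X}
    (hR : Nat.card R = r) (hfix : ∀ v : W, (∀ σ ∈ R, ρ σ v = v) → v = 0) (hU : IsPGroup q U)
    (hexc : q = 2 → (∃ m, r = 2 ^ m + 1) → IsMulCommutative U) (hRU : R ≤ Subgroup.normalizer (U : Set X)) :
    U ≤ Subgroup.centralizer (R : Set X) := by
  intro x hx
  rw [Subgroup.mem_centralizer_iff]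
  intro σ hσ
  have h := QGroupModule.action_trivial (E := R) hqr hqK hrK hR hU hexc (conjAut R U hRU) (ρ.comp U.subtype)
    (ρ.comp R.subtype) (fun s y => by
      show ρ s * ρ y = ρ ((s : X) * y * (s : X)⁻¹) * ρ s
      rw [← map_mul, ← map_mul, inv_mul_cancel_right])
    (fun v hv => hfix v fun σ hσ => hv ⟨σ, hσ⟩) ⟨σ, hσ⟩ ⟨x, hx⟩
  exact mul_inv_eq_iff_eq_mul.1 (hρ h)

end CfsgLib.FlavellA
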