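import Cfsg.Agent.Lib.FlavellA.DInvolution
import Cfsg.Agent.Lib.CoprimeGen

/-!
The minimal configuration of LEMMA A and the structure of its invariant subgroups containing `D`.

Blueprint: `blueprint/FlavellA.md`, sections 1 and 2.
-/

set_option autoImplicit false
set_option linter.unusedSectionVars false
set_option linter.style.haveILetI false

namespace CfsgLib.FlavellA

open scoped commutatorElement Pointwise

universe u

variable {X : Type u} [Group X]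

/-- The centre of `G`, inside the ambient group. -/
def zentr (G : Subgroup X) : Subgroup X := G ⊓ Subgroup.centralizer (G : Set X)

theorem mem_zentr_comm {G : Subgroup X} {z x : X} (hz : z ∈ zentr G) (hx : x ∈ G) : x * z = z * x :=
  Subgroup.mem_centralizer_iff.1 hz.2 x hx

/-- The centraliser of `T` modulo the centre of `G`. -/
def cmod (G : Subgroup X) (T : Set X) : Subgroup X where
  carrier := {x | x ∈ G ∧ ∀ t ∈ T, ⁅x, t⁆ ∈ zentr G}
  one_mem' := ⟨one_mem G, fun t _ => by rw [commutatorElement_one_left]; exact one_mem _⟩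
  mul_mem' := by
    rintro a b ⟨ha, ha'⟩ ⟨hb, hb'⟩
    refine ⟨mul_mem ha hb, fun t ht => ?_⟩
    have h1 := mem_zentr_comm (hb' t ht) ha
    have e : ⁅a * b, t⁆ = ⁅b, t⁆ * ⁅a, t⁆ := by
      calc ⁅a * b, t⁆ = a * ⁅b, t⁆ * a⁻¹ * ⁅a, t⁆ := by simp only [commutatorElement_def]; group
        _ = ⁅b, t⁆ * ⁅a, t⁆ := by rw [h1]; group
    rw [e]
    exact mul_mem (hb' t ht) (ha' t ht)
  inv_mem' := by
    rintro a ⟨ha, ha'⟩
    refine ⟨inv_mem ha, fun t ht => ?_⟩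
    have h1 := mem_zentr_comm (ha' t ht) (inv_mem ha)
    have e : ⁅a⁻¹, t⁆ = (⁅a, t⁆)⁻¹ := by
      calc ⁅a⁻¹, t⁆ = (a⁻¹ * ⁅a, t⁆ * a)⁻¹ := by simp only [commutatorElement_def]; group
        _ = (⁅a, t⁆)⁻¹ := by rw [h1]; group
    rw [e]
    exact inv_mem (ha' t ht)

theorem mem_cmod {G : Subgroup X} {T : Set X} {x : X} :
    x ∈ cmod G T ↔ x ∈ G ∧ ∀ t ∈ T, ⁅x, t⁆ ∈ zentr G := Iff.rfl

/-- The minimal configuration. -/
structure Setup (G R S D Z Zc : Subgroup X) (p r n : ℕ) : Prop where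
  data : DData R D Z Zc r n
  pprime : p.Prime
  p_two : p ≠ 2
  p_r : p ≠ r
  normG : R ≤ Subgroup.normalizer (G : Set X)
  cop : (Nat.card G).Coprime r
  simple : ∀ N ≤ G, G ≤ Subgroup.normalizer (N : Set X) → N ≤ Subgroup.centralizer (G : Set X) ∨ N = G
  perfect : ⁅G, G⁆ = G
  centR : zentr G ≤ Subgroup.centralizer (R : Set X)
  centP : ∀ P ≤ zentr G, IsPGroup p P → P = ⊥
  loc : ∀ M ≤ G, M ≠ G → R ≤ Subgroup.normalizer (M : Set X) →
    ∃ Q ≤ ⁅M, R⁆, IsPGroup p Q ∧ ⁅M, R⁆ ≤ Subgroup.normalizer (Q : Set X) ∧ ∀ x ∈ ⁅M, R⁆, ∃ j, x ^ 2 ^ j ∈ Q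
  S_le : S ≤ G
  S_two : IsPGroup 2 S
  S_norm : R ≤ Subgroup.normalizer (S : Set X)
  S_max : ∀ P ≤ G, IsPGroup 2 P → Nat.card P ∣ Nat.card S
  D_eq : D = ⁅S, R⁆
  Zc_eq : Zc = Z ⊓ Subgroup.centralizer (G : Set X)
  D_ne : D ≠ ⊥

namespace Setup

variable [Finite X] {G R S D Z Zc : Subgroup X} {p r n : ℕ} (h : Setup G R S D Z Zc p r n)
include h

theorem R_solvable : Group.IsSolvable R := by
  haveI : Fact r.Prime := ⟨h.data.rprime⟩
  haveI : IsCyclic R := isCyclic_of_prime_card h.data.cardR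
  letI : CommGroup R := IsCyclic.commGroup
  exact Group.isSolvable_of_comm fun a b => mul_comm a b

theorem cop_le {M : Subgroup X} (hM : M ≤ G) : (Nat.card R).Coprime (Nat.card M) := by
  rw [h.data.cardR]
  exact (Nat.Coprime.coprime_dvd_left (Subgroup.card_dvd_of_le hM) h.cop).symm

theorem D_le_S : D ≤ S := h.D_eq.le.trans (CfsgLib.commutator_le_of_le_normalizer h.S_norm)

theorem D_le_G : D ≤ G := h.D_le_S.trans h.S_le

theorem S_normalizes_D : S ≤ Subgroup.normalizer (D : Set X) := by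
  rw [h.D_eq]
  exact CfsgLib.left_le_normalizer_commutator R S

theorem Z_le_G : Z ≤ G := h.data.Z_le.trans h.D_le_G

theorem mem_Zc {z : X} (hz : z ∈ Z) (hc : z ∈ zentr G) : z ∈ Zc := h.Zc_eq.ge ⟨hz, hc.2⟩

theorem Zc_le_zentr : Zc ≤ zentr G := fun z hz =>
  ⟨h.Z_le_G (h.data.Zc_le hz), (h.Zc_eq.le hz).2⟩

theorem S_normalizes_Z {s z : X} (hs : s ∈ S) (hz : z ∈ Z) (hfix : ∀ σ ∈ R, σ * s = s * σ) : s * z * s⁻¹ ∈ Z := by
  refine h.data.mem_Z ((Subgroup.mem_normalizer_iff.1 (h.S_normalizes_D hs) z).1 (h.data.Z_le hz)) fun σ hσ => ?_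
  calc σ * (s * z * s⁻¹) = (σ * s) * z * s⁻¹ := by group
    _ = s * (σ * z) * s⁻¹ := by rw [hfix σ hσ]; group
    _ = s * z * (σ * s⁻¹) := by rw [h.data.Z_centralized hz hσ]; group
    _ = s * z * s⁻¹ * σ := by
      have : σ * s⁻¹ = s⁻¹ * σ := by
        calc σ * s⁻¹ = s⁻¹ * (s * σ) * s⁻¹ := by group
          _ = s⁻¹ * (σ * s) * s⁻¹ := by rw [hfix σ hσ]
          _ = s⁻¹ * σ := by group
      rw [this]
      group

/-- `S = D T`. -/
theorem exists_decomp {s : X} (hs : s ∈ S) : ∃ d ∈ D, ∃ τ ∈ S, (∀ σ ∈ R, σ * τ = τ * σ) ∧ s = d * τ := by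
  obtain ⟨x, hx, c, hc, e⟩ := CfsgLib.coprime_decomp h.S_norm (h.cop_le h.S_le) (Or.inl h.R_solvable) hs
  exact ⟨x, h.D_eq.ge hx, c, hc.1, fun σ hσ => Subgroup.mem_centralizer_iff.1 hc.2 σ hσ, e⟩

theorem S_le_normalizer_Z : S ≤ Subgroup.normalizer (Z : Set X) := by
  have key : ∀ s ∈ S, ∀ z ∈ Z, s * z * s⁻¹ ∈ Z := by
    intro s hs z hz
    obtain ⟨d, hd, τ, hτ, hfix, rfl⟩ := h.exists_decomp hs
    have h1 := h.S_normalizes_Z hτ hz hfix
    rw [show d * τ * z * (d * τ)⁻¹ = d * (τ * z * τ⁻¹) * d⁻¹ by group, h.data.central _ h1 d hd, mul_inv_cancel_right]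
    exact h1
  intro s hs
  rw [Subgroup.mem_normalizer_iff]
  refine fun z => ⟨key s hs z, fun hz => ?_⟩
  have := key s⁻¹ (inv_mem hs) _ hz
  simpa [mul_assoc] using this

/-- Invariant subgroups containing `D`. -/
theorem loc_D {M : Subgroup X} (hM : M ≤ G) (hMne : M ≠ G) (hRM : R ≤ Subgroup.normalizer (M : Set X))
    (hDM : D ≤ M) : ∃ Q : Subgroup X, Q ≤ M ∧ IsPGroup p Q ∧ M ≤ Subgroup.normalizer (Q : Set X) ∧
      R ≤ Subgroup.normalizer (Q : Set X) ∧ ⁅M, R⁆ = Q ⊔ D ∧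
      (∀ x ∈ M, ∃ q ∈ Q, q⁻¹ * x ∈ Subgroup.normalizer (D : Set X)) ∧
      (∀ P ≤ ⁅M, R⁆, IsPGroup 2 P → ∃ q ∈ Q, ∀ x ∈ P, q⁻¹ * x * q ∈ D) ∧
      (∀ x ∈ ⁅M, R⁆, ∀ i : ℕ, x ^ p ^ i = 1 → x ∈ Q) := by
  haveI : Fact p.Prime := ⟨h.pprime⟩
  haveI : Fact (Nat.Prime 2) := ⟨Nat.prime_two⟩
  obtain ⟨Q, hQK, hQp, hKQ, hQ2⟩ := h.loc M hM hMne hRM
  set K := ⁅M, R⁆ with hK
  have hKM : K ≤ M := CfsgLib.commutator_le_of_le_normalizer hRM
  have hpel : ∀ x ∈ K, ∀ i : ℕ, x ^ p ^ i = 1 → x ∈ Q := by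
    intro x hx i hi
    obtain ⟨j, hj⟩ := hQ2 x hx
    have hcop : IsCoprime ((2 : ℤ) ^ j) ((p : ℤ) ^ i) := by
      have := ((Nat.coprime_primes Nat.prime_two h.pprime).2 (Ne.symm h.p_two)).pow j i
      simpa using (Int.isCoprime_iff_nat_coprime (a := ((2 ^ j : ℕ) : ℤ)) (b := ((p ^ i : ℕ) : ℤ))).2 (by simpa using this)
    obtain ⟨a, b, hab⟩ := hcop
    have e : x = (x ^ 2 ^ j) ^ a := by
      have h1 : (x ^ 2 ^ j) ^ a * (x ^ p ^ i) ^ b = x := by
        rw [← zpow_natCast x (2 ^ j), ← zpow_natCast x (p ^ i), ← zpow_mul, ← zpow_mul, ← zpow_add]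
        push_cast
        rw [mul_comm ((2 : ℤ) ^ j) a, mul_comm ((p : ℤ) ^ i) b, hab, zpow_one]
      rwa [hi, one_zpow, mul_one, eq_comm] at h1
    rw [e]
    exact Q.zpow_mem hj a
  have hnormQ : ∀ g : X, (∀ x, x ∈ K → g * x * g⁻¹ ∈ K) → ∀ q ∈ Q, g * q * g⁻¹ ∈ Q := by
    intro g hg q hq
    obtain ⟨i, hi⟩ := hQp ⟨q, hq⟩
    have hi' : q ^ p ^ i = 1 := congrArg Subtype.val hi
    exact hpel _ (hg q (hQK hq)) i (by rw [conj_pow, hi', mul_one, mul_inv_cancel])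
  have hnQ : ∀ Y : Subgroup X, Y ≤ Subgroup.normalizer (K : Set X) → Y ≤ Subgroup.normalizer (Q : Set X) := by
    intro Y hY y hy
    rw [Subgroup.mem_normalizer_iff]
    refine fun q => ⟨hnormQ y (fun x hx => (Subgroup.mem_normalizer_iff.1 (hY hy) x).1 hx) q, fun hq => ?_⟩
    have := hnormQ y⁻¹ (fun x hx => (Subgroup.mem_normalizer_iff.1 (hY (inv_mem hy)) x).1 hx) _ hq
    simpa [mul_assoc] using this
  have hMQ := hnQ M (CfsgLib.left_le_normalizer_commutator R M)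
  have hRK : R ≤ Subgroup.normalizer (K : Set X) := CfsgLib.right_le_normalizer_commutator R M
  have hRQ := hnQ R hRK
  have hDK : D ≤ K := h.data.gen.ge.trans (Subgroup.commutator_mono hDM le_rfl)
  -- an invariant Sylow 2-subgroup of `K` containing `D`
  obtain ⟨P, hDP, hRP⟩ := CfsgLib.coprime_le_invariant_sylow hRK (h.cop_le (hKM.trans hM)) (Or.inl h.R_solvable)
    hDK h.data.two h.data.norm
  set P2 := (P : Subgroup K).map K.subtype with hP2
  have hP2K : P2 ≤ K := Subgroup.map_subtype_le _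
  have hP2two : IsPGroup 2 P2 := P.2.map _
  have hPD : ⁅P2, R⁆ = D := by
    obtain ⟨S', hPS', hRS'⟩ := CfsgLib.coprime_le_invariant_sylow h.normG (h.cop_le le_rfl) (Or.inl h.R_solvable)
      (hP2K.trans (hKM.trans hM)) hP2two hRP
    obtain ⟨P0, hSP0, hRP0⟩ := CfsgLib.coprime_le_invariant_sylow h.normG (h.cop_le le_rfl) (Or.inl h.R_solvable)
      h.S_le h.S_two h.S_norm
    have hS0 : (P0 : Subgroup G).map G.subtype = S := (Subgroup.eq_of_le_of_card_ge hSP0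
      (Nat.le_of_dvd Nat.card_pos (h.S_max _ (Subgroup.map_subtype_le _) (P0.2.map _)))).symm
    obtain ⟨c, hcR, hc⟩ := CfsgLib.coprime_invariant_sylow_conj h.normG (h.cop_le le_rfl) (Or.inl h.R_solvable)
      P0 S' hRP0 hRS'
    have hS' : (S' : Subgroup G).map G.subtype = S.map (MulAut.conj (c : X)).toMonoidHom := by
      rw [← hS0, ← hc, Sylow.pointwise_smul_def, Subgroup.map_map,
        show MulAut.conj c • (P0 : Subgroup G) = (P0 : Subgroup G).map (MulAut.conj c).toMonoidHom from rfl,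
        Subgroup.map_map]
      congr 1
    have hle : ⁅P2, R⁆ ≤ D.map (MulAut.conj (c : X)).toMonoidHom := by
      have hR' : R.map (MulAut.conj (c : X)).toMonoidHom = R := by
        ext x
        rw [Subgroup.mem_map]
        refine ⟨?_, fun hx => ⟨x, hx, ?_⟩⟩
        · rintro ⟨y, hy, rfl⟩
          show (c : X) * y * (c : X)⁻¹ ∈ R
          rw [← Subgroup.mem_centralizer_iff.1 hcR y hy, mul_inv_cancel_right]
          exact hy
        · show (c : X) * x * (c : X)⁻¹ = x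
          rw [← Subgroup.mem_centralizer_iff.1 hcR x hx, mul_inv_cancel_right]
      calc ⁅P2, R⁆ ≤ ⁅(S' : Subgroup G).map G.subtype, R⁆ := Subgroup.commutator_mono hPS' le_rfl
        _ = ⁅S.map (MulAut.conj (c : X)).toMonoidHom, R.map (MulAut.conj (c : X)).toMonoidHom⁆ := by rw [hS', hR']
        _ = ⁅S, R⁆.map (MulAut.conj (c : X)).toMonoidHom := (Subgroup.map_commutator _ _ _).symm
        _ = _ := by rw [← h.D_eq]
    refine le_antisymm ?_ (h.data.gen.ge.trans (Subgroup.commutator_mono hDP le_rfl))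
    have hge : D ≤ ⁅P2, R⁆ := h.data.gen.ge.trans (Subgroup.commutator_mono hDP le_rfl)
    refine (Subgroup.eq_of_le_of_card_ge hge ?_).ge
    refine (Subgroup.card_le_of_le hle).trans (le_of_eq ?_)
    exact Subgroup.card_map_of_injective (MulAut.conj (c : X)).injective
  have hKdec : Q ⊔ P2 = K := by
    refine Subgroup.eq_of_le_of_card_ge (sup_le hQK hP2K) (Nat.le_of_dvd Nat.card_pos ?_)
    have hidx : ∃ a, Q.relIndex K = 2 ^ a := by
      haveI : (Q.subgroupOf K).Normal :=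
        (Subgroup.normal_subgroupOf_iff_le_normalizer hQK).2 hKQ
      have h2 : IsPGroup 2 (K ⧸ Q.subgroupOf K) := fun x => QuotientGroup.induction_on x fun y => by
        obtain ⟨j, hj⟩ := hQ2 y y.2
        refine ⟨j, ?_⟩
        rw [← QuotientGroup.mk_pow, QuotientGroup.eq_one_iff, Subgroup.mem_subgroupOf]
        exact hj
      obtain ⟨a, ha⟩ := IsPGroup.iff_card.1 h2
      exact ⟨a, by rw [← ha]; rfl⟩
    obtain ⟨a, ha⟩ := hidx
    obtain ⟨b, hb⟩ := IsPGroup.iff_card.1 hQp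
    have hKcard : Nat.card K = p ^ b * 2 ^ a := by
      have := Subgroup.relIndex_mul_relIndex ⊥ Q K bot_le hQK
      rw [Subgroup.relIndex_bot_left, Subgroup.relIndex_bot_left, ha, hb] at this
      exact this.symm
    have hP2c : Nat.card P2 = 2 ^ a := by
      rw [hP2, Subgroup.card_map_of_injective K.subtype_injective, P.card_eq_multiplicity, hKcard]
      congr 1
      rw [Nat.factorization_mul (pow_ne_zero _ h.pprime.ne_zero) (by positivity), Finsupp.add_apply,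
        Nat.Prime.factorization_pow h.pprime, Nat.Prime.factorization_pow Nat.prime_two,
        Finsupp.single_eq_of_ne (Ne.symm h.p_two), zero_add, Finsupp.single_eq_same]
    rw [hKcard]
    refine Nat.Coprime.mul_dvd_of_dvd_of_dvd (((Nat.coprime_primes h.pprime Nat.prime_two).2 h.p_two).pow b a) ?_ ?_
    · rw [← hb]; exact Subgroup.card_dvd_of_le le_sup_left
    · rw [← hP2c]; exact Subgroup.card_dvd_of_le le_sup_right
  have hQDK : Q ⊔ D ≤ K := sup_le hQK hDK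
  have hKQD : K = Q ⊔ D := by
    refine le_antisymm ?_ hQDK
    have hKK : K = ⁅K, R⁆ := (CfsgLib.coprime_commutator_commutator hRM (h.cop_le hM) (Or.inl h.R_solvable)).symm
    rw [hKK, Subgroup.commutator_le]
    intro k hk σ hσ
    rw [← hKdec] at hk
    obtain ⟨q, hq, y, hy, rfl⟩ := CfsgLib.mem_sup_of_le_normalizer (hP2K.trans hKQ) hk
    rw [show ⁅q * y, σ⁆ = q * ⁅y, σ⁆ * (σ * q⁻¹ * σ⁻¹) by simp only [commutatorElement_def]; group]
    exact mul_mem (mul_mem (Subgroup.mem_sup_left hq)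
      (Subgroup.mem_sup_right (hPD.le (Subgroup.commutator_mem_commutator hy hσ))))
      (Subgroup.mem_sup_left ((Subgroup.mem_normalizer_iff.1 (hRQ hσ) _).1 (inv_mem hq)))
  -- `D` is a Sylow 2-subgroup of `K`
  have hconj : ∀ P' ≤ K, IsPGroup 2 P' → ∃ q ∈ Q, ∀ x ∈ P', q⁻¹ * x * q ∈ D := by
    intro P' hP'K hP'
    set PD := P with hPDdef
    have hPDeq : D.subgroupOf K = (PD : Subgroup K) := by
      refine le_antisymm (fun y hy => ?_) fun y hy => ?_
      · obtain ⟨z, hz, e⟩ := hDP (Subgroup.mem_subgroupOf.1 hy)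
        rwa [← K.subtype_injective e]
      · rw [Subgroup.mem_subgroupOf]
        obtain ⟨q, hq, d, hd, e⟩ := CfsgLib.mem_sup_of_le_normalizer (hDK.trans hKQ) (hKQD.le y.2)
        have hqP : q ∈ P2 := by
          have : (y : X) * d⁻¹ ∈ P2 := mul_mem (Subgroup.mem_map_of_mem _ hy) (inv_mem (hDP hd))
          rwa [← e, mul_inv_cancel_right] at this
        obtain ⟨i, hi⟩ := hQp ⟨q, hq⟩
        obtain ⟨j, hj⟩ := hP2two ⟨q, hqP⟩
        have hi' : q ^ p ^ i = 1 := congrArg Subtype.val hi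
        have hj' : q ^ 2 ^ j = 1 := congrArg Subtype.val hj
        have hq1 : q = 1 := by
          have hg := pow_gcd_eq_one.2 ⟨hi', hj'⟩
          rwa [Nat.Coprime.gcd_eq_one (((Nat.coprime_primes h.pprime Nat.prime_two).2 h.p_two).pow i j),
            pow_one] at hg
        rw [← e, hq1, one_mul]
        exact hd
    obtain ⟨PP, hPP⟩ := (hP'.comap_subtype (K := K)).exists_le_sylow
    obtain ⟨k, hk⟩ := MulAction.exists_smul_eq K PD PP
    have hkK : (k : X) ∈ Q ⊔ D := hKQD.le k.2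
    obtain ⟨q, hq, d, hd, e⟩ := CfsgLib.mem_sup_of_le_normalizer (hDK.trans hKQ) hkK
    refine ⟨q, hq, fun x hx => ?_⟩
    have hxP : (⟨x, hP'K hx⟩ : K) ∈ ((MulAut.conj k • PD : Sylow 2 K) : Subgroup K) := by
      rw [← Sylow.smul_def, hk]
      exact hPP hx
    rw [Sylow.pointwise_smul_def, ← hPDeq, Subgroup.mem_pointwise_smul_iff_inv_smul_mem, Subgroup.mem_subgroupOf] at hxP
    have hxP' : (k : X)⁻¹ * x * k ∈ D := by simpa using hxP
    rw [← e] at hxP'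
    have h2 := mul_mem (mul_mem hd hxP') (inv_mem hd)
    rwa [show d * ((q * d)⁻¹ * x * (q * d)) * d⁻¹ = q⁻¹ * x * q by group] at h2
  refine ⟨Q, hQK.trans hKM, hQp, hMQ, hRQ, hKQD, fun x hx => ?_, hconj, hpel⟩
  have hxK := CfsgLib.left_le_normalizer_commutator R M hx
  obtain ⟨q, hq, hqD⟩ := hconj (D.map (MulAut.conj x).toMonoidHom)
    (by
      rintro _ ⟨d, hd, rfl⟩
      exact (Subgroup.mem_normalizer_iff.1 hxK d).1 (hDK hd))
    (h.data.two.map _)
  refine ⟨q, hq, ?_⟩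
  have hle : D.map (MulAut.conj (q⁻¹ * x)).toMonoidHom ≤ D := by
    rintro _ ⟨d, hd, rfl⟩
    have h2 := hqD _ ⟨d, hd, rfl⟩
    show q⁻¹ * x * d * (q⁻¹ * x)⁻¹ ∈ D
    rw [show q⁻¹ * x * d * (q⁻¹ * x)⁻¹ = q⁻¹ * (x * d * x⁻¹) * q by group]
    exact h2
  have heq := Subgroup.eq_of_le_of_card_ge hle
    (le_of_eq (Subgroup.card_map_of_injective (MulAut.conj (q⁻¹ * x)).injective).symm)
  rw [Subgroup.mem_normalizer_iff]
  refine fun d => ⟨fun hd => hle ⟨d, hd, rfl⟩, fun hd => ?_⟩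
  obtain ⟨d', hd', e⟩ := heq.ge hd
  rwa [← (MulAut.conj (q⁻¹ * x)).injective (a₁ := d') (a₂ := d) e]

end Setup

end CfsgLib.FlavellA
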