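import Mathlib
import Cfsg.Agent.Lib.Elementary
import Cfsg.Agent.Lib.FrobAction.QGroupModule

/-!
A 2-group generated by its commutators with a group of prime order, both acting on a module where the group of
prime order fixes only zero: class two, elementary centre, and extraspecial images on the constituents.

Blueprint: `blueprint/FlavellA.md`, section 0.
-/

set_option autoImplicit false
set_option linter.unusedSectionVars false
set_option linter.style.haveILetI false

namespace CfsgLib.FlavellA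

open scoped commutatorElement

universe u v w z

variable {K : Type u} [Field K] [IsAlgClosed K] {E : Type z} [Group E] [Finite E] {H : Type w} [Group H]

/-- The elements fixed by all operators. -/
def fixedGroup (τ : E →* MulAut H) : Subgroup H where
  carrier := {h : H | ∀ σ, τ σ h = h}
  one_mem' σ := map_one _
  mul_mem' {a b} ha hb σ := by rw [map_mul, ha σ, hb σ]
  inv_mem' {a} ha σ := by rw [map_inv, ha σ]

theorem mem_fixedGroup {τ : E →* MulAut H} {h : H} : h ∈ fixedGroup τ ↔ ∀ σ, τ σ h = h := Iff.rfl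

/-- An action on a characteristic or otherwise invariant subgroup. -/
def restrictAct (τ : E →* MulAut H) (M : Subgroup H) (hM : ∀ σ, ∀ x ∈ M, τ σ x ∈ M) : E →* MulAut M where
  toFun σ :=
    { toFun := fun y => ⟨τ σ y, hM σ y y.2⟩
      invFun := fun y => ⟨τ σ⁻¹ y, hM σ⁻¹ y y.2⟩
      left_inv := fun y => Subtype.ext (by
        show τ σ⁻¹ (τ σ y) = y
        rw [← MulAut.mul_apply, ← map_mul, inv_mul_cancel, map_one, MulAut.one_apply])
      right_inv := fun y => Subtype.ext (by
        show τ σ (τ σ⁻¹ y) = y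
        rw [← MulAut.mul_apply, ← map_mul, mul_inv_cancel, map_one, MulAut.one_apply])
      map_mul' := fun a b => Subtype.ext (map_mul (τ σ) (a : H) b) }
  map_one' := MulEquiv.ext fun y => Subtype.ext (by show τ 1 y = _; rw [map_one]; rfl)
  map_mul' a b := MulEquiv.ext fun y => Subtype.ext (by show τ (a * b) y = _; rw [map_mul]; rfl)

/-- The data of the 2-group acting with a group of prime order without fixed points. -/
structure FpfAction (r : ℕ) (τ : E →* MulAut H) {W : Type v} [AddCommGroup W] [Module K W]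
    (α : H →* Module.End K W) (β : E →* Module.End K W) : Prop where
  two : IsPGroup 2 H
  card : Nat.card E = r
  two_ne : (2 : ℕ) ≠ r
  two_cast : ((2 : ℕ) : K) ≠ 0
  r_cast : (r : K) ≠ 0
  gen : Subgroup.closure {x : H | ∃ σ h, x = τ σ h * h⁻¹} = ⊤
  inj : Function.Injective α
  cov : ∀ σ h, β σ * α h = α (τ σ h) * β σ
  fixfree : ∀ v : W, (∀ σ, β σ v = v) → v = 0

theorem commutator_mul_right_of_center (hcl : ∀ a b : H, ⁅a, b⁆ ∈ Subgroup.center H) (g a b : H) :
    ⁅g, a * b⁆ = ⁅g, a⁆ * ⁅g, b⁆ := by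
  have h1 := Subgroup.mem_center_iff.1 (hcl g b) a
  calc ⁅g, a * b⁆ = ⁅g, a⁆ * (a * ⁅g, b⁆) * a⁻¹ := by simp only [commutatorElement_def]; group
    _ = ⁅g, a⁆ * ⁅g, b⁆ := by rw [h1]; group

theorem commutator_mul_left_of_center (hcl : ∀ a b : H, ⁅a, b⁆ ∈ Subgroup.center H) (a b g : H) :
    ⁅a * b, g⁆ = ⁅a, g⁆ * ⁅b, g⁆ := by
  rw [← commutatorElement_inv g, commutator_mul_right_of_center hcl, mul_inv_rev, commutatorElement_inv,
    commutatorElement_inv]
  exact (Subgroup.mem_center_iff.1 (hcl a g) _)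

theorem commutator_pow_left_of_center (hcl : ∀ a b : H, ⁅a, b⁆ ∈ Subgroup.center H) (a g : H) (m : ℕ) :
    ⁅a ^ m, g⁆ = ⁅a, g⁆ ^ m := by
  induction m with
  | zero => simp
  | succ m ih => rw [pow_succ, pow_succ, commutator_mul_left_of_center hcl, ih]

theorem commutator_pow_right_of_center (hcl : ∀ a b : H, ⁅a, b⁆ ∈ Subgroup.center H) (g a : H) (m : ℕ) :
    ⁅g, a ^ m⁆ = ⁅g, a⁆ ^ m := by
  induction m with
  | zero => simp
  | succ m ih => rw [pow_succ, pow_succ, commutator_mul_right_of_center hcl, ih]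

namespace FpfAction

variable [Finite H] {r : ℕ} [Fact r.Prime] {τ : E →* MulAut H} {W : Type v} [AddCommGroup W] [Module K W]
  [FiniteDimensional K W] {α : H →* Module.End K W} {β : E →* Module.End K W} (hA : FpfAction r τ α β)
include hA

/-- An invariant abelian subgroup is fixed. -/
theorem fixed_of_comm {M : Subgroup H} (hinv : ∀ σ, ∀ x ∈ M, τ σ x ∈ M) (hab : ∀ x ∈ M, ∀ y ∈ M, x * y = y * x) :
    M ≤ fixedGroup τ := by
  intro x hx σ
  haveI : IsMulCommutative M := ⟨⟨fun a b => Subtype.ext (hab a a.2 b b.2)⟩⟩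
  exact hA.inj (QGroupModule.action_trivial (q := 2) hA.two_ne hA.two_cast hA.r_cast hA.card (hA.two.to_subgroup M)
    (fun _ _ => inferInstance) (restrictAct τ M hinv) (α.comp M.subtype) β (fun s y => hA.cov s y) hA.fixfree σ
    ⟨x, hx⟩)

/-- A normal fixed subgroup is central. -/
theorem le_center_of_fixed {M : Subgroup H} [hM : M.Normal] (hfix : M ≤ fixedGroup τ) : M ≤ Subgroup.center H := by
  intro c hc
  rw [Subgroup.mem_center_iff]
  intro g
  have hle : Subgroup.closure {x : H | ∃ σ h, x = τ σ h * h⁻¹} ≤ Subgroup.centralizer ({c} : Set H) := by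
    refine (Subgroup.closure_le _).2 ?_
    rintro _ ⟨σ, h, rfl⟩
    rw [SetLike.mem_coe, Subgroup.mem_centralizer_singleton_iff]
    have h1 := hfix (hM.conj_mem c hc h⁻¹) σ
    rw [inv_inv, map_mul, map_mul, map_inv, hfix hc σ] at h1
    calc τ σ h * h⁻¹ * c = τ σ h * (h⁻¹ * c * h) * h⁻¹ := by group
      _ = τ σ h * ((τ σ h)⁻¹ * c * τ σ h) * h⁻¹ := by rw [h1]
      _ = c * (τ σ h * h⁻¹) := by group
  exact Subgroup.mem_centralizer_singleton_iff.1 (hle (hA.gen.ge (Subgroup.mem_top g)))

theorem center_le_fixed : Subgroup.center H ≤ fixedGroup τ := by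
  refine hA.fixed_of_comm (fun σ x hx => ?_) fun x hx y _ => (Subgroup.mem_center_iff.1 hx y).symm
  rw [Subgroup.mem_center_iff] at hx ⊢
  intro g
  have h := congrArg (τ σ) (hx ((τ σ).symm g))
  rwa [map_mul, map_mul, MulEquiv.apply_symm_apply] at h

/-- Class two. -/
theorem commutator_le_center : commutator H ≤ Subgroup.center H := by
  haveI : Fact (Nat.Prime 2) := ⟨Nat.prime_two⟩
  haveI := hA.two.isNilpotent
  set Z := Subgroup.center H with hZ
  set Z2 : Subgroup H := (Subgroup.center (H ⧸ Z)).comap (QuotientGroup.mk' Z) with hZ2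
  haveI : Z2.Normal := Subgroup.Normal.comap inferInstance _
  have hmem : ∀ x ∈ Z2, ∀ y, ⁅x, y⁆ ∈ Z := by
    intro x hx y
    rw [← QuotientGroup.eq_one_iff]
    show QuotientGroup.mk' Z ⁅x, y⁆ = 1
    rw [map_commutatorElement, commutatorElement_eq_one_iff_mul_comm]
    exact (Subgroup.mem_center_iff.1 hx _).symm
  have h1 : ⁅Z2, (⊤ : Subgroup H)⁆ ≤ Z := Subgroup.commutator_le.2 fun x hx y _ => hmem x hx y
  have hz : ⁅Z, (⊤ : Subgroup H)⁆ = ⊥ := by
    rw [eq_bot_iff, Subgroup.commutator_le]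
    intro x hx y _
    rw [Subgroup.mem_bot, commutatorElement_eq_one_iff_mul_comm]
    exact (Subgroup.mem_center_iff.1 hx y).symm
  have h2 : ⁅commutator H, Z2⁆ = ⊥ := by
    rw [commutator_def]
    refine Subgroup.commutator_commutator_eq_bot_of_rotate ?_ ?_
    · rw [Subgroup.commutator_comm ⊤ Z2]
      exact le_bot_iff.1 ((Subgroup.commutator_mono h1 le_rfl).trans hz.le)
    · exact le_bot_iff.1 ((Subgroup.commutator_mono h1 le_rfl).trans hz.le)
  have hNZ : commutator H ⊓ Z2 ≤ Z := by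
    haveI : (commutator H ⊓ Z2).Normal := Subgroup.normal_inf_normal _ _
    refine hA.le_center_of_fixed (hA.fixed_of_comm (fun σ x hx => ⟨?_, ?_⟩) fun x hx y hy => ?_)
    · haveI : (commutator H).Characteristic := by rw [commutator_def]; exact Subgroup.commutator_characteristic _ _
      have := (Subgroup.characteristic_iff_map_eq.1 inferInstance (τ σ)).le
        (Subgroup.mem_map_of_mem (τ σ).toMonoidHom hx.1)
      exact this
    · show QuotientGroup.mk' Z (τ σ x) ∈ Subgroup.center (H ⧸ Z)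
      rw [Subgroup.mem_center_iff]
      intro g
      obtain ⟨g, rfl⟩ := QuotientGroup.mk'_surjective Z g
      have hg := hmem x hx.2 ((τ σ).symm g)
      have : ⁅τ σ x, g⁆ ∈ Z := by
        have e : τ σ ⁅x, (τ σ).symm g⁆ = ⁅τ σ x, g⁆ := by rw [map_commutatorElement, MulEquiv.apply_symm_apply]
        rw [← e, (hA.center_le_fixed hg) σ]
        exact hg
      rw [← QuotientGroup.eq_one_iff] at this
      change QuotientGroup.mk' Z ⁅τ σ x, g⁆ = 1 at this
      rw [map_commutatorElement, commutatorElement_eq_one_iff_mul_comm] at this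
      exact this.symm
    · have := h2.le (Subgroup.commutator_mem_commutator hx.1 hy.2)
      rwa [Subgroup.mem_bot, commutatorElement_eq_one_iff_mul_comm] at this
  by_contra hne
  set Nb := (commutator H).map (QuotientGroup.mk' Z) with hNb
  haveI : Nb.Normal := Subgroup.Normal.map inferInstance _ (QuotientGroup.mk'_surjective _)
  have hNb1 : Nb ≠ ⊥ := fun h => hne fun x hx => (QuotientGroup.eq_one_iff x).1
    (Subgroup.mem_bot.1 (h.le (Subgroup.mem_map_of_mem _ hx)))
  obtain ⟨⟨_, ⟨x, hx, rfl⟩, hc⟩, hne1⟩ :=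
    (Subgroup.ne_bot_iff_exists_ne_one).1 (CfsgLib.inf_center_ne_bot_of_nilpotent (N := Nb) hNb1)
  exact hne1 (Subtype.ext ((QuotientGroup.eq_one_iff x).2 (hNZ ⟨hx, hc⟩)))

theorem comm_central (a b : H) : ⁅a, b⁆ ∈ Subgroup.center H :=
  hA.commutator_le_center (Subgroup.commutator_mem_commutator (Subgroup.mem_top a) (Subgroup.mem_top b))

theorem fixed_le_commutator : fixedGroup τ ≤ commutator H := by
  classical
  intro c hc
  letI : CommGroup (H ⧸ commutator H) := inferInstanceAs (CommGroup (Abelianization H))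
  letI : Fintype E := Fintype.ofFinite E
  let f : H →* H ⧸ commutator H :=
    { toFun := fun h => ∏ σ : E, QuotientGroup.mk' _ (τ σ h)
      map_one' := by simp
      map_mul' := fun a b => by simp [Finset.prod_mul_distrib] }
  have hf : ∀ s h, f (τ s h) = f h := fun s h => by
    show ∏ σ : E, QuotientGroup.mk' _ (τ σ (τ s h)) = ∏ σ : E, QuotientGroup.mk' _ (τ σ h)
    exact Fintype.prod_equiv (Equiv.mulRight s) _ _ fun σ => by rw [Equiv.coe_mulRight, map_mul, MulAut.mul_apply]
  have hker : f.ker = ⊤ := top_unique (hA.gen.ge.trans ((Subgroup.closure_le _).2 (by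
    rintro _ ⟨σ, h, rfl⟩
    rw [SetLike.mem_coe, MonoidHom.mem_ker, map_mul, hf, map_inv, mul_inv_cancel])))
  have h1 : QuotientGroup.mk' (commutator H) (c ^ r) = 1 := by
    have h0 : f c = 1 := hker.ge (Subgroup.mem_top c)
    have h2 : f c = QuotientGroup.mk' (commutator H) c ^ r := by
      show ∏ σ : E, QuotientGroup.mk' _ (τ σ c) = _
      rw [Finset.prod_congr rfl fun σ _ => by rw [hc σ], Finset.prod_const, Finset.card_univ,
        ← Nat.card_eq_fintype_card, hA.card]
    rw [map_pow, ← h2, h0]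
  have hcop : Nat.Coprime (Nat.card H) r := by
    haveI : Fact (Nat.Prime 2) := ⟨Nat.prime_two⟩
    obtain ⟨k, hk⟩ := IsPGroup.iff_card.1 hA.two
    rw [hk]
    exact Nat.Coprime.pow_left _ ((Nat.coprime_primes Nat.prime_two (Fact.out : r.Prime)).2 hA.two_ne)
  have hmem : c ^ r ∈ commutator H := (QuotientGroup.eq_one_iff _).1 h1
  obtain ⟨y, hy⟩ := (powCoprime hcop).surjective c
  obtain ⟨m, hm⟩ : ∃ m : ℤ, (c ^ r) ^ m = c := by
    obtain ⟨a, b, hab⟩ : ∃ a b : ℤ, a * (Nat.card H : ℤ) + b * r = 1 :=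
      Int.isCoprime_iff_nat_coprime.2 (by simpa using hcop)
    refine ⟨b, ?_⟩
    have hN : c ^ ((Nat.card H : ℤ)) = 1 := by rw [zpow_natCast, pow_card_eq_one']
    calc (c ^ r) ^ b = c ^ (a * (Nat.card H : ℤ) + b * r) := by
          rw [zpow_add, mul_comm a, zpow_mul, hN, one_zpow, one_mul, mul_comm b, zpow_mul, zpow_natCast]
      _ = c := by rw [hab, zpow_one]
  exact hm ▸ (commutator H).zpow_mem hmem m

theorem fixed_eq_center : fixedGroup τ = Subgroup.center H :=
  le_antisymm (hA.fixed_le_commutator.trans hA.commutator_le_center) hA.center_le_fixed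

theorem center_eq_commutator : Subgroup.center H = commutator H :=
  le_antisymm (hA.center_le_fixed.trans hA.fixed_le_commutator) hA.commutator_le_center

/-- Squares are central. -/
theorem sq_mem_center (x : H) : x * x ∈ Subgroup.center H := by
  classical
  haveI : Fact (Nat.Prime 2) := ⟨Nat.prime_two⟩
  have hex : ∃ e, ∀ y : H, y ^ 2 ^ e ∈ Subgroup.center H := by
    obtain ⟨k, hk⟩ := IsPGroup.iff_card.1 hA.two
    exact ⟨k, fun y => by rw [← hk, pow_card_eq_one']; exact one_mem _⟩
  rcases Nat.lt_or_ge (Nat.find hex) 2 with he | he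
  · have h := Nat.find_spec hex x
    interval_cases he' : Nat.find hex
    · rw [pow_zero, pow_one] at h; exact mul_mem h h
    · rwa [pow_one, pow_two] at h
  exfalso
  obtain ⟨e, he2⟩ : ∃ e, Nat.find hex = e + 1 := ⟨Nat.find hex - 1, by omega⟩
  have hspec : ∀ y : H, y ^ 2 ^ (e + 1) ∈ Subgroup.center H := he2 ▸ Nat.find_spec hex
  set s : Set H := {y | ∃ h : H, y = h ^ 2 ^ e} ∪ (Subgroup.center H : Set H) with hs
  have hcl := hA.comm_central
  have hcomm : ∀ a ∈ s, ∀ b ∈ s, a * b = b * a := by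
    rintro a (⟨h, rfl⟩ | ha) b hb
    · rcases hb with ⟨h', rfl⟩ | hb
      · rw [← commutatorElement_eq_one_iff_mul_comm, commutator_pow_left_of_center hcl,
          commutator_pow_right_of_center hcl, ← pow_mul]
        obtain ⟨d, hd⟩ : 2 ^ (e + 1) ∣ 2 ^ e * 2 ^ e := by
          rw [← pow_add]
          exact pow_dvd_pow 2 (by omega)
        rw [mul_comm, hd, pow_mul, ← commutator_pow_left_of_center hcl,
          commutatorElement_eq_one_iff_mul_comm.2 (Subgroup.mem_center_iff.1 (hspec h) h').symm, one_pow]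
      · exact Subgroup.mem_center_iff.1 hb _
    · exact (Subgroup.mem_center_iff.1 ha b).symm
  haveI := Subgroup.isMulCommutative_closure hcomm
  set M := Subgroup.closure s with hM
  have hCM : commutator H ≤ M := hA.center_eq_commutator.ge.trans fun y hy => Subgroup.subset_closure (Or.inr hy)
  haveI : M.Normal := ⟨fun m hm g => by
    rw [show g * m * g⁻¹ = ⁅g, m⁆ * m by rw [commutatorElement_def]; group]
    exact mul_mem (hCM (Subgroup.commutator_mem_commutator (Subgroup.mem_top g) (Subgroup.mem_top m))) hm⟩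
  have hinv : ∀ σ, ∀ y ∈ M, τ σ y ∈ M := by
    intro σ y hy
    have hle : M ≤ M.comap (τ σ).toMonoidHom := by
      refine (Subgroup.closure_le _).2 ?_
      rintro z (⟨h, rfl⟩ | hz)
      · exact Subgroup.subset_closure (Or.inl ⟨τ σ h, map_pow _ _ _⟩)
      · refine Subgroup.subset_closure (Or.inr ?_)
        have := (Subgroup.characteristic_iff_map_eq.1 inferInstance (τ σ)).le
          (Subgroup.mem_map_of_mem (K := Subgroup.center H) (τ σ).toMonoidHom hz)
        exact this
    exact hle hy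
  have hle : M ≤ Subgroup.center H := hA.le_center_of_fixed
    (hA.fixed_of_comm hinv fun a ha b hb => congrArg Subtype.val (mul_comm' (⟨a, ha⟩ : M) ⟨b, hb⟩))
  exact Nat.find_min hex (show e < Nat.find hex by omega)
    fun y => hle (Subgroup.subset_closure (Or.inl ⟨y, rfl⟩))

/-- The centre is elementary. -/
theorem center_sq {c : H} (hc : c ∈ Subgroup.center H) : c * c = 1 := by
  rw [hA.center_eq_commutator, commutator_def, Subgroup.commutator_def] at hc
  have hle : Subgroup.closure {g : H | ∃ a ∈ (⊤ : Subgroup H), ∃ b ∈ (⊤ : Subgroup H), ⁅a, b⁆ = g} ≤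
      { carrier := {c : H | c ∈ Subgroup.center H ∧ c * c = 1}
        one_mem' := ⟨one_mem _, mul_one 1⟩
        mul_mem' := fun {a b} ha hb => ⟨mul_mem ha.1 hb.1, by
          rw [← mul_assoc, mul_assoc a b a, Subgroup.mem_center_iff.1 ha.1 b, ← mul_assoc, ha.2, one_mul, hb.2]⟩
        inv_mem' := fun {a} ha => ⟨inv_mem ha.1, by rw [← mul_inv_rev, ha.2, inv_one]⟩ } := by
    refine (Subgroup.closure_le _).2 ?_
    rintro _ ⟨a, -, b, -, rfl⟩
    refine ⟨hA.comm_central a b, ?_⟩
    rw [← commutator_mul_left_of_center hA.comm_central]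
    exact commutatorElement_eq_one_iff_mul_comm.2 (Subgroup.mem_center_iff.1 (hA.sq_mem_center a) b).symm
  exact (hle hc).2

/-- A constituent on which an involutory central element acts as minus one and the centre by scalars. -/
theorem exists_scalar_sub {c0 : H} (hc0 : c0 ∈ Subgroup.center H) (hc01 : c0 ≠ 1) :
    ∃ (S : Submodule K W) (hα : ∀ h, ∀ v ∈ S, α h v ∈ S) (_ : ∀ σ, ∀ v ∈ S, β σ v ∈ S), S ≠ ⊥ ∧
      (∀ v ∈ S, α c0 v = -v) ∧ ∀ z ∈ Subgroup.center H, ∃ c : K, ∀ v ∈ S, α z v = c • v := by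
  classical
  let Inv : Submodule K W → Prop := fun S => (∀ h, ∀ v ∈ S, α h v ∈ S) ∧ (∀ σ, ∀ v ∈ S, β σ v ∈ S)
  have hcen : ∀ z ∈ Subgroup.center H, ∀ h, α h * α z = α z * α h := fun z hz h => by
    rw [← map_mul, ← map_mul, Subgroup.mem_center_iff.1 hz h]
  have hfixZ : ∀ z ∈ Subgroup.center H, ∀ σ, β σ * α z = α z * β σ := fun z hz σ => by
    rw [hA.cov, hA.center_le_fixed hz σ]
  have heig : ∀ z ∈ Subgroup.center H, ∀ (c : K) (S : Submodule K W), Inv S → Inv (S ⊓ (α z).eigenspace c) := by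
    intro z hz c S hS
    refine ⟨fun h v hv => ?_, fun σ v hv => ?_⟩ <;>
      rw [Submodule.mem_inf, Module.End.mem_eigenspace_iff] at hv ⊢
    · exact ⟨hS.1 h v hv.1, by rw [← Module.End.mul_apply, ← hcen z hz h, Module.End.mul_apply, hv.2, map_smul]⟩
    · exact ⟨hS.2 σ v hv.1, by rw [← Module.End.mul_apply, ← hfixZ z hz σ, Module.End.mul_apply, hv.2, map_smul]⟩
  have hU0 : (α c0).eigenspace (-1) ≠ ⊥ := by
    intro hbot
    refine hc01 (hA.inj (?_ : α c0 = α 1))
    rw [map_one]
    refine LinearMap.ext fun v => ?_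
    have hmem : α c0 v - v ∈ (α c0).eigenspace (-1) := by
      rw [Module.End.mem_eigenspace_iff, map_sub, ← Module.End.mul_apply, ← map_mul, hA.center_sq hc0, map_one]
      simp
    rw [hbot, Submodule.mem_bot, sub_eq_zero] at hmem
    exact hmem
  have hex : ∃ m, ∃ S : Submodule K W, S ≠ ⊥ ∧ S ≤ (α c0).eigenspace (-1) ∧ Inv S ∧ Module.finrank K S = m := by
    refine ⟨_, _, hU0, le_rfl, ?_, rfl⟩
    have h := heig c0 hc0 (-1) ⊤ ⟨fun _ _ _ => Submodule.mem_top, fun _ _ _ => Submodule.mem_top⟩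
    rwa [top_inf_eq] at h
  obtain ⟨S, hS0, hSc, hSinv, hSn⟩ := Nat.find_spec hex
  haveI : Nontrivial S := Submodule.nontrivial_iff_ne_bot.2 hS0
  refine ⟨S, hSinv.1, hSinv.2, hS0, fun v hv => by simpa using Module.End.mem_eigenspace_iff.1 (hSc hv),
    fun z hz => ?_⟩
  obtain ⟨c, hc⟩ := Module.End.exists_eigenvalue ((α z).restrict (hSinv.1 z))
  obtain ⟨u, hu, hu0⟩ := Submodule.exists_mem_ne_zero_of_ne_bot hc
  have hu' : α z u = c • (u : W) := congrArg Subtype.val (Module.End.mem_eigenspace_iff.1 hu)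
  have hT : S ⊓ (α z).eigenspace c = S := by
    by_contra hne
    have hlt := Submodule.finrank_lt_finrank_of_lt (lt_of_le_of_ne (inf_le_left (a := S)) hne)
    refine Nat.find_min hex (hSn ▸ hlt) ⟨_, ?_, inf_le_left.trans hSc, heig z hz c S hSinv, rfl⟩
    intro hbot
    have hmem : (u : W) ∈ S ⊓ (α z).eigenspace c := ⟨u.2, Module.End.mem_eigenspace_iff.2 hu'⟩
    rw [hbot, Submodule.mem_bot] at hmem
    exact hu0 (Subtype.ext hmem)
  exact ⟨c, fun v hv => Module.End.mem_eigenspace_iff.1 (Submodule.mem_inf.1 (hT.symm ▸ hv : v ∈ S ⊓ _)).2⟩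

set_option maxHeartbeats 400000 in
/-- A central element different from one lies outside the kernel of a constituent with extraspecial image. -/
theorem exists_constituent {c0 : H} (hc0 : c0 ∈ Subgroup.center H) (hc01 : c0 ≠ 1) :
    ∃ L : Subgroup H, L.Normal ∧ c0 ∉ L ∧ (∀ z ∈ Subgroup.center H, z ∈ L ∨ z * c0 ∈ L) ∧ (∀ z, α z = -1 → z ∉ L) ∧
      ∃ (rad : Subgroup H) (n : ℕ), r = 2 ^ n + 1 ∧ rad.index = 2 ^ (2 * n) ∧
        (∀ x, x ∈ rad ↔ ∀ y, ⁅x, y⁆ ∈ L) ∧ (∀ x ∈ rad, x * x ∈ L) := by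
  classical
  haveI : Fact (Nat.Prime 2) := ⟨Nat.prime_two⟩
  have hHK : (Nat.card H : K) ≠ 0 := by
    obtain ⟨k, hk⟩ := IsPGroup.iff_card.1 hA.two
    rw [hk, Nat.cast_pow]
    exact pow_ne_zero _ hA.two_cast
  obtain ⟨S0, hαS, hβS, hS0, hneg, hscal0⟩ := hA.exists_scalar_sub hc0 hc01
  let α0 : H →* Module.End K S0 :=
    { toFun := fun h => (α h).restrict (hαS h)
      map_one' := LinearMap.ext fun v => Subtype.ext (by simp)
      map_mul' := fun g h => LinearMap.ext fun v => Subtype.ext (by simp) }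
  let β0 : E →* Module.End K S0 :=
    { toFun := fun h => (β h).restrict (hβS h)
      map_one' := LinearMap.ext fun v => Subtype.ext (by simp)
      map_mul' := fun g h => LinearMap.ext fun v => Subtype.ext (by simp) }
  have hcov0 : ∀ σ h, β0 σ * α0 h = α0 (τ σ h) * β0 σ := fun σ h => LinearMap.ext fun v => Subtype.ext (by
    show β σ (α h v) = α (τ σ h) (β σ v)
    rw [← Module.End.mul_apply, hA.cov, Module.End.mul_apply])
  have hno0 : ∀ v : S0, (∀ σ, β0 σ v = v) → v = 0 := fun v hv =>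
    Subtype.ext (hA.fixfree v fun σ => congrArg Subtype.val (hv σ))
  have hscal : ∀ z ∈ Subgroup.center H, ∃ a : K, α0 z = a • 1 := fun z hz => by
    obtain ⟨a, ha⟩ := hscal0 z hz
    exact ⟨a, LinearMap.ext fun v => Subtype.ext (ha v v.2)⟩
  set c : K := -1 with hcdef
  have hc : α0 c0 = c • 1 := LinearMap.ext fun v => Subtype.ext (by
    show α c0 v = c • (v : W)
    rw [hneg v v.2, hcdef, neg_one_smul])
  have hc1 : c ≠ 1 := fun h => hA.two_cast (by
    have h2 : (1 : K) + 1 = 0 := by nth_rewrite 1 [← h]; rw [hcdef, neg_add_cancel]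
    exact_mod_cast h2)
  haveI : Nontrivial S0 := Submodule.nontrivial_iff_ne_bot.2 hS0
  set L := α0.ker with hL
  obtain ⟨v, hv⟩ := exists_ne (0 : S0)
  have hcinj : ∀ a b : K, a • (1 : Module.End K S0) = b • 1 → a = b := fun a b hab => by
    have := LinearMap.congr_fun hab v
    exact smul_left_injective K hv (by simpa using this)
  have hpm : ∀ z ∈ Subgroup.center H, ∀ a : K, α0 z = a • 1 → a = 1 ∨ a = -1 := by
    intro z hz a ha
    have h1 : α0 (z * z) = (a * a) • 1 := by rw [map_mul, ha, smul_mul_smul_comm, mul_one]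
    rw [hA.center_sq hz, map_one, ← one_smul K (1 : Module.End K S0)] at h1
    exact mul_self_eq_one_iff.1 (hcinj _ _ (by rw [smul_smul, mul_one] at h1; exact h1.symm))
  have hc0L : c0 ∉ L := fun h => hc1 (hcinj _ _ (by rw [one_smul, ← hc]; exact h))
  have hinvL : ∀ σ, L.map (τ σ : H →* H) = L := by
    have half : ∀ σ, ∀ z ∈ L, τ σ z ∈ L := by
      intro σ z hz
      rw [MonoidHom.mem_ker] at hz ⊢
      have hb : β0 σ * β0 σ⁻¹ = 1 := by rw [← map_mul, mul_inv_cancel, map_one]
      calc α0 (τ σ z) = α0 (τ σ z) * (β0 σ * β0 σ⁻¹) := by rw [hb, mul_one]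
        _ = β0 σ * α0 z * β0 σ⁻¹ := by rw [hcov0, mul_assoc]
        _ = 1 := by rw [hz, mul_one, hb]
    intro σ
    refine le_antisymm (by rintro _ ⟨z, hz, rfl⟩; exact half σ z hz) fun z hz => ⟨τ σ⁻¹ z, half _ z hz, ?_⟩
    show τ σ (τ σ⁻¹ z) = z
    rw [← MulAut.mul_apply, ← map_mul, mul_inv_cancel, map_one, MulAut.one_apply]
  let τb : E →* MulAut (H ⧸ L) :=
    { toFun := fun σ => QuotientGroup.congr L L (τ σ) (hinvL σ)
      map_one' := MulEquiv.ext fun x => by
        induction x using QuotientGroup.induction_on with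
        | H h => show QuotientGroup.mk (τ 1 h) = _; rw [map_one]; rfl
      map_mul' := fun a b => MulEquiv.ext fun x => by
        induction x using QuotientGroup.induction_on with
        | H h => show QuotientGroup.mk (τ (a * b) h) = QuotientGroup.mk (τ a (τ b h)); rw [map_mul]; rfl }
  obtain ⟨αb, hαb, hαinj⟩ : ∃ αb : H ⧸ L →* Module.End K S0,
      (∀ x, αb (QuotientGroup.mk x) = α0 x) ∧ Function.Injective αb :=
    ⟨QuotientGroup.lift L α0 fun x hx => hx, fun x => QuotientGroup.lift_mk' L _ x,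
      (injective_iff_map_eq_one _).2 fun a => QuotientGroup.induction_on a fun x hx =>
        (QuotientGroup.eq_one_iff x).2 (by rw [QuotientGroup.lift_mk'] at hx; exact hx)⟩
  have hB : FpfAction r τb αb β0 :=
    { two := hA.two.to_quotient _
      card := hA.card
      two_ne := hA.two_ne
      two_cast := hA.two_cast
      r_cast := hA.r_cast
      gen := top_unique fun x _ => by
        obtain ⟨h, rfl⟩ := QuotientGroup.mk'_surjective L x
        have h1 : Subgroup.closure {x : H | ∃ σ h, x = τ σ h * h⁻¹} ≤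
            (Subgroup.closure {x : H ⧸ L | ∃ σ h, x = τb σ h * h⁻¹}).comap (QuotientGroup.mk' L) := by
          refine (Subgroup.closure_le _).2 ?_
          rintro _ ⟨σ, h, rfl⟩
          exact Subgroup.subset_closure ⟨σ, QuotientGroup.mk' L h, rfl⟩
        exact h1 (hA.gen.ge (Subgroup.mem_top h))
      inj := hαinj
      cov := fun σ a => QuotientGroup.induction_on a fun x => by
        show β0 σ * αb (QuotientGroup.mk x) = αb (QuotientGroup.mk (τ σ x)) * β0 σ
        rw [hαb, hαb, hcov0]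
      fixfree := hno0 }
  have hmap : Subgroup.center (H ⧸ L) = (Subgroup.center H).map (QuotientGroup.mk' L) := by
    rw [hB.center_eq_commutator, hA.center_eq_commutator, commutator_def, commutator_def, Subgroup.map_commutator,
      Subgroup.map_top_of_surjective _ (QuotientGroup.mk'_surjective L)]
  refine ⟨L, inferInstance, hc0L, fun z hz => ?_, fun z hz hzL => hc1 (hcinj _ _ ?_), (Subgroup.center (H ⧸ L)).comap (QuotientGroup.mk' L), ?_⟩
  · obtain ⟨a, ha⟩ := hscal z hz
    have hcm : c = -1 := (hpm c0 hc0 c hc).resolve_left hc1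
    rcases hpm z hz a ha with rfl | rfl
    · exact Or.inl (by rw [MonoidHom.mem_ker, ha, one_smul])
    · exact Or.inr (by rw [MonoidHom.mem_ker, map_mul, ha, hc, hcm, smul_mul_smul_comm, mul_one, neg_mul_neg,
        one_mul, one_smul])
  · have e : (1 : K) • (1 : Module.End K S0) = α0 z := by rw [one_smul]; exact (MonoidHom.mem_ker.1 hzL).symm
    rw [e]
    refine LinearMap.ext fun v => Subtype.ext ?_
    show c • (v : W) = α z v
    rw [hz, hcdef]
    simp
  have hscalb : ∀ z ∈ Subgroup.center (H ⧸ L), ∃ a : K, αb z = a • 1 := by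
    rw [hmap]
    rintro _ ⟨z, hz, rfl⟩
    obtain ⟨a, ha⟩ := hscal z hz
    exact ⟨a, (hαb z).trans ha⟩
  have htop : Subgroup.center (H ⧸ L) ≠ ⊤ := by
    intro h
    refine hc0L ((QuotientGroup.eq_one_iff c0).1 ?_)
    have h1 : commutator (H ⧸ L) = ⊥ := by
      rw [commutator_def, eq_bot_iff, Subgroup.commutator_le]
      intro a _ b _
      rw [Subgroup.mem_bot, commutatorElement_eq_one_iff_mul_comm]
      exact Subgroup.mem_center_iff.1 (h.ge (Subgroup.mem_top b)) a
    have h2 : QuotientGroup.mk' L c0 ∈ Subgroup.center (H ⧸ L) := hmap ▸ Subgroup.mem_map_of_mem _ hc0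
    rw [hB.center_eq_commutator, h1, Subgroup.mem_bot] at h2
    exact h2
  have hcardq : (Nat.card (H ⧸ L) : K) ≠ 0 := by
    obtain ⟨k, hk⟩ := IsPGroup.iff_card.1 hB.two
    rw [hk, Nat.cast_pow]
    exact pow_ne_zero _ hA.two_cast
  obtain ⟨d, hd, hrd⟩ := CfsgLib.SymplecticCore.index_eq r hA.card (Subgroup.center (H ⧸ L)) le_rfl hB.comm_central
    htop τb (fun σ z hz => hB.center_le_fixed hz σ)
    (fun σ hσ h hh => hB.fixed_eq_center.le (QGroupModule.fixed_all hA.card τb hσ
      (QGroupModule.fixed_of_shift 2 hB.two hA.two_ne hA.card τb σ h (hB.center_le_fixed hh σ))))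
    αb hscalb
    (fun h hh => by
      rw [Subgroup.mem_center_iff] at hh
      push_neg at hh
      obtain ⟨g, hg⟩ := hh
      obtain ⟨a, ha⟩ := hscalb _ (hB.comm_central g h)
      refine ⟨g, a, fun h1 => hg (commutatorElement_eq_one_iff_mul_comm.1 (hB.inj ?_)), ha⟩
      rw [ha, h1, one_smul, map_one])
    β0 hB.cov hcardq hA.r_cast hno0
  obtain ⟨m, hm⟩ := hB.two.index (Subgroup.center (H ⧸ L))
  obtain ⟨-, n, hn, hidx⟩ := QGroupModule.fermat_arith Nat.prime_two (Fact.out : r.Prime) hm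
    (fun h => htop (Subgroup.index_eq_one.1 h)) hd hrd
  refine ⟨n, hn, ?_, fun x => ?_, fun x hx => ?_⟩
  · rw [Subgroup.index_comap_of_surjective _ (QuotientGroup.mk'_surjective L), hidx]
  · rw [Subgroup.mem_comap, Subgroup.mem_center_iff]
    constructor
    · intro h y
      rw [← QuotientGroup.eq_one_iff]
      show QuotientGroup.mk' L ⁅x, y⁆ = 1
      rw [map_commutatorElement, commutatorElement_eq_one_iff_mul_comm]
      exact (h _).symm
    · intro h g
      obtain ⟨y, rfl⟩ := QuotientGroup.mk'_surjective L g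
      have h1 := (QuotientGroup.eq_one_iff _).2 (h y)
      change QuotientGroup.mk' L ⁅x, y⁆ = 1 at h1
      rw [map_commutatorElement, commutatorElement_eq_one_iff_mul_comm] at h1
      exact h1.symm
  · rw [Subgroup.mem_comap, hmap] at hx
    obtain ⟨f, hf, hfx⟩ := hx
    rw [← QuotientGroup.eq_one_iff]
    show QuotientGroup.mk' L (x * x) = 1
    rw [map_mul, ← hfx, ← map_mul, hA.center_sq hf, map_one]

end FpfAction

end CfsgLib.FlavellA
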